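import Cfsg.Agent.Lib.ClassicalGroups.HermGroup
import Cfsg.Agent.Lib.Involutions.Basic

/-!
In characteristic two `PSU₃(q)` is not generated by a commuting set of involutions and one more
involution.
-/

set_option autoImplicit false

namespace CfsgLib.RootConnect.UnitaryEnd

open Matrix CfsgLib.ClassicalGroups

variable {F : Type*} [Field F]

local notation "V" => (Fin 3 → F)

/-- Two vectors spanning a totally isotropic space have vanishing minors. -/
theorem minor_eq_zero {a0 a1 a2 b0 b1 b2 : F} {q : ℕ} [ExpChar F 2] (hq : ∃ n, q = 2 ^ n)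
    (h1 : a0 * a0 ^ q + a1 * a1 ^ q + a2 * a2 ^ q = 0) (h2 : b0 * a0 ^ q + b1 * a1 ^ q + b2 * a2 ^ q = 0)
    (h3 : a0 * b0 ^ q + a1 * b1 ^ q + a2 * b2 ^ q = 0) (h4 : b0 * b0 ^ q + b1 * b1 ^ q + b2 * b2 ^ q = 0) :
    a0 * b1 = a1 * b0 := by
  obtain ⟨n, rfl⟩ := hq
  by_contra hne
  have hm : a0 * b1 - a1 * b0 ≠ 0 := sub_ne_zero.2 hne
  have e : (a0 * b1 - a1 * b0) ^ (2 ^ n) * ((a0 * b1 - a1 * b0) * (a0 * b1 - a1 * b0)) = 0 := by
    rw [sub_pow_expChar_pow, mul_pow, mul_pow]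
    grind
  exact mul_ne_zero (pow_ne_zero _ hm) (mul_ne_zero hm hm) e

/-- Proportional vectors. -/
def Dep (u v : V) : Prop := ∀ i j, u i * v j = u j * v i

theorem dep_of_form {u v : V} {q : ℕ} [ExpChar F 2] (hq : ∃ n, q = 2 ^ n)
    (h1 : Cfsg.hermForm 3 F q u u = 0) (h2 : Cfsg.hermForm 3 F q v u = 0)
    (h3 : Cfsg.hermForm 3 F q u v = 0) (h4 : Cfsg.hermForm 3 F q v v = 0) : Dep u v := by
  simp only [Cfsg.hermForm, Fin.sum_univ_three] at h1 h2 h3 h4
  have e01 : u 0 * v 1 = u 1 * v 0 := minor_eq_zero hq h1 h2 h3 h4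
  have e12 : u 1 * v 2 = u 2 * v 1 := minor_eq_zero (a2 := u 0) (b2 := v 0) hq
    (by linear_combination h1) (by linear_combination h2) (by linear_combination h3) (by linear_combination h4)
  have e02 : u 0 * v 2 = u 2 * v 0 := minor_eq_zero (a2 := u 1) (b2 := v 1) hq
    (by linear_combination h1) (by linear_combination h2) (by linear_combination h3) (by linear_combination h4)
  intro i j
  fin_cases i <;> fin_cases j <;>
    first | rfl | exact e01 | exact e01.symm | exact e12 | exact e12.symm | exact e02 | exact e02.symm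

/-- The span of pairwise proportional vectors has dimension at most one. -/
theorem finrank_span_le_one (R : Set V) (h : ∀ u ∈ R, ∀ v ∈ R, Dep u v) :
    Module.finrank F (Submodule.span F R) ≤ 1 := by
  by_cases h0 : ∀ u ∈ R, u = 0
  · rw [Submodule.span_eq_bot.2 h0]; simp
  push Not at h0
  obtain ⟨u, hu, hu0⟩ := h0
  obtain ⟨i, hi⟩ : ∃ i, u i ≠ 0 := Function.ne_iff.1 hu0
  have hle : Submodule.span F R ≤ Submodule.span F {u} := by
    rw [Submodule.span_le]
    intro v hv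
    refine Submodule.mem_span_singleton.2 ⟨v i / u i, funext fun j => ?_⟩
    rw [Pi.smul_apply, smul_eq_mul, div_mul_eq_mul_div, div_eq_iff hi]
    linear_combination -(h u hu v hv i j)
  exact (Submodule.finrank_mono hle).trans ((finrank_span_singleton (K := F) hu0).le)

variable {q : ℕ}

/-- The vector `g v + v`. -/
def mv (g : Cfsg.SU 3 F q) (v : V) : V := g.1.1 *ᵥ v + v

theorem mulVec_mul (g h : Cfsg.SU 3 F q) (v : V) : (g * h).1.1 *ᵥ v = g.1.1 *ᵥ (h.1.1 *ᵥ v) := by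
  rw [mulVec_mulVec]; rfl

theorem mulVec_one' (v : V) : (1 : Cfsg.SU 3 F q).1.1 *ᵥ v = v := one_mulVec v

section
variable [ExpChar F 2]

theorem add_self (v : V) : v + v = 0 := by
  funext i
  have : CharP F 2 := by
    rcases ‹ExpChar F 2› with ⟨⟩
    assumption
  exact CharTwo.add_self_eq_zero (v i)

/-- Additivity of the form in both variables. -/
theorem form_mv (hq : ∃ n, q = 2 ^ n) {g : Cfsg.SU 3 F q} (hg : g * g = 1) (u w : V) :
    Cfsg.hermForm 3 F q (mv g u) w = Cfsg.hermForm 3 F q u (mv g w) := by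
  obtain ⟨n, rfl⟩ := hq
  have hl : ∀ a b c : V, Cfsg.hermForm 3 F (2 ^ n) (a + b) c =
      Cfsg.hermForm 3 F (2 ^ n) a c + Cfsg.hermForm 3 F (2 ^ n) b c := fun a b c => by
    simp [Cfsg.hermForm, add_mul, Finset.sum_add_distrib]
  have hr : ∀ a b c : V, Cfsg.hermForm 3 F (2 ^ n) a (b + c) =
      Cfsg.hermForm 3 F (2 ^ n) a b + Cfsg.hermForm 3 F (2 ^ n) a c := fun a b c => by
    simp [Cfsg.hermForm, add_pow_expChar_pow, mul_add, Finset.sum_add_distrib]
  rw [mv, mv, hl, hr]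
  congr 1
  conv_rhs => rw [← g.2 u (g.1.1 *ᵥ w)]
  show _ = Cfsg.hermForm 3 F (2 ^ n) (g.1.1 *ᵥ u) (g.1.1 *ᵥ (g.1.1 *ᵥ w))
  rw [← mulVec_mul, hg, mulVec_one']

theorem mv_mv {g : Cfsg.SU 3 F q} (hg : g * g = 1) (v : V) : mv g (mv g v) = 0 := by
  rw [mv, mv, mulVec_add, ← mulVec_mul, hg, mulVec_one',
    show v + g.1.1 *ᵥ v + (g.1.1 *ᵥ v + v) = (v + v) + (g.1.1 *ᵥ v + g.1.1 *ᵥ v) by abel,
    add_self, add_self, add_zero]

theorem mv_comm {g h : Cfsg.SU 3 F q} (hc : Commute g h) (v : V) : mv g (mv h v) = mv h (mv g v) := by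
  simp only [mv, mulVec_add]
  rw [← mulVec_mul, ← mulVec_mul, hc.eq]; abel

theorem mv_zero (g : Cfsg.SU 3 F q) : mv g 0 = 0 := by simp [mv]

theorem form_zero_right (hq : ∃ n, q = 2 ^ n) (u : V) : Cfsg.hermForm 3 F q u 0 = 0 := by
  obtain ⟨n, rfl⟩ := hq
  simp [Cfsg.hermForm]

theorem dep_of_square (hq : ∃ n, q = 2 ^ n) {g : Cfsg.SU 3 F q} (hg : g * g = 1) (u v : V) :
    Dep (mv g u) (mv g v) := by
  refine dep_of_form hq ?_ ?_ ?_ ?_ <;> rw [form_mv hq hg, mv_mv hg, form_zero_right hq]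

theorem dep_of_commute (hq : ∃ n, q = 2 ^ n) {g h : Cfsg.SU 3 F q} (hg : g * g = 1) (hh : h * h = 1)
    (hc : Commute g h) (u v : V) : Dep (mv g u) (mv h v) := by
  by_cases h0 : ∀ w, mv g (mv h w) = 0
  · refine dep_of_form hq ?_ ?_ ?_ ?_
    · rw [form_mv hq hg, mv_mv hg, form_zero_right hq]
    · rw [form_mv hq hh, ← mv_comm hc, h0, form_zero_right hq]
    · rw [form_mv hq hg, h0, form_zero_right hq]
    · rw [form_mv hq hh, mv_mv hh, form_zero_right hq]
  · push Not at h0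
    obtain ⟨w, hw⟩ := h0
    obtain ⟨i, hi⟩ : ∃ i, mv g (mv h w) i ≠ 0 := Function.ne_iff.1 hw
    have e1 := dep_of_square hq hg u (mv h w)
    have e2 := dep_of_square hq hh v (mv g w)
    rw [← mv_comm hc] at e2
    intro a b
    have a1 := e1 a i
    have a2 := e2 b i
    have b1 := e1 b i
    have b2 := e2 a i
    refine mul_right_cancel₀ (mul_ne_zero hi hi) ?_
    linear_combination (mv h v b * mv g (mv h w) i) * a1 + (mv g u i * mv g (mv h w) a) * a2
      - (mv h v a * mv g (mv h w) i) * b1 - (mv g u i * mv g (mv h w) b) * b2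

end

variable [Fintype F]

/-- No proper subspace is invariant. -/
theorem eq_top_of_invariant (hF : Fintype.card F = q ^ 2) (W : Submodule F V) (hW : W ≠ ⊥)
    (hinv : ∀ g : Cfsg.SU 3 F q, ∀ w ∈ W, g.1.1 *ᵥ w ∈ W) : W = ⊤ := by
  obtain ⟨l, hl, hl2⟩ := exists_norm_one_sq_ne hF
  have hq := herm_two_le hF
  have hl0 : l ≠ 0 := fun h => by simp [h, zero_pow] at hl
  let d : Fin 3 → F := ![l, l⁻¹, 1]
  let s : SpecialLinearGroup (Fin 3) F := ⟨diagonal d, by
    simp [d, det_diagonal, Fin.prod_univ_three, hl0]⟩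
  have hd : ∀ i, d i ^ (q + 1) = 1 := fun i => by
    fin_cases i <;> simp [d, hl, inv_pow]
  have hs : s ∈ Cfsg.SU 3 F q := mem_SU_iff_toGL.2 (diagonal_mem_GU _ hd _ rfl)
  let p : SpecialLinearGroup (Fin 3) F := ⟨!![0, 0, 1; 1, 0, 0; 0, 1, 0], by simp [det_fin_three]⟩
  have hp : p ∈ Cfsg.SU 3 F q := mem_SU_iff.2 fun u v => by
    simp [p, Cfsg.hermForm, mulVec, dotProduct, Fin.sum_univ_three]; ring
  have hsv : ∀ w : V, s.1 *ᵥ w = fun i => d i * w i := fun w => funext fun i => mulVec_diagonal d w i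
  have hpv : ∀ w : V, p.1 *ᵥ w = ![w 2, w 0, w 1] := fun w => by
    funext i; fin_cases i <;> simp [p, mulVec, dotProduct, Fin.sum_univ_three]
  have hP : ∀ w ∈ W, (![w 2, w 0, w 1] : V) ∈ W := fun w hw => hpv w ▸ hinv ⟨p, hp⟩ w hw
  have key : ∀ w ∈ W, w 0 ≠ 0 → (![1, 0, 0] : V) ∈ W := by
    intro w hw h0
    have hS : ∀ w ∈ W, (fun i => d i * w i) ∈ W := fun w hw => hsv w ▸ hinv ⟨s, hs⟩ w hw
    have h1 : (fun i => d i * w i) - w ∈ W := W.sub_mem (hS w hw) hw
    have h2 := W.sub_mem (hS _ h1) (W.smul_mem l⁻¹ h1)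
    have hne : (l - l⁻¹) * ((l - 1) * w 0) ≠ 0 := by
      refine mul_ne_zero (sub_ne_zero.2 fun e => hl2 ?_) (mul_ne_zero (sub_ne_zero.2 fun e => hl2 ?_) h0)
      · conv_lhs => arg 2; rw [e]
        exact mul_inv_cancel₀ hl0
      · rw [e, one_mul]
    have e : (fun i => d i * ((fun i => d i * w i) - w) i) - l⁻¹ • ((fun i => d i * w i) - w) =
        ((l - l⁻¹) * ((l - 1) * w 0)) • (![1, 0, 0] : V) := by
      funext i
      fin_cases i <;> simp [d] <;> ring
    rw [e] at h2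
    have h3 := W.smul_mem ((l - l⁻¹) * ((l - 1) * w 0))⁻¹ h2
    rwa [inv_smul_smul₀ hne] at h3
  obtain ⟨w, hw, hw0⟩ := Submodule.exists_mem_ne_zero_of_ne_bot hW
  have he0 : (![1, 0, 0] : V) ∈ W := by
    by_cases h0 : w 0 = 0
    · by_cases h2 : w 2 = 0
      · have h1 : w 1 ≠ 0 := fun h1 => hw0 (funext fun i => by fin_cases i <;> simp [h0, h1, h2])
        refine key _ (hP _ (hP _ hw)) ?_
        simpa using h1
      · exact key _ (hP _ hw) (by simpa using h2)
    · exact key _ hw h0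
  have he1 : (![0, 1, 0] : V) ∈ W := by simpa using hP _ he0
  have he2 : (![0, 0, 1] : V) ∈ W := by simpa using hP _ he1
  refine eq_top_iff.2 fun v _ => ?_
  have : v = v 0 • (![1, 0, 0] : V) + v 1 • (![0, 1, 0] : V) + v 2 • (![0, 0, 1] : V) := by
    funext i; fin_cases i <;> simp
  rw [this]
  exact W.add_mem (W.add_mem (W.smul_mem _ he0) (W.smul_mem _ he1)) (W.smul_mem _ he2)

/-- Pairwise commuting involutions and one more involution do not generate `PSU₃(q)`. -/
theorem not_generated [CharP F 2] (hq : ∃ n, q = 2 ^ n) (hF : Fintype.card F = q ^ 2)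
    {T : Set (Cfsg.PSU 3 F q)} (hT : ∀ t ∈ T, t * t = 1) (hc : ∀ s ∈ T, ∀ t ∈ T, Commute s t)
    {x : Cfsg.PSU 3 F q} (hx : orderOf x = 2) : Subgroup.closure (T ∪ {x}) ≠ ⊤ := by
  intro htop
  have : ExpChar F 2 := ExpChar.prime Nat.prime_two
  set Z := Subgroup.center (Cfsg.SU 3 F q) with hZ
  set π := QuotientGroup.mk' Z with hπ
  have hz3 : ∀ z ∈ Z, z ^ 3 = 1 := fun z hz => by
    have h := Subgroup.orderOf_dvd_natCard _ hz
    rw [hZ, card_center_SU hF (by norm_num)] at h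
    exact orderOf_dvd_iff_pow_eq_one.1 (h.trans (Nat.gcd_dvd_left _ _))
  have hlift : ∀ t : Cfsg.PSU 3 F q, t * t = 1 → ∃ g, π g = t ∧ g * g = 1 := by
    intro t ht
    obtain ⟨g, rfl⟩ := QuotientGroup.mk'_surjective Z t
    have h2 : g * g ∈ Z := (QuotientGroup.eq_one_iff _).1 (by rw [← ht]; rfl)
    refine ⟨g ^ 3, ?_, ?_⟩
    · rw [map_pow, pow_succ, pow_two, ht, one_mul]
    · rw [← pow_add, show 3 + 3 = 2 * 3 from rfl, pow_mul, pow_two, hz3 _ h2]
  have hcomm : ∀ g h : Cfsg.SU 3 F q, g * g = 1 → h * h = 1 → Commute (π g) (π h) → Commute g h := by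
    intro g h hg hh hgh
    have hz : g * h * g * h ∈ Z := (QuotientGroup.eq_one_iff _).1 (by
      show π (g * h * g * h) = 1
      simp only [map_mul]
      rw [hgh.eq, mul_assoc (π h), ← map_mul, hg, map_one, mul_one, ← map_mul, hh, map_one])
    have e : (g * h * g * h) * (g * h * g * h) = 1 := by
      have hcz := Subgroup.mem_center_iff.1 hz g
      calc (g * h * g * h) * (g * h * g * h) = (g * g) * (g * h * g * h) * (g * h * g * h) := by
            rw [hg, one_mul]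
        _ = g * (g * (g * h * g * h)) * (g * h * g * h) := by group
        _ = g * ((g * h * g * h) * g) * (g * h * g * h) := by rw [hcz]
        _ = (g * g) * h * g * h * (g * g) * h * g * h := by group
        _ = 1 := by rw [hg, one_mul, mul_one, mul_assoc _ h h, hh, mul_one, mul_assoc _ g g, hg,
              mul_one, hh]
    have h3 := hz3 _ hz
    rw [pow_succ, pow_two, e, one_mul] at h3
    show g * h = h * g
    calc g * h = g * h * g * h * (h * g) := by
          rw [show g * h * g * h * (h * g) = g * h * g * (h * h) * g by group, hh, mul_one, mul_assoc,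
            hg, mul_one]
      _ = h * g := by rw [h3, one_mul]
  set S : Set (Cfsg.SU 3 F q) := {g | g * g = 1 ∧ π g ∈ T} with hS
  have hxx : x * x = 1 := by rw [← pow_two, ← hx, pow_orderOf_eq_one]
  obtain ⟨gx, hgx, hgx2⟩ := hlift x hxx
  set R1 : Set V := {w | ∃ g ∈ S, ∃ v, w = mv g v} with hR1
  set R2 : Set V := {w | ∃ v, w = mv gx v} with hR2
  have d1 : Module.finrank F (Submodule.span F R1) ≤ 1 := finrank_span_le_one _ (by
    rintro _ ⟨g, hg, u, rfl⟩ _ ⟨h, hh, v, rfl⟩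
    exact dep_of_commute hq hg.1 hh.1 (hcomm g h hg.1 hh.1 (hc _ hg.2 _ hh.2)) u v)
  have d2 : Module.finrank F (Submodule.span F R2) ≤ 1 := finrank_span_le_one _ (by
    rintro _ ⟨u, rfl⟩ _ ⟨v, rfl⟩
    exact dep_of_square hq hgx2 u v)
  set W := Submodule.span F R1 ⊔ Submodule.span F R2 with hW
  have hdim : Module.finrank F W ≤ 2 :=
    (Submodule.finrank_add_le_finrank_add_finrank _ _).trans (by omega)
  let K : Subgroup (Cfsg.SU 3 F q) :=
    { carrier := {g | (∀ w ∈ W, g.1.1 *ᵥ w ∈ W) ∧ ∀ w ∈ W, (g⁻¹).1.1 *ᵥ w ∈ W}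
      one_mem' := ⟨fun w hw => by rw [mulVec_one']; exact hw,
        fun w hw => by rw [inv_one, mulVec_one']; exact hw⟩
      mul_mem' := fun {a b} ha hb => ⟨fun w hw => by rw [mulVec_mul]; exact ha.1 _ (hb.1 w hw),
        fun w hw => by rw [_root_.mul_inv_rev, mulVec_mul]; exact hb.2 _ (ha.2 w hw)⟩
      inv_mem' := fun {a} ha => ⟨ha.2, fun w hw => by rw [inv_inv]; exact ha.1 w hw⟩ }
  have hmvK : ∀ g : Cfsg.SU 3 F q, g * g = 1 → (∀ v, mv g v ∈ W) → g ∈ K := by
    intro g hg hgW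
    have h1 : ∀ w ∈ W, g.1.1 *ᵥ w ∈ W := fun w hw => by
      have := W.sub_mem (hgW w) hw
      rwa [mv, add_sub_cancel_right] at this
    exact ⟨h1, fun w hw => by rw [inv_eq_of_mul_eq_one_right hg]; exact h1 w hw⟩
  have hZK : Z ≤ K := by
    have key : ∀ z ∈ Z, ∀ w ∈ W, z.1.1 *ᵥ w ∈ W := by
      intro z hz w hw
      have hsc := center_SU_scalar hF ⟨z, hz⟩
      have e : z.1.1 *ᵥ w = z.1.1 0 0 • w := by
        funext i
        rw [mulVec, dotProduct, Finset.sum_eq_single i (fun j _ hj => by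
          rw [(hsc i j).1 hj.symm, zero_mul]) (fun hi => absurd (Finset.mem_univ i) hi), (hsc i 0).2]
        rfl
      rw [e]; exact W.smul_mem _ hw
    exact fun z hz => ⟨key z hz, key _ (Z.inv_mem hz)⟩
  have hgen : Subgroup.closure (T ∪ {x}) ≤ K.map π := by
    rw [Subgroup.closure_le]
    rintro y (hy | hy)
    · obtain ⟨g, rfl, hg⟩ := hlift y (hT y hy)
      exact ⟨g, hmvK g hg fun v =>
        Submodule.mem_sup_left (Submodule.subset_span ⟨g, ⟨hg, hy⟩, v, rfl⟩), rfl⟩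
    · exact ⟨gx, hmvK gx hgx2 fun v => Submodule.mem_sup_right (Submodule.subset_span ⟨v, rfl⟩),
        hgx.trans (Set.mem_singleton_iff.1 hy).symm⟩
  rw [htop] at hgen
  have hall : ∀ g : Cfsg.SU 3 F q, g ∈ K := by
    intro g
    obtain ⟨k, hk, hkg⟩ := hgen (Subgroup.mem_top (π g))
    have hz : k⁻¹ * g ∈ Z := QuotientGroup.eq.1 hkg
    have := K.mul_mem hk (hZK hz)
    rwa [mul_inv_cancel_left] at this
  have hne : W ≠ ⊥ := by
    intro h0
    have h1 : ∀ v, mv gx v = 0 := fun v =>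
      (Submodule.mem_bot F).1 (h0 ▸ Submodule.mem_sup_right (Submodule.subset_span ⟨v, rfl⟩))
    have h2 : gx = 1 := by
      refine Subtype.ext (Subtype.ext (Matrix.toLin'.injective (LinearMap.ext fun v => ?_)))
      rw [Matrix.toLin'_apply, Matrix.toLin'_apply]
      have h3 := h1 v
      rw [mv] at h3
      rw [mulVec_one']
      calc gx.1.1 *ᵥ v = gx.1.1 *ᵥ v + (v + v) := by rw [add_self, add_zero]
        _ = v := by rw [← add_assoc, h3, zero_add]
    rw [← hgx, h2, map_one, orderOf_one] at hx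
    exact absurd hx (by decide)
  have := eq_top_of_invariant hF W hne fun g => (hall g).1
  rw [this, finrank_top, Module.finrank_fin_fun] at hdim
  omega

end CfsgLib.RootConnect.UnitaryEnd
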