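import Mathlib
import Cfsg.Prelude.Def_RootSubgroups
import Cfsg.Agent.Lib.RootGroups.RootInvolutions
import Cfsg.Agent.Lib.RankOneInvol.OddGroup

/-!
Root involutions in which the product of two commuting members is again a member: a non-trivial
element of odd order inverted by a member centralises no member, and two commuting members
normalising a subgroup of odd order centralise it.
-/

set_option autoImplicit false

namespace CfsgLib.RootConnect

open CfsgLib.Involutions CfsgLib.RootInvolutions

variable {G : Type*} [Group G] {D : Set G}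

/-- The product of two different commuting members is a member. -/
def Closed (D : Set G) : Prop := ∀ d ∈ D, ∀ e ∈ D, Commute d e → d ≠ e → d * e ∈ D

theorem commute_or_four (hD : Cfsg.IsRootInvolutionSet D) {a b : G} (ha : a ∈ D) (hb : b ∈ D)
    (h : ¬ Odd (orderOf (a * b))) : Commute a b ∨ orderOf (a * b) = 4 := by
  rcases hD.pair a ha b hb with e | e | e
  · exact Or.inl e
  · exact absurd e h
  · exact Or.inr e.1

/-- An element of odd order inverted by `a` and commuting with both `a` and `t` is trivial; this is
the case analysis on `t * a`. -/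
theorem inverted_eq_one (hD : Cfsg.IsRootInvolutionSet D) (hcl : Closed D) {a t y : G} (ha : a ∈ D)
    (ht : t ∈ D) (hinv : a * y * a = y⁻¹) (hyt : Commute y t) (hodd : Odd (orderOf y)) : y = 1 := by
  have haa := root_mul_self hD ha
  have htt := root_mul_self hD ht
  have hay : Commute y a → y = 1 := by
    intro hc
    rw [mul_assoc, hc.eq, ← mul_assoc, haa, one_mul] at hinv
    have h2 : y ^ 4 = 1 := by
      rw [show (4 : ℕ) = 2 * 2 from rfl, pow_mul, pow_two y]
      nth_rewrite 1 [hinv]
      rw [inv_mul_cancel, one_pow]
    exact odd_four h2 hodd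
  by_contra hy
  have hyta : Commute y (a * t * a) := by
    show y * (a * t * a) = a * t * a * y
    have e1 : y * a = a * y⁻¹ := by
      rw [← hinv, ← mul_assoc, ← mul_assoc, haa, one_mul]
    have e2 : a * y = y⁻¹ * a := by rw [← hinv, mul_assoc _ a a, haa, mul_one]
    calc y * (a * t * a) = y * a * t * a := by group
      _ = a * (y⁻¹ * t) * a := by rw [e1]; group
      _ = a * (t * y⁻¹) * a := by rw [(hyt.inv_left).eq]
      _ = a * t * (y⁻¹ * a) := by group
      _ = a * t * a * y := by rw [← e2]; group
  -- a member commuting with `y` and `a`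
  have key : ∀ e ∈ D, Commute y e → Commute e a → False := by
    intro e he hye hea
    have hea' : e ≠ a := by
      rintro rfl
      exact hy (hay hye)
    set b := a * y with hb
    obtain ⟨k, hk⟩ := id hodd
    have hbD : b ∈ D := by
      have h1 := hD.conj_mem a ha (y ^ k)
      have e1 : a * (y ^ k)⁻¹ = y ^ k * a := by
        rw [← inv_pow, ← hinv, ← root_inv hD ha]
        nth_rewrite 3 [root_inv hD ha]
        rw [conj_pow, root_inv hD ha]
        calc a * (a * y ^ k * a) = (a * a) * y ^ k * a := by group
          _ = y ^ k * a := by rw [haa, one_mul]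
      have e3 : y ^ k * a * (y ^ k)⁻¹ = a * ((y ^ k)⁻¹ * (y ^ k)⁻¹) := by
        rw [← e1]; group
      have e4 : (y ^ k)⁻¹ * (y ^ k)⁻¹ = y := by
        rw [← mul_inv_rev, ← pow_add]
        refine inv_eq_of_mul_eq_one_right ?_
        rw [← pow_succ, show k + k + 1 = orderOf y by omega, pow_orderOf_eq_one]
      rwa [e3, e4] at h1
    have hne : a ≠ b := fun h => hy (mul_eq_left.mp h.symm)
    have hoddab : Odd (orderOf (a * b)) := by
      rw [hb, ← mul_assoc, haa, one_mul]; exact hodd
    exact common_commuting hD ha he hbD hea.symm.eq (hcl e he a ha hea hea')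
      ((hea.mul_right hye.symm)).eq hne hoddab
  rcases hD.pair t ht a ha with h | h | ⟨h, -⟩
  · exact key t ht hyt h
  · -- `a` is a conjugate of `t` inside the centraliser of `y`
    obtain ⟨k, hk⟩ := h
    refine hy (hay ?_)
    have hc : Commute y ((t * a) ^ 2) := by
      have : (t * a) ^ 2 = t * (a * t * a) := by rw [pow_two]; group
      rw [this]; exact hyt.mul_right hyta
    have e : a = t * ((t * a) ^ 2) ^ (k + 1) := by
      rw [← pow_mul, show 2 * (k + 1) = orderOf (t * a) + 1 by omega, pow_succ,
        pow_orderOf_eq_one, one_mul, ← mul_assoc, htt, one_mul]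
    rw [e]
    exact hyt.mul_right (hc.pow_right _)
  · obtain ⟨hs, -, hsa, -, -, -⟩ := four_facts hD ht ha h
    have hc : Commute y ((t * a) ^ 2) := by
      have : (t * a) ^ 2 = t * (a * t * a) := by rw [pow_two]; group
      rw [this]; exact hyt.mul_right hyta
    exact key _ hs hc hsa

/-- Two different commuting members normalising a subgroup of odd order centralise it. -/
theorem commute_of_normalizes [Finite G] (hD : Cfsg.IsRootInvolutionSet D) (hcl : Closed D)
    {W : Subgroup G} (hW : Odd (Nat.card W)) {s t : G} (hs : s ∈ D) (ht : t ∈ D) (hc : Commute s t)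
    (hne : s ≠ t) (hsn : ∀ w ∈ W, s * w * s ∈ W) (htn : ∀ w ∈ W, t * w * t ∈ W) :
    ∀ w ∈ W, Commute s w ∧ Commute t w := by
  have hss := root_mul_self hD hs
  have htt := root_mul_self hD ht
  have hst := hcl s hs t ht hc hne
  -- the fixed points of one of them are fixed by the other
  have key : ∀ x ∈ D, ∀ z ∈ D, Commute x z → (∀ w ∈ W, z * w * z ∈ W) →
      ∀ w ∈ W, x * w * x = w → Commute z w := by
    intro x hx z hz hxz hzn w hw hfix
    have hxw : Commute x w := by
      show x * w = w * x
      calc x * w = x * w * x * x := by rw [mul_assoc _ x x, root_mul_self hD hx, mul_one]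
        _ = w * x := by rw [hfix]
    have hzz := root_mul_self hD hz
    set y := w⁻¹ * (z * w * z) with hy
    have hyW : y ∈ W := W.mul_mem (W.inv_mem hw) (hzn w hw)
    have hyx : Commute y x := (hxw.inv_right.mul_right ((hxz.mul_right hxw).mul_right hxz)).symm
    have hinv : z * y * z = y⁻¹ := by
      rw [hy, mul_inv_rev, inv_inv, mul_inv_rev, mul_inv_rev, root_inv hD hz]
      calc z * (w⁻¹ * (z * w * z)) * z = z * w⁻¹ * z * w * (z * z) := by group
        _ = z * (w⁻¹ * z) * w := by rw [hzz, mul_one]; group
    have h1 := inverted_eq_one hD hcl hz hx hinv hyx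
      (hW.of_dvd_nat (Subgroup.orderOf_dvd_natCard _ hyW))
    rw [hy, inv_mul_eq_one] at h1
    show z * w = w * z
    calc z * w = z * w * z * z := by rw [mul_assoc _ z z, hzz, mul_one]
      _ = w * z := by rw [← h1]
  have hle : W ≤ Subgroup.centralizer ({s, t} : Set G) := by
    refine RankOneInvol.le_of_fourGroup_fixed hW hss htt hc.eq hsn htn ?_ ?_ ?_
    · intro w hw h
      rw [Subgroup.mem_centralizer_iff]
      rintro u (rfl | rfl)
      · calc u * w = u * w * u * u := by rw [mul_assoc _ u u, hss, mul_one]
          _ = w * u := by rw [h]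
      · exact (key s hs u ht hc htn w hw h).eq
    · intro w hw h
      rw [Subgroup.mem_centralizer_iff]
      rintro u (rfl | rfl)
      · exact (key t ht u hs hc.symm hsn w hw h).eq
      · calc u * w = u * w * u * u := by rw [mul_assoc _ u u, htt, mul_one]
          _ = w * u := by rw [h]
    · intro w hw h
      rw [Subgroup.mem_centralizer_iff]
      rintro u (rfl | rfl)
      · exact (key (u * t) hst u hs ((Commute.refl u).mul_left hc.symm) hsn w hw h).eq
      · exact (key (s * u) hst u ht (hc.mul_left (Commute.refl u)) htn w hw h).eq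
  intro w hw
  have h1 := Subgroup.mem_centralizer_iff.mp (hle hw)
  exact ⟨h1 s (Set.mem_insert _ _), h1 t (Set.mem_insert_of_mem _ rfl)⟩

end CfsgLib.RootConnect
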