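import Mathlib
import Cfsg.Agent.Lib.RootConnect.Pairs
import Cfsg.Agent.Lib.BenderTrans.Local
import Cfsg.Agent.Lib.BenderTrans.StepA

/-!
Actions in which each member of a closed set of root involutions fixes exactly one point: the members
interchanging two points, and the odd core of the stabiliser of the two points.
-/

set_option autoImplicit false

namespace CfsgLib.RootConnect

open CfsgLib.Involutions CfsgLib.RootInvolutions CfsgLib.OddOrder MulAction
open CfsgLib.BenderTrans (two mem_two_iff two_comm fixSet smul_mem_fixSet fixSet_anti cls cls_mono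
  coreIn coreIn_le le_normalizer_coreIn odd_coreIn ncard_cls_mul smul_smul_self mem_normalizer_oPrime)

universe u v

/-- Every member fixes exactly one point; commuting members have their product in the set; no
element other than `1` centralises a pair of members with product of order `4` together with a
member fixing a different point. -/
structure PointFix {G : Type u} [Group G] {Ω : Type v} [MulAction G Ω] (D : Set G) : Prop where
  root : Cfsg.IsRootInvolutionSet D
  closed : Closed D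
  trans : ∀ x y : Ω, ∃ g : G, g • x = y
  nontriv : ∃ x y : Ω, x ≠ y
  exists_fix : ∀ d ∈ D, ∃ x : Ω, d • x = x
  unique : ∀ d ∈ D, ∀ x y : Ω, d • x = x → d • y = y → x = y
  exists_four : ∃ u ∈ D, ∃ v ∈ D, orderOf (u * v) = 4
  local_eq : ∀ z : G, z ≠ 1 → ∀ u ∈ D, ∀ v ∈ D, ∀ e ∈ D, orderOf (u * v) = 4 → Commute z u →
    Commute z v → Commute z e → ∀ x : Ω, u • x = x → e • x = x

variable {G : Type u} [Group G] {Ω : Type v} [MulAction G Ω] {D : Set G}

/-- The members fixing `x`. -/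
def pts (D : Set G) (x : Ω) : Set G := {t | t ∈ D ∧ t • x = x}

/-- The members mapping `x` to `y`. -/
def sw (D : Set G) (x y : Ω) : Set G := {t | t ∈ D ∧ t • x = y}

/-- The odd core of the stabiliser of two points. -/
def otwo (G : Type u) [Group G] {Ω : Type v} [MulAction G Ω] (x y : Ω) : Subgroup G :=
  coreIn (two G x y)

theorem otwo_le (x y : Ω) : otwo G x y ≤ two G x y := coreIn_le _

theorem otwo_comm (x y : Ω) : otwo G x y = otwo G y x := by rw [otwo, otwo, two_comm]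

theorem odd_otwo [Finite G] (x y : Ω) : Odd (Nat.card (otwo G x y)) := odd_coreIn _

theorem otwo_fix {x y : Ω} {g : G} (hg : g ∈ otwo G x y) : g • x = x ∧ g • y = y :=
  mem_two_iff.1 (otwo_le x y hg)

/-- A subgroup of odd order normalised by `M` lies in its odd core. -/
theorem le_coreIn [Finite G] {M N : Subgroup G} (hNM : N ≤ M)
    (hn : M ≤ Subgroup.normalizer (N : Set G)) (hodd : Odd (Nat.card N)) : N ≤ coreIn M :=
  le_oPrime (p := 2) hNM hn (by rw [Nat.coprime_comm, Nat.coprime_two_left]; exact hodd)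

theorem mem_normalizer_coreIn [Finite G] {M : Subgroup G} {g : G}
    (hg : g ∈ Subgroup.normalizer (M : Set G)) : g ∈ Subgroup.normalizer (coreIn M : Set G) :=
  have : Fact (Nat.Prime 2) := ⟨Nat.prime_two⟩
  mem_normalizer_oPrime (q := 2) hg

/-- Two involutions with product in a subgroup of odd order are conjugate by an element of it. -/
theorem exists_conj_of_mul_mem [Finite G] {r r' : G} (hr : orderOf r = 2) (hr' : orderOf r' = 2)
    {N : Subgroup G} (hN : Odd (Nat.card N)) (hmem : r * r' ∈ N) :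
    ∃ d ∈ N, d * r * d⁻¹ = r' := by
  obtain ⟨k, hk⟩ := hN.of_dvd_nat (Subgroup.orderOf_dvd_natCard _ hmem)
  refine ⟨(r * r') ^ (k : ℤ), zpow_mem hmem _, ?_⟩
  have h1 := conj_by_zpow hr hr' (k : ℤ) 0
  rw [zpow_zero, one_mul, add_zero] at h1
  rw [h1]
  have h3 : (r * r') ^ (2 * (k : ℤ)) = (r * r')⁻¹ := by
    apply eq_inv_of_mul_eq_one_left
    have := pow_orderOf_eq_one (r * r')
    rw [hk, pow_succ] at this
    exact_mod_cast this
  rw [h3, mul_inv_rev, inv_eq_self_of_involution hr, inv_eq_self_of_involution hr', mul_assoc,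
    mul_self_eq_one hr, mul_one]

/-- If no two different members in `M` have a product of even order then the products of members of
`M` lie in the odd core of `M`. -/
theorem mul_mem_coreIn_of_odd [Finite G] (hD : Cfsg.IsRootInvolutionSet D) {M : Subgroup G}
    (hiso : ∀ s ∈ D, ∀ t ∈ D, s ∈ M → t ∈ M → Commute s t → s = t) {r r' : G} (hr : r ∈ D)
    (hr' : r' ∈ D) (hrM : r ∈ M) (hr'M : r' ∈ M) : r * r' ∈ coreIn M := by
  rcases eq_or_ne r r' with rfl | hne
  · rw [root_mul_self hD hr]; exact one_mem _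
  have hodd : Odd (orderOf (r * r')) := by
    by_contra h
    rcases commute_or_four hD hr hr' h with hc | h4
    · exact hne (hiso r hr r' hr' hrM hr'M hc)
    · obtain ⟨hs, hsr, hsr', -, -, -⟩ := four_facts hD hr hr' h4
      have hsM : (r * r') ^ 2 ∈ M := pow_mem (mul_mem hrM hr'M) 2
      exact hne ((hiso _ hs r hr hsM hrM hsr).symm.trans (hiso _ hs r' hr' hsM hr'M hsr'))
  let R : M := ⟨r, hrM⟩
  let R' : M := ⟨r', hr'M⟩
  have hR : Cfsg.IsIsolatedInvolution R := by
    refine ⟨by rw [← Subgroup.orderOf_coe]; exact hD.orderOf_eq r hr, fun g hg => Subtype.ext ?_⟩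
    exact (hiso r hr _ (hD.conj_mem r hr g) hrM (M.mul_mem (M.mul_mem g.2 hrM) (M.inv_mem g.2))
      (congrArg Subtype.val hg)).symm
  have h2 : (R' * R) * (R' * R) ∈ Cfsg.pPrimeCore 2 M := by
    have h1 := zstar M R hR R'
    have e1 : R'⁻¹ = R' := Subtype.ext (root_inv hD hr')
    have e2 : R⁻¹ = R := Subtype.ext (root_inv hD hr)
    rw [e1, e2] at h1
    simpa [mul_assoc] using h1
  have hodd' : Odd (orderOf (R' * R)) := by
    rw [← Subgroup.orderOf_coe]
    exact (odd_comm hD hr hr').mp hodd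
  obtain ⟨k, hk⟩ := RankOneInvol.exists_pow_sq_eq hodd'
  have h4 : R' * R ∈ Cfsg.pPrimeCore 2 M := by
    rw [← hk, ← (Commute.refl (R' * R)).mul_pow]; exact pow_mem h2 k
  refine ⟨R * R', ?_, rfl⟩
  have h5 := inv_mem h4
  rwa [mul_inv_rev, show R⁻¹ = R from Subtype.ext (root_inv hD hr),
    show R'⁻¹ = R' from Subtype.ext (root_inv hD hr')] at h5

namespace PointFix

variable (h : PointFix (Ω := Ω) D)
include h

theorem mul_self {d : G} (hd : d ∈ D) : d * d = 1 := root_mul_self h.root hd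

theorem invol {d : G} (hd : d ∈ D) : orderOf d = 2 := h.root.orderOf_eq d hd

theorem fix_of_commute {t g : G} {c : Ω} (ht : t ∈ pts D c) (hg : Commute g t) : g • c = c :=
  h.unique t ht.1 _ _ (by rw [smul_smul, ← hg.eq, mul_smul, ht.2]) ht.2

theorem conj_pts {t g : G} {c : Ω} (ht : t ∈ pts D c) : g * t * g⁻¹ ∈ pts D (g • c) :=
  ⟨h.root.conj_mem t ht.1 g, by rw [smul_smul, inv_mul_cancel_right, mul_smul, ht.2]⟩

theorem conj_sw {t g : G} {x y : Ω} (ht : t ∈ sw D x y) : g * t * g⁻¹ ∈ sw D (g • x) (g • y) :=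
  ⟨h.root.conj_mem t ht.1 g, by rw [smul_smul, inv_mul_cancel_right, mul_smul, ht.2]⟩

theorem sw_symm {x y : Ω} {r : G} (hr : r ∈ sw D x y) : r • y = x := by
  rw [← hr.2, smul_smul_self (h.invol hr.1)]

theorem exists_pts (c : Ω) : (pts D c).Nonempty := by
  obtain ⟨u, hu, -⟩ := h.exists_four
  obtain ⟨x, hx⟩ := h.exists_fix u hu
  obtain ⟨g, rfl⟩ := h.trans x c
  exact ⟨_, h.conj_pts (g := g) ⟨hu, hx⟩⟩

theorem exists_ne (x : Ω) : ∃ y, y ≠ x := by
  obtain ⟨a, b, hab⟩ := h.nontriv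
  by_cases e : a = x
  · exact ⟨b, fun e' => hab (e.trans e'.symm)⟩
  · exact ⟨a, e⟩

theorem same_of_not_odd {s t : G} {x y : Ω} (hs : s ∈ pts D x) (ht : t ∈ pts D y)
    (ho : ¬ Odd (orderOf (s * t))) : x = y := by
  rcases commute_or_four h.root hs.1 ht.1 ho with hc | h4
  · exact h.unique t ht.1 x y (h.fix_of_commute hs hc.symm) ht.2
  · obtain ⟨hw, hws, hwt, -, -, -⟩ := four_facts h.root hs.1 ht.1 h4
    exact h.unique _ hw x y (h.fix_of_commute hs hws) (h.fix_of_commute ht hwt)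

theorem odd_of_ne {s t : G} {x y : Ω} (hs : s ∈ pts D x) (ht : t ∈ pts D y) (hxy : x ≠ y) :
    Odd (orderOf (s * t)) :=
  of_not_not fun ho => hxy (h.same_of_not_odd hs ht ho)

theorem ne_of_sw {x y : Ω} {r : G} {c : Ω} (hxy : x ≠ y) (hr : r ∈ sw D x y) (hc : r • c = c) :
    c ≠ x ∧ c ≠ y := by
  constructor
  · rintro rfl; exact hxy (hc.symm.trans hr.2)
  · rintro rfl; exact hxy ((h.sw_symm hr).symm.trans hc)

/-- The member in the middle. -/
theorem exists_mid [Finite G] {s t : G} {x y : Ω} (hs : s ∈ pts D x) (ht : t ∈ pts D y)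
    (hxy : x ≠ y) :
    ∃ r ∈ sw D x y, r * s * r⁻¹ = t ∧ r ∈ Subgroup.closure {s, t} := by
  obtain ⟨k, hk⟩ := h.odd_of_ne hs ht hxy
  have hs2 := h.invol hs.1
  have ht2 := h.invol ht.1
  set a := s * t with ha
  have h2 : a ^ (k : ℤ) * s * s * (a ^ (k : ℤ) * s)⁻¹ = t := by
    have h1 := conj_by_zpow hs2 ht2 (k : ℤ) 0
    rw [zpow_zero, one_mul, ← ha, add_zero] at h1
    rw [mul_inv_rev, inv_eq_self_of_involution hs2, mul_assoc _ s s, mul_self_eq_one hs2, mul_one,
      ← mul_assoc, h1]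
    have h3 : a ^ (2 * (k : ℤ)) = a⁻¹ := by
      apply eq_inv_of_mul_eq_one_left
      have := pow_orderOf_eq_one a
      rw [hk, pow_succ] at this
      exact_mod_cast this
    rw [h3, ha, mul_inv_rev, inv_eq_self_of_involution hs2, inv_eq_self_of_involution ht2,
      mul_assoc, mul_self_eq_one hs2, mul_one]
  have hsC : s ∈ Subgroup.closure ({s, t} : Set G) := Subgroup.subset_closure (Set.mem_insert _ _)
  have htC : t ∈ Subgroup.closure ({s, t} : Set G) :=
    Subgroup.subset_closure (Set.mem_insert_of_mem _ rfl)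
  refine ⟨a ^ (k : ℤ) * s, ⟨?_, ?_⟩, h2, mul_mem (zpow_mem (mul_mem hsC htC) _) hsC⟩
  · have h5 := conj_by_zpow hs2 ht2 (k : ℤ) 0
    have h6 := orderOf_zpow_mul_involution hs2 ht2 (k : ℤ)
    -- it is conjugate to `s`
    obtain ⟨d, hd⟩ : ∃ d, d * s * d⁻¹ = a ^ (k : ℤ) * s := by
      refine ⟨a ^ (-(k : ℤ) * k), ?_⟩
      have h7 := conj_by_zpow hs2 ht2 (-(k : ℤ) * k) 0
      rw [zpow_zero, one_mul, add_zero, ← ha] at h7
      rw [h7]
      congr 1
      rw [zpow_eq_zpow_iff_modEq, hk, Int.modEq_iff_dvd]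
      exact ⟨(k : ℤ), by push_cast; ring⟩
    rw [← hd]
    exact h.root.conj_mem s hs.1 d
  · refine h.unique t ht.1 _ _ ?_ ht.2
    have h4 := (h.conj_pts (g := a ^ (k : ℤ) * s) hs).2
    rwa [h2] at h4

theorem sw_pairwise {x y : Ω} (hxy : x ≠ y) {r r' : G} (hr : r ∈ sw D x y) (hr' : r' ∈ sw D x y)
    (hc : Commute r r') : r = r' := by
  by_contra hne
  refine hxy (h.unique _ (h.closed r hr.1 r' hr'.1 hc hne) x y ?_ ?_)
  · rw [mul_smul, hr'.2, h.sw_symm hr]
  · rw [mul_smul, h.sw_symm hr', hr.2]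

omit h in
/-- The setwise stabiliser of two points. -/
def setStab (x y : Ω) : Subgroup G where
  carrier := {g | (g • x = x ∧ g • y = y) ∨ (g • x = y ∧ g • y = x)}
  one_mem' := Or.inl ⟨one_smul _ _, one_smul _ _⟩
  mul_mem' := by
    rintro a b (⟨ha, ha'⟩ | ⟨ha, ha'⟩) (⟨hb, hb'⟩ | ⟨hb, hb'⟩) <;>
      simp only [Set.mem_setOf_eq, mul_smul, hb, hb', ha, ha', and_self, true_or, or_true]
  inv_mem' := by
    rintro a (⟨ha, ha'⟩ | ⟨ha, ha'⟩)
    · exact Or.inl ⟨inv_smul_eq_iff.2 ha.symm, inv_smul_eq_iff.2 ha'.symm⟩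
    · exact Or.inr ⟨inv_smul_eq_iff.2 ha'.symm, inv_smul_eq_iff.2 ha.symm⟩

theorem mem_setStab_iff {x y : Ω} (hxy : x ≠ y) {d : G} (hd : d ∈ D) :
    d ∈ setStab x y ↔ d ∈ sw D x y := by
  refine ⟨?_, fun hd' => Or.inr ⟨hd'.2, h.sw_symm hd'⟩⟩
  rintro (⟨h1, h2⟩ | ⟨h1, -⟩)
  · exact absurd (h.unique d hd x y h1 h2) hxy
  · exact ⟨hd, h1⟩

/-- The product of two members interchanging two points lies in the odd core of their stabiliser. -/
theorem sw_mul_mem [Finite G] {x y : Ω} (hxy : x ≠ y) {r r' : G} (hr : r ∈ sw D x y)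
    (hr' : r' ∈ sw D x y) : r * r' ∈ otwo G x y := by
  set M : Subgroup G := setStab x y with hM
  set C := coreIn M with hC
  have hmem : r * r' ∈ C := mul_mem_coreIn_of_odd h.root
    (fun s hs t ht hsM htM hc =>
      h.sw_pairwise hxy ((h.mem_setStab_iff hxy hs).1 hsM) ((h.mem_setStab_iff hxy ht).1 htM) hc)
    hr.1 hr'.1 ((h.mem_setStab_iff hxy hr.1).2 hr) ((h.mem_setStab_iff hxy hr'.1).2 hr')
  have hfix : r * r' ∈ two G x y :=
    mem_two_iff.2 ⟨by rw [mul_smul, hr'.2, h.sw_symm hr], by rw [mul_smul, h.sw_symm hr', hr.2]⟩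
  have hle : two G x y ≤ M := fun g hg => Or.inl (mem_two_iff.1 hg)
  refine le_coreIn (N := C ⊓ two G x y) inf_le_right (fun g hg => ?_)
    ((odd_coreIn M).of_dvd_nat (Subgroup.card_dvd_of_le inf_le_left)) ⟨hmem, hfix⟩
  refine Coprime.mem_normalizer_of_forall_conj fun c hc => ?_
  exact ⟨Coprime.mem_normalizer_conj (le_normalizer_coreIn M (hle hg)) hc.1,
    Subgroup.mul_mem _ (Subgroup.mul_mem _ hg hc.2) (Subgroup.inv_mem _ hg)⟩

theorem exists_conj_pts [Finite G] {x y : Ω} (hxy : x ≠ y) {s s' : G} (hs : s ∈ pts D x)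
    (hs' : s' ∈ pts D x) : ∃ d ∈ otwo G x y, d * s * d⁻¹ = s' := by
  obtain ⟨t, ht⟩ := h.exists_pts y
  obtain ⟨r, hr, hrs, -⟩ := h.exists_mid hs ht hxy
  obtain ⟨r', hr', hrs', -⟩ := h.exists_mid hs' ht hxy
  refine ⟨r' * r, h.sw_mul_mem hxy hr' hr, ?_⟩
  calc r' * r * s * (r' * r)⁻¹ = r' * (r * s * r⁻¹) * r'⁻¹ := by group
    _ = r' * (r' * s' * r'⁻¹) * r'⁻¹ := by rw [hrs, hrs']
    _ = (r' * r') * s' * (r' * r')⁻¹ := by group
    _ = s' := by rw [h.mul_self hr'.1]; simp

theorem cls_otwo_sw [Finite G] {x y : Ω} (hxy : x ≠ y) {r : G} (hr : r ∈ sw D x y) :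
    cls (otwo G x y) r = sw D x y := by
  ext t
  constructor
  · rintro ⟨d, hd, rfl⟩
    have h1 := h.conj_sw (g := d) hr
    rwa [(otwo_fix hd).1, (otwo_fix hd).2] at h1
  · intro ht
    obtain ⟨d, hd, hde⟩ := exists_conj_of_mul_mem (h.invol hr.1) (h.invol ht.1) (odd_otwo x y)
      (h.sw_mul_mem hxy hr ht)
    exact ⟨d, hd, hde⟩

theorem cls_otwo_pts [Finite G] {x y : Ω} (hxy : x ≠ y) {s : G} (hs : s ∈ pts D x) :
    cls (otwo G x y) s = pts D x := by
  ext t
  constructor
  · rintro ⟨d, hd, rfl⟩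
    have h1 := h.conj_pts (g := d) hs
    rwa [(otwo_fix hd).1] at h1
  · intro ht
    exact h.exists_conj_pts hxy hs ht

theorem ncard_pts_eq (x y : Ω) : (pts D x).ncard = (pts D y).ncard := by
  obtain ⟨g, rfl⟩ := h.trans x y
  refine Set.ncard_congr (fun t _ => g * t * g⁻¹) (fun t ht => h.conj_pts ht)
    (fun a b _ _ hab => by simpa using hab) fun b hb => ⟨g⁻¹ * b * g, ?_, by group⟩
  have h1 := h.conj_pts (g := g⁻¹) hb
  rwa [inv_inv, inv_smul_smul] at h1

theorem surjOn_conj [Finite G] {x y : Ω} (hxy : x ≠ y) {t : G} (ht : t ∈ pts D y) :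
    Set.SurjOn (fun r => r * t * r⁻¹) (sw D x y) (pts D x) := by
  intro s hs
  obtain ⟨r, hr, hrs, -⟩ := h.exists_mid hs ht hxy
  refine ⟨r, hr, ?_⟩
  show r * t * r⁻¹ = s
  rw [← hrs, root_inv h.root hr.1]
  calc r * (r * s * r) * r = (r * r) * s * (r * r) := by group
    _ = s := by rw [h.mul_self hr.1, one_mul, mul_one]

/-- There are as many members interchanging two points as fixing one. -/
theorem ncard_sw [Finite G] [Finite Ω] {x y : Ω} (hxy : x ≠ y) :
    (sw D x y).ncard = (pts D x).ncard := by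
  classical
  have := Fintype.ofFinite Ω
  set k := (pts D x).ncard with hk
  let e : (Σ z : Ω, sw D x z) ≃ D :=
    Equiv.ofBijective (fun p => ⟨p.2.1, p.2.2.1⟩) ⟨by
      rintro ⟨z, t, ht⟩ ⟨z', t', ht'⟩ hh
      obtain rfl : t = t' := congrArg Subtype.val hh
      obtain rfl : z = z' := ht.2.symm.trans ht'.2
      rfl, fun ⟨t, ht⟩ => ⟨⟨t • x, t, ht, rfl⟩, rfl⟩⟩
  let e' : (Σ z : Ω, pts D z) ≃ D :=
    Equiv.ofBijective (fun p => ⟨p.2.1, p.2.2.1⟩) ⟨by
      rintro ⟨z, t, ht⟩ ⟨z', t', ht'⟩ hh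
      obtain rfl : t = t' := congrArg Subtype.val hh
      obtain rfl := h.unique t ht.1 _ _ ht.2 ht'.2
      rfl, fun ⟨t, ht⟩ => by
      obtain ⟨z, hz⟩ := h.exists_fix t ht
      exact ⟨⟨z, t, ht, hz⟩, rfl⟩⟩
  have hge : ∀ z ∈ (Finset.univ : Finset Ω), k ≤ (sw D x z).ncard := by
    intro z _
    rcases eq_or_ne x z with rfl | hz
    · exact le_rfl
    · obtain ⟨t, ht⟩ := h.exists_pts z
      exact (Set.ncard_le_ncard (h.surjOn_conj hz ht) (Set.toFinite _)).trans
        (Set.ncard_image_le (Set.toFinite _))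
  have hsum : ∑ z : Ω, k = ∑ z : Ω, (sw D x z).ncard := by
    have h2 := Nat.card_congr (e.trans e'.symm)
    rw [Nat.card_sigma, Nat.card_sigma] at h2
    simp_rw [Nat.card_coe_set_eq] at h2
    rw [h2]
    exact Finset.sum_congr rfl fun z _ => h.ncard_pts_eq x z
  exact ((Finset.sum_eq_sum_iff_of_le hge).1 hsum y (Finset.mem_univ _)).symm

theorem sw_normalizes_two {x y : Ω} [Finite G] {r : G} (hr : r ∈ sw D x y) :
    r ∈ Subgroup.normalizer (two G x y : Set G) :=
  BenderTrans.OneFix.swap_normalizes (show r ∈ BenderTrans.swaps G x y from ⟨h.invol hr.1, hr.2⟩)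

theorem sw_normalizes [Finite G] {x y : Ω} {r : G} (hr : r ∈ sw D x y) :
    r ∈ Subgroup.normalizer (otwo G x y : Set G) :=
  mem_normalizer_coreIn (h.sw_normalizes_two hr)

omit h in
theorem mem_centralizer_commute {r g : G} : g ∈ Subgroup.centralizer ({r} : Set G) ↔ Commute g r :=
  Subgroup.mem_centralizer_singleton_iff

/-- The odd cores for a pair and for one of its points with the point of a swapping member meet the
stabiliser of the third point in the same subgroup, and have the same order. -/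
theorem otwo_inf_le [Finite G] [Finite Ω] {a b e : Ω} (hab : a ≠ b) {r : G} (hr : r ∈ sw D a b)
    (he : r • e = e) :
    otwo G a b ⊓ stabilizer G e ≤ otwo G a e ∧
      Nat.card (otwo G a e) = Nat.card (otwo G a b) := by
  have hae : a ≠ e := (h.ne_of_sw hab hr he).1.symm
  have hre : r ∈ pts D e := ⟨hr.1, he⟩
  have hcls : cls (otwo G a b) r = sw D a b := h.cls_otwo_sw hab hr
  have hcls' : cls (otwo G a e) r = pts D e := by
    rw [otwo_comm]; exact h.cls_otwo_pts hae.symm hre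
  set T := two G a b ⊓ stabilizer G e with hT
  have hTb : T ≤ two G a b := inf_le_left
  have hTe : T ≤ two G a e := fun g hg => mem_two_iff.2 ⟨(mem_two_iff.1 hg.1).1, hg.2⟩
  -- centralising elements of the pair stabilisers lie in `T`
  have hCb : ∀ g ∈ two G a b, Commute g r → g ∈ T := fun g hg hc => ⟨hg, h.fix_of_commute hre hc⟩
  have hCe : ∀ g ∈ two G a e, Commute g r → g ∈ T := fun g hg hc => by
    obtain ⟨hga, hge⟩ := mem_two_iff.1 hg
    exact ⟨mem_two_iff.2 ⟨hga, by rw [← hr.2, smul_smul, hc.eq, mul_smul, hga]⟩, hge⟩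
  -- hence `O(T)` lies in both cores
  have hcore : ∀ {z : Ω}, T ≤ two G a z → (∀ g ∈ two G a z, Commute g r → g ∈ T) →
      (∀ g ∈ two G a z, g * r * g⁻¹ ∈ cls (otwo G a z) r) →
      coreIn T ≤ otwo G a z := by
    intro z hTz hCz hclz
    refine (le_sup_left (b := otwo G a z)).trans (le_coreIn ?_ ?_ ?_)
    · exact sup_le ((coreIn_le T).trans hTz) (otwo_le a z)
    · intro g hg
      obtain ⟨o, ho, hoe⟩ := hclz g hg
      have hgo : o⁻¹ * g ∈ T := by
        refine hCz _ (mul_mem (inv_mem (otwo_le a z ho)) hg) ?_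
        show o⁻¹ * g * r = r * (o⁻¹ * g)
        calc o⁻¹ * g * r = o⁻¹ * (g * r * g⁻¹) * g := by group
          _ = o⁻¹ * (o * r * o⁻¹) * g := by rw [hoe]
          _ = r * (o⁻¹ * g) := by group
      rw [show g = o * (o⁻¹ * g) by group]
      refine mul_mem ((Subgroup.le_normalizer (H := coreIn T ⊔ otwo G a z)) (Subgroup.mem_sup_right ho)) ?_
      refine Subgroup.normalizer_inf_normalizer_le_normalizer_sup _ _ ⟨le_normalizer_coreIn T hgo, ?_⟩
      exact le_normalizer_coreIn (two G a z) (hTz hgo)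
    · have h1 := odd_coreIn T
      have h2 := odd_otwo (G := G) a z
      rw [← Nat.not_even_iff_odd]
      intro hev
      obtain ⟨i, hi, hio⟩ := exists_involution_of_even_card _ hev
      have hsub : coreIn T ≤ Subgroup.normalizer (otwo G a z : Set G) :=
        ((coreIn_le T).trans hTz).trans (le_normalizer_coreIn _)
      have hdvd : Nat.card (coreIn T ⊔ otwo G a z : Subgroup G) ∣
          Nat.card (coreIn T) * Nat.card (otwo G a z) := by
        exact Coprime.card_sup_dvd hsub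
      have h3 := (h1.mul h2).of_dvd_nat ((Subgroup.orderOf_dvd_natCard _ hi).trans hdvd)
      rw [hio] at h3
      exact absurd h3 (by decide)
  have hb' : coreIn T ≤ otwo G a b := hcore hTb hCb fun g hg => by
    rw [hcls]
    have h1 := h.conj_sw (g := g) hr
    rwa [(mem_two_iff.1 hg).1, (mem_two_iff.1 hg).2] at h1
  have he' : coreIn T ≤ otwo G a e := hcore hTe hCe fun g hg => by
    rw [hcls']
    have h1 := h.conj_pts (g := g) hre
    rwa [(mem_two_iff.1 hg).2] at h1
  have key : ∀ {z : Ω}, T ≤ two G a z → otwo G a z ⊓ T ≤ coreIn T := fun {z} hTz =>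
    le_coreIn inf_le_right (fun g hg => Coprime.mem_normalizer_of_forall_conj fun c hc =>
      ⟨Coprime.mem_normalizer_conj (le_normalizer_coreIn (two G a z) (hTz hg)) hc.1,
        Subgroup.mul_mem _ (Subgroup.mul_mem _ hg hc.2) (Subgroup.inv_mem _ hg)⟩)
      ((odd_otwo a z).of_dvd_nat (Subgroup.card_dvd_of_le inf_le_left))
  refine ⟨fun g hg => he' (key hTb ⟨hg.1, ⟨otwo_le a b hg.1, hg.2⟩⟩), ?_⟩
  have heq : otwo G a e ⊓ Subgroup.centralizer {r} = otwo G a b ⊓ Subgroup.centralizer {r} := by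
    ext g
    simp only [Subgroup.mem_inf]
    constructor <;> rintro ⟨h1, h2⟩
    · exact ⟨hb' (key hTe ⟨h1, hCe g (otwo_le a e h1) (mem_centralizer_commute.1 h2)⟩), h2⟩
    · exact ⟨he' (key hTb ⟨h1, hCb g (otwo_le a b h1) (mem_centralizer_commute.1 h2)⟩), h2⟩
  rw [← ncard_cls_mul (otwo G a e) r, ← ncard_cls_mul (otwo G a b) r, hcls, hcls', heq,
    h.ncard_sw hab, h.ncard_pts_eq e a]

theorem odd_fixSet_iff [Finite Ω] {S : Subgroup G} {t : G} {c : Ω} (ht : t ∈ pts D c)
    (hn : t ∈ Subgroup.normalizer (S : Set G)) : Odd (fixSet Ω S).ncard ↔ c ∈ fixSet Ω S := by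
  classical
  have := Fintype.ofFinite Ω
  let σ : Function.End (fixSet Ω S) := fun x => ⟨t • x.1, smul_mem_fixSet hn x.2⟩
  have hσ : σ ^ 2 ^ 1 = 1 := by
    rw [pow_one, pow_two]
    funext x
    exact Subtype.ext (smul_smul_self (h.invol ht.1) _)
  have hfix : ∀ x : fixSet Ω S, x ∈ Function.fixedPoints σ ↔ x.1 = c :=
    fun x => ⟨fun hx => h.unique t ht.1 _ _ (congrArg Subtype.val hx) ht.2,
      fun hx => Subtype.ext (by show t • x.1 = x.1; rw [hx, ht.2])⟩
  have : Fact (Nat.Prime 2) := ⟨Nat.prime_two⟩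
  have hmod : (fixSet Ω S).ncard ≡ Nat.card (Function.fixedPoints σ) [MOD 2] := by
    rw [← Nat.card_coe_set_eq, Nat.card_eq_fintype_card, Nat.card_eq_fintype_card]
    exact Equiv.Perm.card_fixedPoints_modEq hσ
  by_cases hc : c ∈ fixSet Ω S
  · refine iff_of_true ?_ hc
    have h1 : Nat.card (Function.fixedPoints σ) = 1 := by
      rw [Nat.card_eq_one_iff_exists]
      exact ⟨⟨⟨c, hc⟩, (hfix _).2 rfl⟩,
        fun y => Subtype.ext (Subtype.ext ((hfix y.1).1 y.2))⟩
    rw [h1] at hmod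
    exact Nat.odd_iff.2 hmod
  · refine iff_of_false ?_ hc
    have h1 : Nat.card (Function.fixedPoints σ) = 0 := by
      have : IsEmpty (Function.fixedPoints σ) :=
        ⟨fun y => hc ((hfix y.1).1 y.2 ▸ y.1.2)⟩
      exact Nat.card_of_isEmpty
    rw [h1] at hmod
    rw [Nat.odd_iff]
    unfold Nat.ModEq at hmod
    omega

/-- Two commuting members normalising an odd subgroup that has an element inverted by a member
coincide. -/
theorem iso_of_inverted [Finite G] {S : Subgroup G} (hS : Odd (Nat.card S)) {y a : G} (hy : y ∈ S)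
    (hy1 : y ≠ 1) (ha : a ∈ D) (hinv : a * y * a = y⁻¹) :
    ∀ s ∈ D, ∀ t ∈ D, s ∈ Subgroup.normalizer (S : Set G) → t ∈ Subgroup.normalizer (S : Set G) →
      Commute s t → s = t := by
  intro s hs t ht hsn htn hc
  by_contra hne
  have hn : ∀ {r : G}, r ∈ D → r ∈ Subgroup.normalizer (S : Set G) → ∀ w ∈ S, r * w * r ∈ S :=
    fun {r} hr hrn w hw => by
      have h1 := Coprime.mem_normalizer_conj hrn hw
      rwa [root_inv h.root hr] at h1
  exact hy1 (inverted_eq_one h.root h.closed ha hs hinv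
    ((commute_of_normalizes h.root h.closed hS hs ht hc hne (hn hs hsn) (hn ht htn) y hy).1).symm
    (hS.of_dvd_nat (Subgroup.orderOf_dvd_natCard _ hy)))

end PointFix

end CfsgLib.RootConnect
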