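import Mathlib
import Cfsg.Agent.Lib.RootConnect.Swaps

/-!
A Sylow subgroup, for a prime dividing the number of members at a point, of the odd core of the
stabiliser of two points does not fix the point of a member interchanging them and normalising it.
-/

set_option autoImplicit false

namespace CfsgLib.RootConnect

open CfsgLib.Involutions CfsgLib.RootInvolutions CfsgLib.OddOrder MulAction
open CfsgLib.BenderTrans (two mem_two_iff two_comm fixSet smul_mem_fixSet fixSet_anti cls cls_mono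
  coreIn coreIn_le le_normalizer_coreIn odd_coreIn ncard_cls_mul smul_smul_self mem_normalizer_oPrime
  commSub commSub_le cls_commSub commSub_map_conj commSub_eq_of_cls le_normalizer_commSub
  self_mem_normalizer_commSub exists_mul_of_cls le_of_centralizers exists_conj_normalizes
  exists_invariant_sylowOf_ge ncard_cls_sylowOf card_sylowOf sylowOf_of_card derivedOf derivedOf_le
  derivedOf_eq mem_normalizer_derivedOf ncard_modEq_fixed ncard_cls_map_conj
  map_conj_of_mem_normalizer smul_of_commute_fix)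
open scoped commutatorElement

universe u v

variable {G : Type u} [Group G] {Ω : Type v} [MulAction G Ω] {D : Set G}

/-- The points of the members in `M`. -/
def centres (Ω : Type v) [MulAction G Ω] (D : Set G) (M : Subgroup G) : Set Ω :=
  {x | ∃ t ∈ M, t ∈ pts D x}

/-- The `q`-part of the number of members at a point. -/
noncomputable def qp (D : Set G) (c : Ω) (q : ℕ) : ℕ := q ^ (pts D c).ncard.factorization q

namespace PointFix

variable (h : PointFix (Ω := Ω) D)
include h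

theorem smul_mem_centres {M : Subgroup G} {g : G} (hg : g ∈ M) {x : Ω}
    (hx : x ∈ centres Ω D M) : g • x ∈ centres Ω D M := by
  obtain ⟨t, htM, ht⟩ := hx
  exact ⟨g * t * g⁻¹, mul_mem (mul_mem hg htM) (inv_mem hg), h.conj_pts ht⟩

variable [Finite G]

theorem exists_sw_centres {M : Subgroup G} {a b : Ω} (ha : a ∈ centres Ω D M)
    (hb : b ∈ centres Ω D M) (hab : a ≠ b) : ∃ r ∈ M, r ∈ sw D a b := by
  obtain ⟨s, hsM, hs⟩ := ha
  obtain ⟨t, htM, ht⟩ := hb
  obtain ⟨r, hr, -, hcl⟩ := h.exists_mid hs ht hab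
  refine ⟨r, (Subgroup.closure_le M).2 ?_ hcl, hr⟩
  rintro _ (rfl | rfl) <;> assumption

theorem exists_sw {a b : Ω} (hab : a ≠ b) : ∃ r, r ∈ sw D a b := by
  obtain ⟨s, hs⟩ := h.exists_pts a
  obtain ⟨t, ht⟩ := h.exists_pts b
  obtain ⟨r, hr, -, -⟩ := h.exists_mid hs ht hab
  exact ⟨r, hr⟩

/-- A subgroup normalised by `M` and fixing one of its points fixes all of them. -/
theorem fix_centres {M V : Subgroup G} (hV : M ≤ Subgroup.normalizer (V : Set G)) {c : Ω}
    (hc : c ∈ centres Ω D M) (hfix : c ∈ fixSet Ω V) :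
    ∀ x ∈ centres Ω D M, x ∈ fixSet Ω V := by
  intro x hx
  rcases eq_or_ne x c with rfl | hne
  · exact hfix
  · obtain ⟨r, hrM, hr⟩ := h.exists_sw_centres hc hx hne.symm
    rw [← hr.2]
    exact smul_mem_fixSet (hV hrM) hfix

theorem centre_mem_of_odd {i : G} {d : Ω} (hi : i ∈ pts D d) {B : Set Ω} [Finite Ω]
    (hB : ∀ x ∈ B, i • x ∈ B) (hodd : Odd B.ncard) : d ∈ B := by
  have : Fact (Nat.Prime 2) := ⟨Nat.prime_two⟩
  have hi2 := h.invol hi.1
  have hS : IsPGroup 2 (Subgroup.zpowers i) :=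
    IsPGroup.of_card (n := 1) (by rw [Nat.card_zpowers, hi2, pow_one])
  have h1 := ncard_modEq_fixed hS B (fun s hs x hx => by
    rw [Subgroup.mem_zpowers_iff] at hs
    obtain ⟨j, rfl⟩ := hs
    rcases Int.even_or_odd j with ⟨l, rfl⟩ | ⟨l, rfl⟩
    · rw [← two_mul, zpow_mul, zpow_ofNat, pow_two, h.mul_self hi.1, one_zpow, one_smul]
      exact hx
    · rw [zpow_add, zpow_mul, zpow_ofNat, pow_two, h.mul_self hi.1, one_zpow, one_mul, zpow_one]
      exact hB x hx)
  obtain ⟨x, hxB, hx⟩ : (B ∩ fixSet Ω (Subgroup.zpowers i)).Nonempty := by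
    by_contra hne
    rw [Set.not_nonempty_iff_eq_empty] at hne
    rw [hne, Set.ncard_empty] at h1
    rw [Nat.odd_iff] at hodd
    unfold Nat.ModEq at h1
    omega
  exact h.unique i hi.1 _ _ (hx i (Subgroup.mem_zpowers i)) hi.2 ▸ hxB

/-- A point with two members whose product has order `4`. -/
theorem exists_four_at (a : Ω) :
    ∃ s ∈ pts D a, ∃ t ∈ pts D a, orderOf (s * t) = 4 := by
  obtain ⟨u, hu, v, hv, h4⟩ := h.exists_four
  obtain ⟨x, hx⟩ := h.exists_fix u hu
  obtain ⟨y, hy⟩ := h.exists_fix v hv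
  obtain rfl : x = y := h.same_of_not_odd ⟨hu, hx⟩ ⟨hv, hy⟩ (by rw [h4]; decide)
  obtain ⟨g, rfl⟩ := h.trans x a
  refine ⟨_, h.conj_pts (g := g) ⟨hu, hx⟩, _, h.conj_pts (g := g) ⟨hv, hy⟩, ?_⟩
  rw [show g * u * g⁻¹ * (g * v * g⁻¹) = g * (u * v) * g⁻¹ by group, orderOf_conj_eq, h4]

/-- No non-trivial subgroup of odd order is normalised by the core of a pair, a member at one of its
points and a member at a further point. -/
theorem false_of_normalized {X : Subgroup G} (hX : X ≠ ⊥) (hodd : Odd (Nat.card X)) {a b e : Ω}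
    (hab : a ≠ b) (hae : a ≠ e) (hO : otwo G a b ≤ Subgroup.normalizer (X : Set G)) {t r : G}
    (ht : t ∈ pts D a) (htn : t ∈ Subgroup.normalizer (X : Set G)) (hr : r ∈ pts D e)
    (hrn : r ∈ Subgroup.normalizer (X : Set G)) : False := by
  set N := Subgroup.normalizer (X : Set G) with hN
  have hall : ∀ s ∈ pts D a, s ∈ N := by
    intro s hs
    obtain ⟨d, hd, rfl⟩ := h.exists_conj_pts hab ht hs
    exact N.mul_mem (N.mul_mem (hO hd) htn) (N.inv_mem (hO hd))
  obtain ⟨s₁, hs₁, s₂, hs₂, h4⟩ := h.exists_four_at a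
  obtain ⟨hz, hz1, hz2, he1, -, -⟩ := four_facts h.root hs₁.1 hs₂.1 h4
  set z := (s₁ * s₂) ^ 2 with hzdef
  have hza : z ∈ pts D a := ⟨hz, h.fix_of_commute hs₁ hz1⟩
  have hne1 : z ≠ s₁ := by
    intro e
    rw [e, h.mul_self hs₁.1, eq_comm, conj_eq_one_iff] at he1
    exact (orderOf_eq_one_iff.not.1 (by rw [h.invol hs₁.1]; decide)) he1
  have hne2 : z ≠ s₂ := by
    intro e
    have h3 : s₁ * (s₁ * s₂) ^ 2 = s₁ * s₂ := by rw [← hzdef, e]
    have h5 : (s₁ * s₂) ^ 2 = s₂ := mul_left_cancel h3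
    have h6 : s₁ * s₂ * s₁ = 1 := by
      have : s₁ * s₂ * s₁ * s₂ = 1 * s₂ := by
        rw [one_mul]
        calc s₁ * s₂ * s₁ * s₂ = (s₁ * s₂) ^ 2 := by rw [pow_two]; group
          _ = s₂ := h5
      exact mul_right_cancel this
    have h7 : s₂ = 1 := by
      calc s₂ = s₁ * (s₁ * s₂ * s₁) * s₁ := by
            rw [show s₁ * (s₁ * s₂ * s₁) * s₁ = (s₁ * s₁) * s₂ * (s₁ * s₁) by group,
              h.mul_self hs₁.1, one_mul, mul_one]
        _ = 1 := by rw [h6, mul_one, h.mul_self hs₁.1]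
    exact (orderOf_eq_one_iff.not.1 (by rw [h.invol hs₂.1]; decide)) h7
  have hnn : ∀ {g : G}, g ∈ pts D a → ∀ w ∈ X, g * w * g ∈ X := fun {g} hg w hw => by
    have h1 := Coprime.mem_normalizer_conj (hall g hg) hw
    rwa [root_inv h.root hg.1] at h1
  have hc1 := commute_of_normalizes h.root h.closed hodd hz hs₁.1 hz1 hne1 (hnn hza) (hnn hs₁)
  have hc2 := commute_of_normalizes h.root h.closed hodd hz hs₂.1 hz2 hne2 (hnn hza) (hnn hs₂)
  obtain ⟨g, -, hge, hgcl⟩ := h.exists_mid hza hr hae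
  have hgN : g ∈ N := by
    refine (Subgroup.closure_le N).2 ?_ hgcl
    rintro _ (rfl | rfl)
    exacts [hall _ hza, hrn]
  obtain ⟨x, hxX, hx1⟩ : ∃ x ∈ X, x ≠ 1 := by
    by_contra hcon
    push Not at hcon
    exact hX ((Subgroup.eq_bot_iff_forall X).2 hcon)
  have hxr : Commute x r := by
    have h1 := (hc1 _ (Coprime.mem_normalizer_conj' hgN hxX)).1
    rw [← hge]
    show x * (g * z * g⁻¹) = g * z * g⁻¹ * x
    calc x * (g * z * g⁻¹) = g * (g⁻¹ * x * g * z) * g⁻¹ := by group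
      _ = g * (z * (g⁻¹ * x * g)) * g⁻¹ := by rw [h1.eq]
      _ = g * z * g⁻¹ * x := by group
  have h2 := h.local_eq x hx1 s₁ hs₁.1 s₂ hs₂.1 r hr.1 h4 (hc1 x hxX).2.symm (hc2 x hxX).2.symm
    hxr a hs₁.2
  exact hae (h.unique r hr.1 a e h2 hr.2)

variable [Finite Ω]

theorem ne_two_of_dvd {q : ℕ} [hq : Fact q.Prime] {c : Ω} (hdvd : q ∣ (pts D c).ncard) :
    q ≠ 2 := by
  rintro rfl
  obtain ⟨x, hx⟩ := h.exists_ne c
  obtain ⟨s, hs⟩ := h.exists_pts c
  have h1 := ncard_cls_mul (otwo G c x) s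
  rw [h.cls_otwo_pts hx.symm hs] at h1
  have h2 : (2 : ℕ) ∣ Nat.card (otwo G c x) := h1 ▸ hdvd.trans (dvd_mul_right _ _)
  exact Nat.not_even_iff_odd.2 (odd_otwo c x) (even_iff_two_dvd.2 h2)

theorem one_lt_qp {q : ℕ} [hq : Fact q.Prime] {c : Ω} (hdvd : q ∣ (pts D c).ncard) :
    1 < qp D c q := by
  have hne : (pts D c).ncard ≠ 0 := ((Set.ncard_pos (Set.toFinite _)).2 (h.exists_pts c)).ne'
  exact Nat.one_lt_pow
    (hq.out.factorization_pos_of_dvd hne hdvd).ne' hq.out.one_lt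

theorem qp_eq (a b : Ω) (q : ℕ) : qp D a q = qp D b q := by rw [qp, qp, h.ncard_pts_eq a b]

theorem qp_eq_cls {q : ℕ} [Fact q.Prime] {x y : Ω} (hxy : x ≠ y) {r : G} (hr : r ∈ sw D x y)
    {W : Subgroup G} (hW : SylowOf q W (otwo G x y))
    (hWn : r ∈ Subgroup.normalizer (W : Set G)) (c : Ω) : (cls W r).ncard = qp D c q := by
  rw [ncard_cls_sylowOf (odd_otwo x y) (h.invol hr.1) (h.sw_normalizes hr) hW hWn,
    h.cls_otwo_sw hxy hr, h.ncard_sw hxy, h.qp_eq c x]
  rfl

theorem exists_sw_normalizes {q : ℕ} [Fact q.Prime] {x y : Ω} (hxy : x ≠ y) {W : Subgroup G}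
    (hW : SylowOf q W (otwo G x y)) :
    ∃ r ∈ sw D x y, r ∈ Subgroup.normalizer (W : Set G) := by
  obtain ⟨r, hr⟩ := h.exists_sw hxy
  obtain ⟨d, hd, hdn⟩ :=
    exists_conj_normalizes (odd_otwo x y) (h.invol hr.1) (h.sw_normalizes hr) hW
  refine ⟨_, ?_, hdn⟩
  have h1 := h.conj_sw (g := d) hr
  rwa [(otwo_fix hd).1, (otwo_fix hd).2] at h1

/-- A pair, a member interchanging it with its point and an invariant Sylow subgroup fixing the
point such that what centralises its commutator fixes the point. -/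
def Config {G : Type u} [Group G] (Ω : Type v) [MulAction G Ω] (D : Set G) (q : ℕ) (a b : Ω)
    (r : G) (e : Ω) (W : Subgroup G) : Prop :=
  a ≠ b ∧ r ∈ sw D a b ∧ r • e = e ∧ SylowOf q W (otwo G a b) ∧
    r ∈ Subgroup.normalizer (W : Set G) ∧ e ∈ fixSet Ω W ∧
    otwo G a b ⊓ Subgroup.centralizer (commSub W r : Set G) ≤ stabilizer G e

theorem sylowOf_otwo_centre {q : ℕ} [Fact q.Prime] {a b e : Ω} (hab : a ≠ b) {r : G}
    (hr : r ∈ sw D a b) (he : r • e = e) {W : Subgroup G} (hW : SylowOf q W (otwo G a b))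
    (hWe : e ∈ fixSet Ω W) : SylowOf q W (otwo G a e) := by
  obtain ⟨hle, hcard⟩ := h.otwo_inf_le hab hr he
  refine sylowOf_of_card (fun g hg => hle ⟨hW.1 hg, hWe g hg⟩) hW.2.1 ?_
  rw [hcard, card_sylowOf hW]

/-- There is no closed family of configurations. -/
theorem false_of_family (hFT : ∀ X : Subgroup G, Odd (Nat.card X) → Group.IsSolvable X) {q : ℕ}
    [hq : Fact q.Prime] {c₀ : Ω} (hdvd : q ∣ (pts D c₀).ncard)
    (P : Ω → Ω → G → Ω → Subgroup G → Prop)
    (hP : ∀ a b r e W, P a b r e W → Config Ω D q a b r e W) (hne : ∃ a b r e W, P a b r e W)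
    (hclosed : ∀ a b r e W, P a b r e W → ∃ w f, P a e w f W) : False := by
  classical
  set S : Set (Ω × Ω) := {z | ∃ r e W, P z.1 z.2 r e W}
  have hSne : S.Nonempty := by
    obtain ⟨a, b, r, e, W, h'⟩ := hne
    exact ⟨(a, b), r, e, W, h'⟩
  obtain ⟨⟨a, b⟩, ⟨r, e, W, hPc⟩, hmax⟩ :=
    Set.exists_max_image S (fun z => Nat.card (oPrime q (otwo G z.1 z.2))) (Set.toFinite _) hSne
  replace hPc : P a b r e W := hPc
  obtain ⟨hab, hr, hre, hW, hWn, hWe, hcond⟩ := hP _ _ _ _ _ hPc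
  obtain ⟨w, f, hPw⟩ := hclosed _ _ _ _ _ hPc
  obtain ⟨hae, hw, -, hWae, hwn, -, -⟩ := hP _ _ _ _ _ hPw
  set A := oPrime q (otwo G a b) with hA
  have hAodd : Odd (Nat.card A) :=
    (odd_otwo a b).of_dvd_nat (Subgroup.card_dvd_of_le (oPrime_le _))
  have hWodd : Odd (Nat.card W) := (odd_otwo a b).of_dvd_nat (Subgroup.card_dvd_of_le hW.1)
  have hr2 := h.invol hr.1
  have hAe : A ≤ A ⊓ stabilizer G e := by
    have : Group.IsSolvable A := hFT A hAodd
    refine le_of_centralizers (Q := W) hr2 hAodd hW.2.1 (oPrime_coprime _)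
      (mem_normalizer_oPrime (h.sw_normalizes hr)) (hW.1.trans (oPrime_normal _)) hWn inf_le_left
      (Coprime.mem_normalizer_of_forall_conj fun x hx => ⟨Coprime.mem_normalizer_conj
        (mem_normalizer_oPrime (h.sw_normalizes hr)) hx.1, ?_⟩)
      (fun y hy => Coprime.mem_normalizer_of_forall_conj fun x hx => ⟨Coprime.mem_normalizer_conj
        (oPrime_normal _ (hW.1 hy)) hx.1, ?_⟩)
      (fun x hx hc => ⟨hx, h.fix_of_commute ⟨hr.1, hre⟩ hc⟩)
      (le_inf inf_le_left ((inf_le_inf_right _ (oPrime_le _)).trans hcond))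
    · show (r * x * r⁻¹) • e = e
      rw [inv_eq_self_of_involution hr2, mul_smul, mul_smul, hre, hx.2, hre]
    · show (y * x * y⁻¹) • e = e
      rw [mul_smul, mul_smul, hWe _ (W.inv_mem hy), hx.2, hWe y hy]
  have hsolv : Group.IsSolvable (otwo G a e) := hFT _ (odd_otwo a e)
  have hAle : A ≤ oPrime q (otwo G a e) :=
    le_oPrime_of_sylowOf_normalizes hWae
      (fun g hg => (h.otwo_inf_le hab hr hre).1 ⟨oPrime_le _ hg, (hAe hg).2⟩)
      (oPrime_coprime _) (hW.1.trans (oPrime_normal _))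
  have hAeq : oPrime q (otwo G a e) = A :=
    (Subgroup.eq_of_le_of_card_ge hAle (hmax (a, e) ⟨w, f, W, hPw⟩)).symm
  have hcls : 1 < (cls W r).ncard :=
    (h.qp_eq_cls hab hr hW hWn c₀).symm ▸ h.one_lt_qp hdvd
  have hWne : W ≠ ⊥ := by
    intro e'
    refine absurd hcls (not_lt.2 ?_)
    rw [← Set.ncard_singleton r]
    refine Set.ncard_le_ncard ?_ (Set.toFinite _)
    rintro _ ⟨g, hg, rfl⟩
    rw [e', Subgroup.mem_bot] at hg
    simp [hg]
  obtain ⟨X, hX, hXodd, hXab, hXr, hXw⟩ : ∃ X : Subgroup G, X ≠ ⊥ ∧ Odd (Nat.card X) ∧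
      otwo G a b ≤ Subgroup.normalizer (X : Set G) ∧ r ∈ Subgroup.normalizer (X : Set G) ∧
      w ∈ Subgroup.normalizer (X : Set G) := by
    by_cases hA1 : A = ⊥
    · refine ⟨PLocal.zj 0 W, zj_ne_bot hW.2.1 hWne,
        hWodd.of_dvd_nat (Subgroup.card_dvd_of_le (PLocal.zj_le 0 W)), ?_,
        PLocal.normalizer_le_normalizer_zj 0 W hWn, PLocal.normalizer_le_normalizer_zj 0 W hwn⟩
      have : Group.IsSolvable (otwo G a b) := hFT _ (odd_otwo a b)
      have h1 := le_sup_normalizer_zj (odd_otwo a b) (h.ne_two_of_dvd hdvd) hW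
      rw [← hA, hA1, bot_sup_eq] at h1
      exact h1.trans inf_le_right
    · refine ⟨A, hA1, hAodd, oPrime_normal _, mem_normalizer_oPrime (h.sw_normalizes hr), ?_⟩
      rw [← hAeq]; exact mem_normalizer_oPrime (h.sw_normalizes hw)
  have ht : w * r * w⁻¹ ∈ pts D a := by
    have h1 := h.conj_pts (g := w) (show r ∈ pts D e from ⟨hr.1, hre⟩)
    rwa [h.sw_symm hw] at h1
  exact h.false_of_normalized hX hXodd hab hae hXab ht
    (Subgroup.mul_mem _ (Subgroup.mul_mem _ hXw hXr) (Subgroup.inv_mem _ hXw)) ⟨hr.1, hre⟩ hXr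

/-- A set of points of the normaliser of `Y` on which the point of an interchanging member is fixed
by what centralises `Y`. -/
theorem exists_block (hFT : ∀ X : Subgroup G, Odd (Nat.card X) → Group.IsSolvable X)
    {Y : Subgroup G} {u : G} {c : Ω} (hu : u ∈ pts D c)
    (huY : u ∈ Subgroup.normalizer (Y : Set G))
    (hiso : ∀ s ∈ D, ∀ t ∈ D, s ∈ Subgroup.normalizer (Y : Set G) →
      t ∈ Subgroup.normalizer (Y : Set G) → Commute s t → s = t)
    (hz : ∃ z ∈ centres Ω D (Subgroup.normalizer (Y : Set G)), z ≠ c) :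
    ∃ B : Set Ω, (∃ z ∈ B, z ≠ c) ∧ B ⊆ centres Ω D (Subgroup.normalizer (Y : Set G)) ∧
      (∀ z ∈ B, u • z ∈ B) ∧
      ∀ a ∈ B, ∀ b ∈ B, a ≠ b → ∀ r ∈ Subgroup.normalizer (Y : Set G), r ∈ sw D a b →
        ∀ e : Ω, r • e = e →
          e ∈ B ∧ otwo G a b ⊓ Subgroup.centralizer (Y : Set G) ≤ stabilizer G e := by
  set M := Subgroup.normalizer (Y : Set G) with hMdef
  have hcM : c ∈ centres Ω D M := ⟨u, huY, hu⟩
  obtain ⟨z, hz, hzc⟩ := hz
  set N0 := coreIn M with hN0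
  have hN0M := le_normalizer_coreIn M
  have hmove : ¬ c ∈ fixSet Ω N0 := by
    intro hfix
    obtain ⟨t, htM, ht⟩ := hz
    have h1 := hfix _ (mul_mem_coreIn_of_odd h.root hiso ht.1 hu.1 htM huY)
    rw [mul_smul, hu.2] at h1
    exact hzc (h.unique t ht.1 _ _ ht.2 h1)
  have hsolv : Group.IsSolvable N0 := hFT N0 (odd_coreIn M)
  obtain ⟨k, hk, hk1⟩ : ∃ k, ¬ c ∈ fixSet Ω (derivedOf N0 k) ∧
      c ∈ fixSet Ω (derivedOf N0 (k + 1)) := by
    by_contra hcon
    have hall' : ∀ k, ¬ c ∈ fixSet Ω (derivedOf N0 k) := by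
      intro k
      induction k with
      | zero => exact hmove
      | succ k ih => exact fun h' => hcon ⟨k, ih, h'⟩
    obtain ⟨k, hk⟩ := Group.IsSolvable.solvable (G := N0)
    refine hall' k ?_
    rw [derivedOf_eq, hk, Subgroup.map_bot]
    intro g hg
    rw [Subgroup.mem_bot.1 hg, one_smul]
  set V := derivedOf N0 k with hV
  have hMV : M ≤ Subgroup.normalizer (V : Set G) := fun g hg =>
    mem_normalizer_derivedOf (hN0M hg) k
  have hVM : V ≤ M := (derivedOf_le N0 k).trans (coreIn_le M)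
  have hcomm : ∀ v ∈ V, ∀ w ∈ V, ∀ x ∈ centres Ω D M, v • w • x = w • v • x := by
    intro v hv w hw x hx
    have hn : M ≤ Subgroup.normalizer (derivedOf N0 (k + 1) : Set G) := fun g hg =>
      mem_normalizer_derivedOf (hN0M hg) _
    have hy : w • v • x ∈ centres Ω D M :=
      h.smul_mem_centres (hVM hw) (h.smul_mem_centres (hVM hv) hx)
    have h1 := h.fix_centres hn hcM hk1 _ hy ⁅v, w⁆ (Subgroup.commutator_mem_commutator hv hw)
    calc v • w • x = ⁅v, w⁆ • w • v • x := by simp [commutatorElement_def, smul_smul, mul_assoc]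
      _ = w • v • x := h1
  set B := MulAction.orbit V c with hB
  have hBsub : B ⊆ centres Ω D M := by
    rintro _ ⟨j, rfl⟩
    exact h.smul_mem_centres (hVM j.2) hcM
  have hblock : ∀ i ∈ M, ∀ x ∈ B, i • x ∈ B → ∀ y ∈ B, i • y ∈ B := by
    rintro i hiM _ ⟨v, rfl⟩ ⟨w, hw⟩ _ ⟨j, rfl⟩
    have hw' : (w : G) • c = i • (v : G) • c := hw
    refine ⟨⟨i * (j * (v : G)⁻¹) * i⁻¹, Coprime.mem_normalizer_conj (hMV hiM)
      (V.mul_mem j.2 (V.inv_mem v.2))⟩ * w, ?_⟩
    show (i * ((j : G) * (v : G)⁻¹) * i⁻¹ * (w : G)) • c = i • (j : G) • c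
    rw [mul_smul, hw', smul_smul, inv_mul_cancel_right, mul_smul, mul_smul, inv_smul_smul]
  have hBodd : Odd B.ncard := by
    rw [hB, ← MulAction.index_stabilizer]
    exact ((odd_coreIn M).of_dvd_nat (Subgroup.card_dvd_of_le (derivedOf_le N0 k))).of_dvd_nat
      (Subgroup.index_dvd_card _)
  have hcB : c ∈ B := MulAction.mem_orbit_self c
  have hz' : ∃ z ∈ B, z ≠ c := by
    by_contra hcon
    push Not at hcon
    exact hk fun v hv => hcon _ ⟨⟨v, hv⟩, rfl⟩
  refine ⟨B, hz', hBsub, hblock u huY c hcB (by rw [hu.2]; exact hcB), ?_⟩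
  intro a ha b hb hab r hrM hr e he
  have heB : e ∈ B :=
    h.centre_mem_of_odd ⟨hr.1, he⟩ (hblock r hrM a ha (by rw [hr.2]; exact hb)) hBodd
  refine ⟨heB, ?_⟩
  -- a member acts on the block by inverting at its point
  have hinv : ∀ i ∈ M, ∀ {d : Ω}, i ∈ pts D d → d ∈ B → ∀ v ∈ V, i • v • d = v⁻¹ • d := by
    intro i hiM d hi hd v hv
    have hi2 := h.invol hi.1
    have hiv : i * v * i⁻¹ ∈ V := Coprime.mem_normalizer_conj (hMV hiM) hv
    have hx : v • (i * v * i⁻¹) • d = d := by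
      refine h.unique i hi.1 _ _ ?_ hi.2
      calc i • v • (i * v * i⁻¹) • d = (i * v * i⁻¹) • i • (i * v * i⁻¹) • d := by
            simp [smul_smul, mul_assoc]
        _ = (i * v * i⁻¹) • v • d := by
            rw [inv_eq_self_of_involution hi2]
            congr 1
            rw [mul_smul (i * v) i d, hi.2, mul_smul, smul_smul_self hi2]
        _ = v • (i * v * i⁻¹) • d := hcomm _ hiv _ hv d (hBsub hd)
    calc i • v • d = (i * v * i⁻¹) • d := by
          rw [mul_smul, mul_smul, inv_eq_self_of_involution hi2, hi.2]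
      _ = v⁻¹ • v • (i * v * i⁻¹) • d := by rw [inv_smul_smul]
      _ = v⁻¹ • d := by rw [hx]
  intro g hg
  have hgM : g ∈ M := Subgroup.centralizer_le_normalizer _ hg.2
  obtain ⟨hga, hgb⟩ := otwo_fix hg.1
  have hr' : g * r * g⁻¹ ∈ sw D a b := by
    have h1 := h.conj_sw (g := g) hr
    rwa [hga, hgb] at h1
  have hrinv : g * r * g⁻¹ ∈ pts D (g • e) := h.conj_pts ⟨hr.1, he⟩
  have hrM' : g * r * g⁻¹ ∈ M := M.mul_mem (M.mul_mem hgM hrM) (M.inv_mem hgM)
  have hgeB : g • e ∈ B :=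
    h.centre_mem_of_odd hrinv (hblock _ hrM' a ha (by rw [hr'.2]; exact hb)) hBodd
  obtain ⟨⟨v, hv⟩, hve⟩ : g • e ∈ MulAction.orbit V e := by
    rw [MulAction.orbit_eq_iff.2 (show e ∈ MulAction.orbit V c from heB)]
    exact hgeB
  obtain ⟨⟨w, hw⟩, hwe⟩ : a ∈ MulAction.orbit V e := by
    rw [MulAction.orbit_eq_iff.2 (show e ∈ MulAction.orbit V c from heB)]
    exact ha
  have hve' : v • e = g • e := hve
  have hwe' : w • e = a := hwe
  have hb1 : b = w⁻¹ • e := by rw [← hr.2, ← hwe', hinv r hrM ⟨hr.1, he⟩ heB w hw]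
  have hb2 : b = v • w⁻¹ • v • e := by
    rw [← hr'.2, hve', ← hwe']
    have : w • e = (w * v⁻¹) • (g • e) := by rw [← hve', mul_smul, inv_smul_smul]
    rw [this, hinv _ hrM' hrinv hgeB _ (V.mul_mem hw (V.inv_mem hv)), mul_inv_rev, inv_inv,
      mul_smul]
  have hfix : v • v • (w⁻¹ • e) = w⁻¹ • e := by
    conv_rhs => rw [← hb1, hb2]
    rw [hcomm v hv w⁻¹ (V.inv_mem hw) e (hBsub heB)]
  have hvodd : Odd (orderOf v) :=
    (odd_coreIn M).of_dvd_nat (Subgroup.orderOf_dvd_natCard _ (derivedOf_le N0 k hv))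
  have h1 := smul_of_commute_fix hvodd hfix
  rw [hcomm v hv w⁻¹ (V.inv_mem hw) e (hBsub heB)] at h1
  show g • e = e
  rw [← hve']
  exact MulAction.injective w⁻¹ h1

/-- The point of a member interchanging two points and normalising a Sylow subgroup of their core,
for a prime dividing the number of members at a point, is not fixed by that subgroup. -/
theorem notMem_fixSet (hFT : ∀ X : Subgroup G, Odd (Nat.card X) → Group.IsSolvable X) {q : ℕ}
    [hq : Fact q.Prime] {x y : Ω} (hxy : x ≠ y) (hdvd : q ∣ (pts D x).ncard) {Q : Subgroup G}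
    (hQ : SylowOf q Q (otwo G x y)) {u : G} (hu : u ∈ sw D x y)
    (hun : u ∈ Subgroup.normalizer (Q : Set G)) {c : Ω} (hc : u • c = c) :
    c ∉ fixSet Ω Q := by
  intro hcQ
  have hu2 := h.invol hu.1
  set Y := commSub Q u with hYdef
  have hQodd : Odd (Nat.card Q) := (odd_otwo x y).of_dvd_nat (Subgroup.card_dvd_of_le hQ.1)
  have hYQ : Y ≤ Q := commSub_le hu2 hun
  have hYodd : Odd (Nat.card Y) := hQodd.of_dvd_nat (Subgroup.card_dvd_of_le hYQ)
  have hYbig : (cls Y u).ncard = qp D c q := by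
    rw [hYdef, cls_commSub hu2 hun hQodd, h.qp_eq_cls hxy hu hQ hun c]
  have hY1 : 1 < (cls Y u).ncard := by
    rw [hYbig, h.qp_eq c x]; exact h.one_lt_qp hdvd
  have hYu : u ∈ Subgroup.normalizer (Y : Set G) := self_mem_normalizer_commSub hu2
  set M := Subgroup.normalizer (Y : Set G) with hMdef
  have hiso : ∀ s ∈ D, ∀ t ∈ D, s ∈ M → t ∈ M → Commute s t → s = t := by
    obtain ⟨g, hg, hgne⟩ : ∃ g ∈ Q, g * u * g⁻¹ ≠ u := by
      by_contra hcon
      push Not at hcon
      refine absurd hY1 (not_lt.2 ?_)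
      rw [← Set.ncard_singleton u]
      refine Set.ncard_le_ncard ?_ (Set.toFinite _)
      rintro _ ⟨g, hg, rfl⟩
      exact hcon g (hYQ hg)
    refine h.iso_of_inverted hYodd (BenderTrans.mul_mem_commSub hg)
      (fun e => hgne ?_) hu.1 ?_
    · rw [eq_inv_of_mul_eq_one_left e, root_inv h.root hu.1]
    · rw [mul_inv_rev, root_inv h.root hu.1, mul_inv_rev, inv_inv, mul_inv_rev,
        root_inv h.root hu.1]
      calc u * (g * u * g⁻¹ * u) * u = u * (g * u * g⁻¹) * (u * u) := by group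
        _ = u * (g * (u * g⁻¹)) := by rw [h.mul_self hu.1, mul_one, mul_assoc]
  by_cases hM : ∃ z ∈ centres Ω D M, z ≠ c
  · -- the normaliser of `Y` has several points
    have hYc : ∀ z ∈ centres Ω D M, z ∈ fixSet Ω Y :=
      h.fix_centres (M := M) le_rfl ⟨u, hYu, hu.1, hc⟩ (fixSet_anti hYQ hcQ)
    obtain ⟨B, ⟨z, hz, hzc⟩, hBsub, huB, hblk⟩ := h.exists_block hFT ⟨hu.1, hc⟩ hYu hiso hM
    have hmk : ∀ a ∈ B, ∀ b ∈ B, a ≠ b → ∀ r ∈ M, r ∈ sw D a b → ∀ e, r • e = e →
        ∀ W, SylowOf q W (otwo G a b) → r ∈ Subgroup.normalizer (W : Set G) → Y ≤ W →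
        e ∈ B ∧ Config Ω D q a b r e W ∧ W ≤ M := by
      intro a ha b hb hab r hrM hr e he W hW hWn hYW
      obtain ⟨heB, hcent⟩ := hblk a ha b hb hab r hrM hr e he
      have hr2 := h.invol hr.1
      obtain ⟨g, hg₀, hge⟩ := exists_conj_of_mul_mem hu2 hr2 (odd_coreIn M)
        (mul_mem_coreIn_of_odd h.root hiso hu.1 hr.1 hYu hrM)
      have hg : g ∈ M := coreIn_le M hg₀
      have hmap : Y.map (MulAut.conj g).toMonoidHom = Y := map_conj_of_mem_normalizer hg
      have hclsY : (cls Y r).ncard = qp D e q := by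
        have h1 := ncard_cls_map_conj Y u g
        rw [hmap, hge] at h1
        rw [h1, hYbig, h.qp_eq c e q]
      have hYr : commSub Y r = Y := by
        have h1 := commSub_map_conj Y u g
        rw [hmap, hge] at h1
        rw [← h1, hYdef, commSub_eq_of_cls (cls_commSub hu2 hun hQodd), ← hYdef, hmap]
      have hle : (cls W r).ncard ≤ (cls Y r).ncard := by
        rw [hclsY, h.qp_eq_cls hab hr hW hWn e]
      have hclsW : cls W r = cls Y r :=
        (Set.eq_of_subset_of_ncard_le (cls_mono hYW r) hle (Set.toFinite _)).symm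
      have hWY : commSub W r = Y := by rw [commSub_eq_of_cls hclsW, hYr]
      refine ⟨heB, ⟨hab, hr, he, hW, hWn, ?_, by rw [hWY]; exact hcent⟩, ?_⟩
      · intro w hw
        obtain ⟨s, hs, d, -, hdr, rfl⟩ := exists_mul_of_cls hYW hle hw
        rw [mul_smul, h.fix_of_commute ⟨hr.1, he⟩ hdr, hYc e (hBsub heB) s hs]
      · rw [hMdef, ← hWY]
        exact le_normalizer_commSub hr2
    refine h.false_of_family hFT hdvd
      (fun a b r e W => a ∈ B ∧ b ∈ B ∧ a ≠ b ∧ r ∈ M ∧ r ∈ sw D a b ∧ r • e = e ∧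
        SylowOf q W (otwo G a b) ∧ r ∈ Subgroup.normalizer (W : Set G) ∧ Y ≤ W) ?_ ?_ ?_
    · rintro a b r e W ⟨ha, hb, hab, hrM, hr, he, hW, hWn, hYW⟩
      exact (hmk a ha b hb hab r hrM hr e he W hW hWn hYW).2.1
    · have hne : z ≠ u • z := fun e => hzc (h.unique u hu.1 _ _ e.symm hc)
      have hzfix := hYc z (hBsub hz)
      have huzfix := hYc _ (hBsub (huB z hz))
      have huzsw : u ∈ sw D z (u • z) := ⟨hu.1, rfl⟩
      have hYO : Y ≤ otwo G z (u • z) := by
        have hY : Y = commSub Y u := by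
          rw [hYdef, commSub_eq_of_cls (cls_commSub hu2 hun hQodd)]
        rw [hY]
        refine (Subgroup.closure_le _).2 ?_
        rintro _ ⟨_, ⟨g, hg, rfl⟩, rfl⟩
        refine h.sw_mul_mem hne ?_ huzsw
        have h1 := h.conj_sw (g := g) huzsw
        rwa [hzfix g hg, huzfix g hg] at h1
      obtain ⟨W, hW, hYW, hWn⟩ := exists_invariant_sylowOf_ge (odd_otwo z (u • z)) hu2
        (h.sw_normalizes huzsw) hYO (hQ.2.1.to_le hYQ) hYu
      exact ⟨z, u • z, u, c, W, hz, huB z hz, hne, hYu, huzsw, hc, hW, hWn, hYW⟩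
    · rintro a b r e W ⟨ha, hb, hab, hrM, hr, he, hW, hWn, hYW⟩
      obtain ⟨heB, hcfg, hWM⟩ := hmk a ha b hb hab r hrM hr e he W hW hWn hYW
      have hae : a ≠ e := (h.ne_of_sw hab hr he).1.symm
      have hWae := h.sylowOf_otwo_centre hab hr he hW hcfg.2.2.2.2.2.1
      obtain ⟨w₀, hw₀M, hw₀⟩ := h.exists_sw_centres (hBsub ha) (hBsub heB) hae
      have hn : w₀ ∈ Subgroup.normalizer ((M ⊓ otwo G a e : Subgroup G) : Set G) :=
        Coprime.mem_normalizer_of_forall_conj fun x hx =>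
          ⟨M.mul_mem (M.mul_mem hw₀M hx.1) (M.inv_mem hw₀M),
            Coprime.mem_normalizer_conj (h.sw_normalizes hw₀) hx.2⟩
      obtain ⟨d, hd, hdn⟩ := exists_conj_normalizes
        ((odd_otwo a e).of_dvd_nat (Subgroup.card_dvd_of_le inf_le_right)) (h.invol hw₀.1) hn
        (hWae.mono inf_le_right (le_inf hWM hWae.1))
      have hsw : d * w₀ * d⁻¹ ∈ sw D a e := by
        have h1 := h.conj_sw (g := d) hw₀
        rwa [(otwo_fix hd.2).1, (otwo_fix hd.2).2] at h1
      obtain ⟨f, hf⟩ := h.exists_fix _ hsw.1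
      exact ⟨_, f, ha, heB, hae, M.mul_mem (M.mul_mem hd.1 hw₀M) (M.inv_mem hd.1), hsw, hf, hWae,
        hdn, hYW⟩
  · -- all members in the normaliser have one point
    have hone : ∀ i ∈ M, i ∈ D → i • c = c := by
      intro i hi hiD
      obtain ⟨z, hz⟩ := h.exists_fix i hiD
      rcases eq_or_ne z c with rfl | hne
      · exact hz
      · exact absurd ⟨z, ⟨i, hi, hiD, hz⟩, hne⟩ hM
    refine h.false_of_family hFT hdvd
      (fun a b r e W => a ≠ b ∧ r ∈ sw D a b ∧ r • e = e ∧ SylowOf q W (otwo G a b) ∧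
        r ∈ Subgroup.normalizer (W : Set G) ∧ e ∈ fixSet Ω W ∧
        ∀ i ∈ Subgroup.normalizer (commSub W r : Set G), i ∈ D → i • e = e) ?_
      ⟨x, y, u, c, Q, hxy, hu, hc, hQ, hun, hcQ, hone⟩ ?_
    · rintro a b r e W ⟨hab, hr, he, hW, hWn, hWe, hone⟩
      refine ⟨hab, hr, he, hW, hWn, hWe, fun g hg => ?_⟩
      have hgn := Subgroup.centralizer_le_normalizer _ hg.2
      have h1 := h.conj_pts (g := g) (show r ∈ pts D e from ⟨hr.1, he⟩)
      have h2 := hone _ (Subgroup.mul_mem _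
        (Subgroup.mul_mem _ hgn (self_mem_normalizer_commSub (h.invol hr.1)))
        (Subgroup.inv_mem _ hgn)) h1.1
      exact h.unique _ h1.1 _ _ h1.2 h2
    · rintro a b r e W ⟨hab, hr, he, hW, hWn, hWe, hone⟩
      have hae : a ≠ e := (h.ne_of_sw hab hr he).1.symm
      have hWae := h.sylowOf_otwo_centre hab hr he hW hWe
      obtain ⟨w, hw, hwn⟩ := h.exists_sw_normalizes hae hWae
      obtain ⟨f, hf⟩ := h.exists_fix w hw.1
      have hodd' : Odd (fixSet Ω W).ncard := (h.odd_fixSet_iff ⟨hr.1, he⟩ hWn).2 hWe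
      have hWf : f ∈ fixSet Ω W := (h.odd_fixSet_iff ⟨hw.1, hf⟩ hwn).1 hodd'
      have hef : e ≠ f := (h.ne_of_sw hae hw hf).2.symm
      obtain ⟨g, hge, hgrw, hgcl⟩ := h.exists_mid (show r ∈ pts D e from ⟨hr.1, he⟩)
        (show w ∈ pts D f from ⟨hw.1, hf⟩) hef
      have hgn : g ∈ Subgroup.normalizer (W : Set G) := by
        refine (Subgroup.closure_le _).2 ?_ hgcl
        rintro _ (rfl | rfl) <;> assumption
      refine ⟨w, f, hae, hw, hf, hWae, hwn, hWf, fun i hi hiD => ?_⟩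
      have hmap : (commSub W r).map (MulAut.conj g).toMonoidHom = commSub W w := by
        rw [commSub_map_conj, map_conj_of_mem_normalizer hgn, hgrw]
      have h1 : g⁻¹ * i * g ∈ Subgroup.normalizer (commSub W r : Set G) := by
        rw [← hmap] at hi
        refine Coprime.mem_normalizer_of_forall_conj fun z hz => ?_
        obtain ⟨z', hz', hze⟩ := Coprime.mem_normalizer_conj hi
          (show g * z * g⁻¹ ∈ (commSub W r).map (MulAut.conj g).toMonoidHom from ⟨z, hz, rfl⟩)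
        have hze' : g * z' * g⁻¹ = i * (g * z * g⁻¹) * i⁻¹ := hze
        have h4 : g⁻¹ * i * g * z * (g⁻¹ * i * g)⁻¹ = z' := by
          calc g⁻¹ * i * g * z * (g⁻¹ * i * g)⁻¹ = g⁻¹ * (i * (g * z * g⁻¹) * i⁻¹) * g := by group
            _ = z' := by rw [← hze']; group
        rw [h4]; exact hz'
      have h2 := hone _ h1 (by simpa using h.root.conj_mem i hiD g⁻¹)
      rw [← hge.2]
      calc i • g • e = g • (g⁻¹ * i * g) • e := by simp [smul_smul, mul_assoc]
        _ = g • e := by rw [h2]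

/-- The fixed points of such a Sylow subgroup are even in number. -/
theorem even_fixSet (hFT : ∀ X : Subgroup G, Odd (Nat.card X) → Group.IsSolvable X) {q : ℕ}
    [hq : Fact q.Prime] {x y : Ω} (hxy : x ≠ y) (hdvd : q ∣ (pts D x).ncard) {W : Subgroup G}
    (hW : SylowOf q W (otwo G x y)) : Even (fixSet Ω W).ncard := by
  obtain ⟨u, hu, hun⟩ := h.exists_sw_normalizes hxy hW
  obtain ⟨c, hc⟩ := h.exists_fix u hu.1
  rw [← Nat.not_odd_iff_even]
  exact fun ho => h.notMem_fixSet hFT hxy hdvd hW hu hun hc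
    ((h.odd_fixSet_iff ⟨hu.1, hc⟩ hun).1 ho)

end PointFix

end CfsgLib.RootConnect
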