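import Mathlib
import Cfsg.Agent.Lib.RootConnect.Good
import Cfsg.Agent.Lib.Involutions.BaerSuzuki

/-!
There is no action in which each member of a closed set of root involutions with a pair of order
four fixes exactly one point, unless some element centralises such a pair and a member elsewhere.
-/

set_option autoImplicit false

namespace CfsgLib.RootConnect

open CfsgLib.Involutions CfsgLib.RootInvolutions CfsgLib.OddOrder MulAction
open CfsgLib.BenderTrans (two mem_two_iff two_comm fixSet smul_mem_fixSet fixSet_anti cls cls_mono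
  coreIn coreIn_le le_normalizer_coreIn odd_coreIn ncard_cls_mul smul_smul_self fixSet_map_conj
  exists_conj_sylowOf exists_conj_normalizes exists_invariant_sylowOf_ge card_sylowOf sylowOf_of_card
  lt_normalizer_inf two_le_stabilizer sylowOf_map_hom pairCard)

universe u v

variable {G : Type u} [Group G] {Ω : Type v} [MulAction G Ω] {D : Set G}

namespace PointFix

variable [Finite G] [Finite Ω] (h : PointFix (Ω := Ω) D)
variable (hFT : ∀ X : Subgroup G, Odd (Nat.card X) → Group.IsSolvable X)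
variable {q : ℕ} [hq : Fact q.Prime]
include h hFT hq

/-- For a pair with the largest Sylow subgroup of its stabiliser, that subgroup fixes two points
only and is a Sylow subgroup of the stabiliser of either point. -/
theorem maxPair_spec {x y : Ω} (hxy : x ≠ y) (hdvd : q ∣ (pts D x).ncard)
    (hmax : ∀ f g : Ω, f ≠ g → pairCard G q f g ≤ pairCard G q x y) {P : Subgroup G}
    (hP : SylowOf q P (two G x y)) : fixSet Ω P = {x, y} ∧ SylowOf q P (stabilizer G x) := by
  have hq2 : q ≠ 2 := h.ne_two_of_dvd hdvd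
  have hPodd : Odd (Nat.card P) := by
    obtain ⟨k, hk⟩ := hP.2.1.exists_card_eq
    rw [hk]
    exact (hq.out.odd_of_ne_two hq2).pow
  -- any pair at `x` whose Sylow subgroup is `P`
  have hpair : ∀ f, x ≠ f → SylowOf q P (two G x f) →
      Even (fixSet Ω P).ncard ∧ ∃ w ∈ sw D x f, w ∈ Subgroup.normalizer (P : Set G) := by
    intro f hxf hPf
    obtain ⟨r, hr⟩ := h.exists_sw hxf
    set O := otwo G x f with hO
    set E := P ⊔ O with hE
    have hPO : P ≤ Subgroup.normalizer (O : Set G) := hPf.1.trans (le_normalizer_coreIn _)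
    have hEodd : Odd (Nat.card E) :=
      (hPodd.mul (odd_otwo x f)).of_dvd_nat (Coprime.card_sup_dvd hPO)
    have hEt : E ≤ two G x f := sup_le hPf.1 (otwo_le x f)
    have hrE : r ∈ Subgroup.normalizer (E : Set G) := by
      refine Coprime.mem_normalizer_of_forall_conj fun g hg => ?_
      obtain ⟨p, hp, o, ho, rfl⟩ := Coprime.exists_mul_of_mem_sup hPO hg
      have h1 : r * (p * r * p⁻¹) ∈ O := by
        have h2 := h.conj_sw (g := p) hr
        rw [(mem_two_iff.1 (hPf.1 hp)).1, (mem_two_iff.1 (hPf.1 hp)).2] at h2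
        exact h.sw_mul_mem hxf hr h2
      have h3 : r * p * r⁻¹ ∈ E := by
        rw [show r * p * r⁻¹ = r * (p * r * p⁻¹) * p by rw [root_inv h.root hr.1]; group]
        exact E.mul_mem (Subgroup.mem_sup_right h1) (Subgroup.mem_sup_left hp)
      rw [show r * (p * o) * r⁻¹ = r * p * r⁻¹ * (r * o * r⁻¹) by group]
      exact E.mul_mem h3
        (Subgroup.mem_sup_right (Coprime.mem_normalizer_conj (h.sw_normalizes hr) ho))
    obtain ⟨d, hd, hdn⟩ := exists_conj_normalizes hEodd (h.invol hr.1) hrE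
      (hPf.mono hEt le_sup_left)
    have hw : d * r * d⁻¹ ∈ sw D x f := by
      have h1 := h.conj_sw (g := d) hr
      rwa [(mem_two_iff.1 (hEt hd)).1, (mem_two_iff.1 (hEt hd)).2] at h1
    refine ⟨?_, _, hw, hdn⟩
    set w := d * r * d⁻¹
    obtain ⟨c, hc⟩ := h.exists_fix w hw.1
    rw [← Nat.not_odd_iff_even]
    intro ho
    have hcP : c ∈ fixSet Ω P := (h.odd_fixSet_iff ⟨hw.1, hc⟩ hdn).1 ho
    have hW : SylowOf q (P ⊓ O) O := by
      obtain ⟨W, hW, -⟩ := exists_sylowOf_ge (p := q) (bot_le : (⊥ : Subgroup G) ≤ O) IsPGroup.of_bot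
      obtain ⟨T, hT, hWT⟩ := exists_sylowOf_ge (hW.1.trans (otwo_le x f)) hW.2.1
      obtain ⟨e, he, hPe⟩ := exists_conj_sylowOf hT hPf
      refine sylowOf_of_card inf_le_right (hPf.2.1.to_le inf_le_left) ?_
      rw [← card_sylowOf hW,
        ← Subgroup.card_map_of_injective (f := (MulAut.conj e).toMonoidHom) (K := W)
          (MulAut.conj e).injective]
      refine Subgroup.card_le_of_le (le_inf ?_ ?_)
      · rw [hPe]; exact Subgroup.map_mono hWT
      · rintro _ ⟨g, hg, rfl⟩
        exact Coprime.mem_normalizer_conj (le_normalizer_coreIn _ he) (hW.1 hg)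
    refine h.notMem_fixSet hFT hxf hdvd hW hw ?_ hc (fixSet_anti inf_le_left hcP)
    exact Coprime.mem_normalizer_of_forall_conj fun g hg =>
      ⟨Coprime.mem_normalizer_conj hdn hg.1, Coprime.mem_normalizer_conj (h.sw_normalizes hw) hg.2⟩
  obtain ⟨heven, u, hu, hun⟩ := hpair y hxy hP
  have hx : x ∈ fixSet Ω P := fun g hg => (mem_two_iff.1 (hP.1 hg)).1
  have hy : y ∈ fixSet Ω P := fun g hg => (mem_two_iff.1 (hP.1 hg)).2
  set N := Subgroup.normalizer (P : Set G) with hN
  have hiso : ∀ s ∈ D, ∀ t ∈ D, s ∈ N → t ∈ N → Commute s t → s = t := by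
    intro s hs t ht hsn htn hc
    by_contra hne
    have hn : ∀ {r : G}, r ∈ D → r ∈ N → ∀ w ∈ P, r * w * r ∈ P := fun {r} hr hrn w hw => by
      have h1 := Coprime.mem_normalizer_conj hrn hw
      rwa [root_inv h.root hr] at h1
    have hall := commute_of_normalizes h.root h.closed hPodd hs ht hc hne (hn hs hsn) (hn ht htn)
    obtain ⟨c, hc⟩ := h.exists_fix s hs
    exact Nat.not_even_iff_odd.2 ((h.odd_fixSet_iff ⟨hs, hc⟩ hsn).2
      fun g hg => h.fix_of_commute ⟨hs, hc⟩ (hall g hg).1.symm) heven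
  set N0 := coreIn N with hN0
  have hF : ∀ f ∈ fixSet Ω P, f ≠ x → ∃ n ∈ N0, n • y = f := by
    intro f hf hfx
    have hPf : SylowOf q P (two G x f) :=
      sylowOf_of_card (fun g hg => mem_two_iff.2 ⟨hx g hg, hf g hg⟩) hP.2.1
        (by rw [card_sylowOf hP]; exact hmax x f hfx.symm)
    obtain ⟨-, w, hw, hwn⟩ := hpair f hfx.symm hPf
    refine ⟨w * u, mul_mem_coreIn_of_odd h.root hiso hw.1 hu.1 hwn hun, ?_⟩
    rw [mul_smul, h.sw_symm hu, hw.2]
  have hFxy : fixSet Ω P = {x, y} := by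
    refine Set.Subset.antisymm (fun f hf => ?_) ?_
    · by_contra hcon
      rw [Set.mem_insert_iff, Set.mem_singleton_iff, not_or] at hcon
      obtain ⟨n, hn, hnf⟩ := hF f hf hcon.1
      have hn' : u * n * u⁻¹ ∈ N0 := Coprime.mem_normalizer_conj (le_normalizer_coreIn N hun) hn
      have h1 : (u * n * u⁻¹) • x = u • f := by
        rw [root_inv h.root hu.1, mul_smul, mul_smul, hu.2, hnf]
      have hne : u • f ≠ x := fun e =>
        hcon.2 (by rw [← smul_smul_self (h.invol hu.1) f, e, hu.2])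
      obtain ⟨k, hk, hky⟩ := hF (u • f) (smul_mem_fixSet hun hf) hne
      have hxorb : x ∈ MulAction.orbit N0 y := by
        refine ⟨⟨(u * n * u⁻¹)⁻¹ * k, N0.mul_mem (N0.inv_mem hn') hk⟩, ?_⟩
        show ((u * n * u⁻¹)⁻¹ * k) • y = x
        rw [mul_smul, hky, ← h1, inv_smul_smul]
      have horb : fixSet Ω P = MulAction.orbit N0 y := by
        refine Set.Subset.antisymm (fun g hg => ?_) ?_
        · rcases eq_or_ne g x with rfl | hgx
          · exact hxorb
          · obtain ⟨j, hj, hjy⟩ := hF g hg hgx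
            exact ⟨⟨j, hj⟩, hjy⟩
        · rintro _ ⟨j, rfl⟩
          exact smul_mem_fixSet (coreIn_le N j.2) hy
      rw [horb, ← MulAction.index_stabilizer] at heven
      exact Nat.not_even_iff_odd.2
        ((odd_coreIn N).of_dvd_nat (Subgroup.index_dvd_card _)) heven
    · rintro f (rfl | rfl) <;> assumption
  refine ⟨hFxy, ?_⟩
  obtain ⟨S, hS, hPS⟩ := exists_sylowOf_ge (hP.1.trans (two_le_stabilizer x y)) hP.2.1
  rcases hPS.eq_or_lt with rfl | hlt
  · exact hS
  exfalso
  have hgrow := lt_normalizer_inf hS.2.1 hlt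
  have hT : Subgroup.normalizer (P : Set G) ⊓ S ≤ two G x y := by
    intro g hg
    have hgx : g • x = x := hS.1 hg.2
    refine mem_two_iff.2 ⟨hgx, ?_⟩
    have h1 := smul_mem_fixSet hg.1 hy
    rw [hFxy, Set.mem_insert_iff, Set.mem_singleton_iff] at h1
    exact h1.resolve_left fun e => hxy ((MulAction.injective g (hgx.trans e.symm)))
  exact hgrow.ne' (hP.2.2 _ hT (hS.2.1.to_le inf_le_right)
    (le_inf Subgroup.le_normalizer hPS))

/-- No member at `x` inverts an element of order `q` of the stabiliser of `x`. -/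
theorem false_of_inverted {x : Ω} {a y : G} (ha : a ∈ pts D x) (hyx : y • x = x)
    (hord : orderOf y = q) (hq2 : q ≠ 2) (hinv : a * y * a = y⁻¹) : False := by
  classical
  set H := stabilizer G x with hH
  have ha2 := h.invol ha.1
  have hyodd : Odd (orderOf y) := hord ▸ hq.out.odd_of_ne_two hq2
  have hy1 : y ≠ 1 := fun e => hq.out.ne_one (by rw [← hord, e, orderOf_one])
  have hainv := root_inv h.root ha.1
  -- a largest invariant `q`-subgroup through `y`
  set 𝓡 : Set (Subgroup G) :=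
    {R | y ∈ R ∧ IsPGroup q R ∧ R ≤ H ∧ a ∈ Subgroup.normalizer (R : Set G)}
  have hne : 𝓡.Nonempty := by
    refine ⟨Subgroup.zpowers y, Subgroup.mem_zpowers y,
      IsPGroup.of_card (n := 1) (by rw [Nat.card_zpowers, hord, pow_one]),
      Subgroup.zpowers_le.2 hyx, Coprime.mem_normalizer_of_forall_conj ?_⟩
    intro g hg
    obtain ⟨k, rfl⟩ := Subgroup.mem_zpowers_iff.1 hg
    rw [← conj_zpow, hainv, hinv]
    exact Subgroup.zpow_mem _ (Subgroup.inv_mem _ (Subgroup.mem_zpowers y)) k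
  obtain ⟨R, ⟨hyR, hRq, hRH, haR⟩, hRmax⟩ :=
    Set.exists_max_image 𝓡 (fun R => Nat.card R) (Set.toFinite _) hne
  have hodd_of : ∀ {S : Subgroup G}, IsPGroup q S → Odd (Nat.card S) := fun {S} hS => by
    obtain ⟨k, hk⟩ := hS.exists_card_eq
    rw [hk]
    exact (hq.out.odd_of_ne_two hq2).pow
  -- it is a Sylow subgroup of the stabiliser
  have hRsyl : SylowOf q R H := by
    obtain ⟨R1, hR1, hRR1⟩ := exists_sylowOf_ge hRH hRq
    rcases hRR1.eq_or_lt with rfl | hlt
    · exact hR1
    exfalso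
    have hgrow := lt_normalizer_inf hR1.2.1 hlt
    set R2 := Subgroup.normalizer (R : Set G) ⊓ R1 with hR2
    set N := Subgroup.normalizer (R : Set G) ⊓ H with hN
    have hR2N : R2 ≤ N := inf_le_inf_left _ hR1.1
    have haN : a ∈ N := ⟨haR, ha.2⟩
    set E := R2 ⊔ coreIn N with hE
    have hR2K : R2 ≤ Subgroup.normalizer (coreIn N : Set G) :=
      hR2N.trans (le_normalizer_coreIn N)
    have hR2q : IsPGroup q R2 := hR1.2.1.to_le inf_le_right
    have hEodd : Odd (Nat.card E) :=
      ((hodd_of hR2q).mul (odd_coreIn N)).of_dvd_nat (Coprime.card_sup_dvd hR2K)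
    have hEN : E ≤ N := sup_le hR2N (coreIn_le N)
    have haE : a ∈ Subgroup.normalizer (E : Set G) := by
      refine Coprime.mem_normalizer_of_forall_conj fun g hg => ?_
      obtain ⟨p, hp, o, ho, rfl⟩ := Coprime.exists_mul_of_mem_sup hR2K hg
      have hiso : ∀ s ∈ D, ∀ t ∈ D, s ∈ N → t ∈ N → Commute s t → s = t := fun s hs t ht hsn htn =>
        h.iso_of_inverted (hodd_of hRq) hyR hy1 ha.1 hinv s hs t ht hsn.1 htn.1
      have h1 : a * (p * a * p⁻¹) ∈ coreIn N :=
        mul_mem_coreIn_of_odd h.root hiso ha.1 (h.root.conj_mem a ha.1 p) haN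
          (N.mul_mem (N.mul_mem (hR2N hp) haN) (N.inv_mem (hR2N hp)))
      have h3 : a * p * a⁻¹ ∈ E := by
        rw [show a * p * a⁻¹ = a * (p * a * p⁻¹) * p by rw [hainv]; group]
        exact E.mul_mem (Subgroup.mem_sup_right h1) (Subgroup.mem_sup_left hp)
      rw [show a * (p * o) * a⁻¹ = a * p * a⁻¹ * (a * o * a⁻¹) by group]
      exact E.mul_mem h3
        (Subgroup.mem_sup_right (Coprime.mem_normalizer_conj (le_normalizer_coreIn N haN) ho))
    obtain ⟨W, hW, hRW, hWn⟩ := exists_invariant_sylowOf_ge hEodd ha2 haE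
      (hgrow.le.trans le_sup_left) hRq haR
    have h1 := hRmax W ⟨hRW hyR, hW.2.1, hW.1.trans (hEN.trans inf_le_right), hWn⟩
    obtain ⟨T, hT, hR2T⟩ := exists_sylowOf_ge (le_sup_left : R2 ≤ E) hR2q
    refine absurd (h1 : Nat.card W ≤ Nat.card R) (not_le.2 ?_)
    rw [card_sylowOf hW, ← card_sylowOf hT]
    exact (Set.ncard_lt_ncard (SetLike.coe_ssubset_coe.2 hgrow) (Set.toFinite _)).trans_le
      (Subgroup.card_le_of_le hR2T)
  obtain ⟨z, hz⟩ := h.exists_ne x
  have hcls : cls H a = pts D x := by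
    ext t
    constructor
    · rintro ⟨d, hd, rfl⟩
      have h1 := h.conj_pts (g := d) ha
      rwa [(hd : d • x = x)] at h1
    · intro ht
      obtain ⟨d, hd, rfl⟩ := h.exists_conj_pts hz.symm ha ht
      exact ⟨d, (otwo_fix hd).1, rfl⟩
  have hdvd : q ∣ (pts D x).ncard := by
    by_contra hnd
    set C := H ⊓ Subgroup.centralizer {a} with hC
    obtain ⟨S, hS, -⟩ := exists_sylowOf_ge (p := q) (bot_le : (⊥ : Subgroup G) ≤ C) IsPGroup.of_bot
    have hcard := ncard_cls_mul H a
    rw [hcls, ← hC] at hcard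
    have hSH : SylowOf q S H := by
      refine sylowOf_of_card (hS.1.trans inf_le_left) hS.2.1 (le_of_eq ?_)
      have hne0 : (pts D x).ncard ≠ 0 :=
        ((Set.ncard_pos (Set.toFinite _)).2 (h.exists_pts x)).ne'
      rw [card_sylowOf hS, ← hcard, Nat.factorization_mul hne0 Nat.card_pos.ne', Finsupp.add_apply,
        Nat.factorization_eq_zero_of_not_dvd hnd, zero_add]
    obtain ⟨d, hd, hRS⟩ := exists_conj_sylowOf hSH hRsyl
    rw [hRS] at hyR
    obtain ⟨g, hg, hgy⟩ := hyR
    have hga : Commute g a := Subgroup.mem_centralizer_singleton_iff.1 (hS.1 hg).2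
    refine hy1 (inverted_eq_one h.root h.closed ha.1 (h.root.conj_mem a ha.1 d) hinv ?_ hyodd)
    rw [← hgy]
    show d * g * d⁻¹ * (d * a * d⁻¹) = d * a * d⁻¹ * (d * g * d⁻¹)
    calc d * g * d⁻¹ * (d * a * d⁻¹) = d * (g * a) * d⁻¹ := by group
      _ = d * (a * g) * d⁻¹ := by rw [hga.eq]
      _ = d * a * d⁻¹ * (d * g * d⁻¹) := by group
  -- a largest pair, moved to `x`
  have : Nonempty {z : Ω × Ω // z.1 ≠ z.2} := ⟨⟨(z, x), hz⟩⟩
  obtain ⟨⟨⟨f₀, g₀⟩, hfg⟩, hmax⟩ :=
    Finite.exists_max fun z : {z : Ω × Ω // z.1 ≠ z.2} => pairCard G q z.1.1 z.1.2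
  obtain ⟨P₀, hP₀, -⟩ := exists_sylowOf_ge (p := q) (bot_le : (⊥ : Subgroup G) ≤ two G f₀ g₀)
    IsPGroup.of_bot
  obtain ⟨hfix, hsyl⟩ := h.maxPair_spec hFT hfg (by rwa [h.ncard_pts_eq f₀ x])
    (fun f g hfg' => hmax ⟨(f, g), hfg'⟩) hP₀
  obtain ⟨g, hg⟩ := h.trans f₀ x
  have hsyl' : SylowOf q (P₀.map (MulAut.conj g).toMonoidHom) H := by
    have h1 := sylowOf_map_hom (MulAut.conj g).toMonoidHom hsyl
    rwa [← MulAction.stabilizer_smul_eq_stabilizer_map_conj, hg] at h1
  obtain ⟨d, hd, hRP⟩ := exists_conj_sylowOf hsyl' hRsyl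
  have hdx : d • x = x := hd
  have hfixR : fixSet Ω R = {x, d • g • g₀} := by
    rw [hRP, fixSet_map_conj, fixSet_map_conj, hfix, Set.image_pair, Set.image_pair, hg, hdx]
  set b := d • g • g₀ with hb
  have hbx : b ≠ x := by
    intro e
    have : d • g • g₀ = d • g • f₀ := by rw [← hb, e, hg, hdx]
    exact hfg (MulAction.injective g (MulAction.injective d this)).symm
  have hab : a • b ∈ fixSet Ω R := smul_mem_fixSet haR (hfixR ▸ Set.mem_insert_of_mem _ rfl)
  rw [hfixR] at hab
  rcases hab with e | e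
  · exact hbx (by rw [← smul_smul_self ha2 b, e, ha.2])
  · exact hbx (h.unique a ha.1 _ _ e ha.2)

omit hq in
/-- Different members at a point have a product of even order. -/
theorem eq_of_odd {x : Ω} {a b : G} (ha : a ∈ pts D x) (hb : b ∈ pts D x)
    (hodd : Odd (orderOf (a * b))) : a = b := by
  by_contra hne
  have hn1 : orderOf (a * b) ≠ 1 := fun e => hne (by
    rw [eq_inv_of_mul_eq_one_left (orderOf_eq_one_iff.1 e), root_inv h.root hb.1])
  obtain ⟨q, hq, hqn⟩ := Nat.exists_prime_and_dvd hn1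
  have := Fact.mk hq
  have hq2 : q ≠ 2 := by
    rintro rfl
    exact Nat.not_even_iff_odd.2 hodd (even_iff_two_dvd.2 hqn)
  refine h.false_of_inverted hFT (q := q) ha (y := (a * b) ^ (orderOf (a * b) / q)) ?_ ?_ hq2 ?_
  · have : a * b ∈ stabilizer G x := mul_mem ha.2 hb.2
    exact pow_mem this _
  · exact orderOf_pow_orderOf_div (orderOf_pos _).ne' hqn
  · have e1 : a * (a * b) * a⁻¹ = (a * b)⁻¹ := by
      rw [mul_inv_rev, root_inv h.root ha.1, root_inv h.root hb.1]
      calc a * (a * b) * a = a * a * (b * a) := by group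
        _ = b * a := by rw [h.mul_self ha.1, one_mul]
    have e2 := conj_pow (a := a) (b := a * b) (i := orderOf (a * b) / q)
    rw [e1, inv_pow, root_inv h.root ha.1] at e2
    exact e2.symm

omit hq in
/-- There is no such action. -/
theorem contradiction : False := by
  classical
  obtain ⟨u, hu, v, hv, h4⟩ := h.exists_four
  obtain ⟨x, hx⟩ := h.exists_fix u hu
  obtain ⟨y, hy⟩ := h.exists_fix v hv
  obtain rfl : x = y := h.same_of_not_odd ⟨hu, hx⟩ ⟨hv, hy⟩ (by rw [h4]; decide)
  obtain ⟨z, hz⟩ := h.exists_ne x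
  set H := stabilizer G x with hH
  let S : Set H := {t | (t : G) ∈ pts D x}
  have hconj : ∀ g : H, ∀ d ∈ S, g * d * g⁻¹ ∈ S := fun g d hd => by
    have h1 := h.conj_pts (g := (g : G)) (show (d : G) ∈ pts D x from hd)
    rwa [(g.2 : (g : G) • x = x)] at h1
  have hord : ∀ {d : H}, d ∈ S → orderOf d = 2 := fun {d} hd => by
    rw [← Subgroup.orderOf_coe]; exact h.invol (show (d : G) ∈ pts D x from hd).1
  have hpair : ∀ a ∈ S, ∀ b ∈ S, Commute a b ∨ orderOf ((a : G) * b) = 4 := fun a ha b hb => by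
    by_cases ho : Odd (orderOf ((a : G) * b))
    · exact Or.inl (Subtype.ext (h.eq_of_odd hFT ha hb ho) ▸ Commute.refl b)
    · exact (commute_or_four h.root (show (a : G) ∈ pts D x from ha).1
        (show (b : G) ∈ pts D x from hb).1 ho).imp Subtype.ext id
  have : Fact (Nat.Prime 2) := ⟨Nat.prime_two⟩
  have hX : IsPGroup 2 (Subgroup.closure S) := by
    refine isPGroup_closure_of_pairwise hconj fun a ha b hb => ?_
    rcases hpair a ha b hb with hc | h4'
    · have h2 : (a * b) ^ (2 ^ 1) = 1 := by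
        rw [pow_one, hc.mul_pow, ← hord ha, pow_orderOf_eq_one, hord ha, ← hord hb,
          pow_orderOf_eq_one, mul_one]
      obtain ⟨k, -, hk⟩ := (Nat.dvd_prime_pow Nat.prime_two).1 (orderOf_dvd_of_pow_eq_one h2)
      exact isPGroup_two_closure_pair (hord ha) (hord hb) hk
    · refine isPGroup_two_closure_pair (hord ha) (hord hb) (k := 2) ?_
      rw [← Subgroup.orderOf_coe]; exact h4'
  set X := Subgroup.closure S with hXdef
  have hnil : Group.IsNilpotent X := hX.isNilpotent
  -- a member as deep as possible in the upper central series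
  let Z : ℕ → Set H := fun i => {t | ∃ ht : t ∈ X, (⟨t, ht⟩ : X) ∈ Subgroup.upperCentralSeries X i}
  have hex : ∃ i, ∃ d ∈ S, d ∈ Z i := by
    obtain ⟨n, hn⟩ := hnil.nilpotent
    exact ⟨n, ⟨u, hx⟩, ⟨hu, hx⟩, Subgroup.subset_closure ⟨hu, hx⟩, hn ▸ Subgroup.mem_top _⟩
  obtain ⟨d, hdS, hdX, hdi⟩ := Nat.find_spec hex
  have hcentral : ∀ t ∈ S, Commute d t := by
    intro t ht
    rcases hpair d hdS t ht with hc | h4'
    · exact hc
    exfalso
    obtain ⟨hw, hwd, -, -, -, -⟩ :=
      four_facts h.root (show (d : G) ∈ pts D x from hdS).1 (show (t : G) ∈ pts D x from ht).1 h4'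
    have hwS : (d * t) ^ 2 ∈ S := by
      show (((d * t) ^ 2 : H) : G) ∈ pts D x
      push_cast
      exact ⟨hw, h.fix_of_commute (show (d : G) ∈ pts D x from hdS) hwd⟩
    cases hi : Nat.find hex with
    | zero =>
      rw [hi, Subgroup.upperCentralSeries_zero, Subgroup.mem_bot] at hdi
      have h1 := hord hdS
      rw [show d = 1 from congrArg Subtype.val hdi, orderOf_one] at h1
      exact absurd h1 (by decide)
    | succ j =>
      rw [hi] at hdi
      have htX : t ∈ X := Subgroup.subset_closure ht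
      have h1 := (Subgroup.mem_upperCentralSeries_succ_iff.1 hdi) ⟨t, htX⟩
      refine Nat.find_min hex (show j < Nat.find hex by omega) ⟨_, hwS, pow_mem (mul_mem hdX htX) 2, ?_⟩
      convert h1 using 1
      apply Subtype.ext
      show (d * t) ^ 2 = d * t * d⁻¹ * t⁻¹
      rw [inv_eq_self_of_involution (hord hdS), inv_eq_self_of_involution (hord ht), pow_two]
      group
  -- hence all members at the point commute
  have hu' : (⟨u, hx⟩ : H) ∈ S := ⟨hu, hx⟩
  have hv' : (⟨v, hy⟩ : H) ∈ S := ⟨hv, hy⟩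
  obtain ⟨g, hg, hge⟩ := h.exists_conj_pts hz.symm (show (d : G) ∈ pts D x from hdS)
    (show u ∈ pts D x from ⟨hu, hx⟩)
  have hgH : g ∈ H := (otwo_fix hg).1
  have h1 : Commute d ((⟨g, hgH⟩ : H)⁻¹ * ⟨v, hy⟩ * ⟨g, hgH⟩) := hcentral _ (by
    have := hconj (⟨g, hgH⟩ : H)⁻¹ _ hv'
    rwa [inv_inv] at this)
  have h2 : Commute (d : G) (g⁻¹ * v * g) := congrArg Subtype.val h1
  have huv : Commute u v := by
    rw [← hge]
    show g * d * g⁻¹ * v = v * (g * d * g⁻¹)
    calc g * (d : G) * g⁻¹ * v = g * (d * (g⁻¹ * v * g)) * g⁻¹ := by group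
      _ = g * (g⁻¹ * v * g * d) * g⁻¹ := by rw [h2.eq]
      _ = v * (g * d * g⁻¹) := by group
  have hsq : (u * v) ^ 2 = 1 := by
    rw [huv.mul_pow, pow_two, pow_two, h.mul_self hu, h.mul_self hv, one_mul]
  have h3 := orderOf_dvd_of_pow_eq_one hsq
  rw [h4] at h3
  exact absurd h3 (by decide)

end PointFix

end CfsgLib.RootConnect
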