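import Mathlib
import Cfsg.Prelude.Def_RootSubgroups
import Cfsg.Agent.Lib.RootGroups.RootInvolutions
import Cfsg.Agent.S5045
import Cfsg.Agent.S5048

/-!
Classes of root involutions: connectedness of the odd graph, restriction to a generated subgroup and
elementary facts on the commuting components.
-/

set_option autoImplicit false

namespace CfsgLib.RootConnect

open CfsgLib.Involutions CfsgLib.RootInvolutions

universe u

variable {G : Type u} [Group G] {D : Set G}

theorem four_split (hD : Cfsg.IsRootInvolutionSet D) {a b : G} (ha : a ∈ D) (hb : b ∈ D)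
    (h : ¬ Odd (orderOf (a * b))) : a * b = b * a ∨ orderOf (a * b) = 4 := by
  rcases hD.pair a ha b hb with e | e | e
  exacts [Or.inl e, absurd e h, Or.inr e.1]

theorem four_ne {x y : G} (hD : Cfsg.IsRootInvolutionSet D) (hx : x ∈ D) (hy : y ∈ D)
    (h4 : orderOf (x * y) = 4) : (x * y) ^ 2 ≠ x ∧ (x * y) ^ 2 ≠ y := by
  obtain ⟨-, -, -, e1, e2, -⟩ := four_facts hD hx hy h4
  refine ⟨fun e => ?_, fun e => ?_⟩
  · rw [e, root_mul_self hD hx, eq_comm, conj_eq_one_iff] at e1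
    exact ne_one_of_involution (hD.orderOf_eq x hx) e1
  · rw [e, root_mul_self hD hy, eq_comm, conj_eq_one_iff] at e2
    exact ne_one_of_involution (hD.orderOf_eq y hy) e2

theorem ne_of_four (hD : Cfsg.IsRootInvolutionSet D) {x y : G} (hx : x ∈ D)
    (h4 : orderOf (x * y) = 4) : x ≠ y := by
  rintro rfl
  rw [root_mul_self hD hx, orderOf_one] at h4
  exact absurd h4 (by decide)

theorem not_commute_of_four (hD : Cfsg.IsRootInvolutionSet D) {x y : G} (hx : x ∈ D) (hy : y ∈ D)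
    (h4 : orderOf (x * y) = 4) : ¬ Commute x y := by
  intro hc
  have h2 : (x * y) ^ 2 = 1 := by
    rw [hc.mul_pow, pow_two, pow_two, root_mul_self hD hx, root_mul_self hD hy, one_mul]
  have := orderOf_dvd_of_pow_eq_one h2
  rw [h4] at this
  exact absurd this (by decide)

/-- Members with product of odd order in a `2`-group coincide. -/
theorem eq_of_odd_of_two (hD : Cfsg.IsRootInvolutionSet D) [Finite G] {P : Subgroup G}
    (hP : IsPGroup 2 P) {a b : G} (ha : a ∈ D) (haP : a ∈ P) (hbP : b ∈ P)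
    (ho : Odd (orderOf (a * b))) : a = b := by
  obtain ⟨k, hk⟩ := hP ⟨a * b, mul_mem haP hbP⟩
  have hk' : (a * b) ^ (2 ^ k) = 1 := by simpa using congrArg Subtype.val hk
  have : Fact (Nat.Prime 2) := ⟨Nat.prime_two⟩
  obtain ⟨i, -, hi⟩ := (Nat.dvd_prime_pow Nat.prime_two).1 (orderOf_dvd_of_pow_eq_one hk')
  rcases Nat.eq_zero_or_pos i with rfl | hpos
  · exact (eq_of_mul_eq_one hD ha (orderOf_eq_one_iff.1 (by simpa using hi))).symm
  · rw [hi, Nat.odd_pow_iff hpos.ne'] at ho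
    exact absurd ho (by decide)

theorem isPGroup_pair_of_four [Finite G] (hD : Cfsg.IsRootInvolutionSet D) {x y : G} (hx : x ∈ D)
    (hy : y ∈ D) (h4 : orderOf (x * y) = 4) :
    IsPGroup 2 (Subgroup.closure ({x, y} : Set G)) :=
  isPGroup_two_closure_pair (hD.orderOf_eq x hx) (hD.orderOf_eq y hy) (k := 2) h4

theorem oddConnected [Finite G] (hD : Cfsg.IsNondegenerateRootInvolutionSet D)
    (hcl : Cfsg.IsRootInvolutionClass D) : Cfsg.IsConnectedSet (Cfsg.OddAdj D) D := by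
  obtain ⟨hR, -, ⟨a0, ha0, b0, hb0, hne0, ho0⟩, -⟩ := hD
  have hpart : ∀ a ∈ D, ∃ b, Cfsg.OddAdj D a b := by
    intro a ha
    obtain ⟨g, rfl⟩ := hcl.2.2 a0 ha0 a ha
    exact ⟨_, oddAdj_conj hR ⟨ha0, hb0, hne0, ho0⟩ g⟩
  have hW : {w | Cfsg.IsIsolatedElem (Cfsg.OddAdj D) D w} = ∅ :=
    Set.eq_empty_iff_forall_notMem.2 fun w hw => by
      obtain ⟨b, hb⟩ := hpart w hw.1
      exact (hw.2 b).1 hb
  obtain ⟨-, -, -, -, hcomm, -⟩ := Cfsg.Agent.S5045.result hR
  have hmem : ∀ a ∈ D, ∃ a' ∈ Cfsg.elemComponentOf (Cfsg.OddAdj D) D a, a' ≠ a := fun a ha => by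
    obtain ⟨b, hb⟩ := hpart a ha
    exact ⟨b, ⟨hb.2.1, Relation.ReflTransGen.single hb⟩, hb.2.2.1.symm⟩
  intro a ha b hb
  have key : ∀ g ∈ Subgroup.closure D, ∀ x, Relation.ReflTransGen (Cfsg.OddAdj D) a x → x ∈ D →
      Relation.ReflTransGen (Cfsg.OddAdj D) a (g * x * g⁻¹) := by
    intro g hg
    have hstep : ∀ d ∈ D, ∀ x, Relation.ReflTransGen (Cfsg.OddAdj D) a x → x ∈ D →
        Relation.ReflTransGen (Cfsg.OddAdj D) a (d * x * d⁻¹) := by
      intro d hd x hx hxD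
      by_cases hxd : Relation.ReflTransGen (Cfsg.OddAdj D) x d
      · refine (hx.trans hxd).trans ?_
        have h1 : Relation.ReflTransGen (Cfsg.OddAdj D) (d * d * d⁻¹) (d * x * d⁻¹) :=
          (reach_symm hR hxd).lift (fun t => d * t * d⁻¹) fun p q h => oddAdj_conj hR h d
        rwa [mul_inv_cancel_right] at h1
      · have h1 := hcomm x hxD d hd (hmem x hxD) (hmem d hd) (fun e => hxd (by
          have : d ∈ Cfsg.elemComponentOf (Cfsg.OddAdj D) D d := ⟨hd, Relation.ReflTransGen.refl⟩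
          rw [← e] at this
          exact this.2))
        rw [hW, Subgroup.closure_empty, Subgroup.mem_bot] at h1
        have h2 : d * x * d⁻¹ = x := by
          calc d * x * d⁻¹ = (x * d * x⁻¹ * d⁻¹)⁻¹ * x := by group
            _ = x := by rw [h1, inv_one, one_mul]
        rw [h2]; exact hx
    induction hg using Subgroup.closure_induction'' with
    | mem x hx => exact hstep x hx
    | inv_mem x hx => rw [root_inv hR hx]; exact hstep x hx
    | one => intro x hx _; simpa using hx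
    | mul p q _ _ hp hq =>
      intro x hx hxD
      rw [show p * q * x * (p * q)⁻¹ = p * (q * x * q⁻¹) * p⁻¹ by group]
      exact hp _ (hq x hx hxD) (hR.conj_mem x hxD q)
  obtain ⟨g, rfl⟩ := hcl.2.2 a ha b hb
  exact key g (hR.generates ▸ Subgroup.mem_top g) a Relation.ReflTransGen.refl ha

theorem exists_product_mem (hD : Cfsg.IsNondegenerateRootInvolutionSet D) :
    (D ∩ Cfsg.commutingProducts D).Nonempty := by
  obtain ⟨hR, -, -, ⟨x, hx, y, hy, h4⟩⟩ := hD
  obtain ⟨hz, hzx, -, e1, -, -⟩ := four_facts hR hx hy h4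
  refine ⟨x * (x * y) ^ 2, ?_, x, hx, _, hz, hzx.symm.eq, ?_, rfl⟩
  · rw [e1]; exact hR.conj_mem x hx y
  · exact fun e => (four_ne hR hx hy h4).1 (eq_of_mul_eq_one hR hx e)

/-- A subset closed under conjugation by its members and under squares of products of order `4` gives
a non-degenerate class of root involutions of the subgroup it generates. -/
theorem restrict [Finite G] (hD : Cfsg.IsRootInvolutionSet D) {S : Set G} (hSD : S ⊆ D) {a : G}
    (ha : a ∈ S) (hinv : ∀ x ∈ S, ∀ g ∈ Subgroup.closure S, g * x * g⁻¹ ∈ S)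
    (hconj : ∀ x ∈ S, ∃ g ∈ Subgroup.closure S, g * a * g⁻¹ = x)
    (hsq : ∀ x ∈ S, ∀ y ∈ S, orderOf (x * y) = 4 → (x * y) ^ 2 ∈ S)
    (hodd : ∃ x ∈ S, ∃ y ∈ S, x ≠ y ∧ Odd (orderOf (x * y)))
    (hfour : ∃ x ∈ S, ∃ y ∈ S, orderOf (x * y) = 4) :
    Cfsg.IsNondegenerateRootInvolutionSet {t : Subgroup.closure S | (t : G) ∈ S} ∧
      Cfsg.IsRootInvolutionClass {t : Subgroup.closure S | (t : G) ∈ S} := by
  set L := Subgroup.closure S with hL
  set E : Set L := {t : L | (t : G) ∈ S} with hE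
  have hord : ∀ t : L, orderOf (t : G) = orderOf t := fun t => Subgroup.orderOf_coe t
  have mk : ∀ {x : G}, x ∈ S → ∃ t : L, (t : G) = x ∧ t ∈ E := fun {x} hx =>
    ⟨⟨x, Subgroup.subset_closure hx⟩, rfl, hx⟩
  have hroot : Cfsg.IsRootInvolutionSet E := by
    refine ⟨fun t ht => by rw [← hord]; exact hD.orderOf_eq _ (hSD ht), ?_,
      fun t ht g => hinv _ ht _ g.2, fun x hx y hy => ?_⟩
    · exact Subgroup.closure_closure_coe_preimage
    · rcases hD.pair _ (hSD hx) _ (hSD hy) with h | h | h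
      · exact Or.inl (Subtype.ext h)
      · exact Or.inr (Or.inl (by rw [← hord]; exact h))
      · refine Or.inr (Or.inr ⟨by rw [← hord]; exact h.1, ?_⟩)
        show ((x * y : L) ^ 2 : L).1 ∈ S
        exact hsq _ hx _ hy h.1
  refine ⟨⟨hroot, ?_, ?_, ?_⟩, hroot, ⟨_, (mk ha).choose_spec.2⟩, ?_⟩
  · obtain ⟨x, hx, y, hy, h4⟩ := hfour
    obtain ⟨-, hzx, -, -, -, -⟩ := four_facts hD (hSD hx) (hSD hy) h4
    obtain ⟨p, rfl, hp⟩ := mk hx
    obtain ⟨q, hq, hq'⟩ := mk (hsq _ hx _ hy h4)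
    exact ⟨q, hq', p, hp, fun e => (four_ne hD (hSD hx) (hSD hy) h4).1 (by rw [← hq, e]),
      Subtype.ext (by push_cast; rw [hq]; exact hzx.eq)⟩
  · obtain ⟨x, hx, y, hy, hne, ho⟩ := hodd
    obtain ⟨p, rfl, hp⟩ := mk hx
    obtain ⟨q, rfl, hq⟩ := mk hy
    exact ⟨p, hp, q, hq, fun e => hne (congrArg Subtype.val e), by rw [← hord]; exact ho⟩
  · obtain ⟨x, hx, y, hy, h4⟩ := hfour
    obtain ⟨p, rfl, hp⟩ := mk hx
    obtain ⟨q, rfl, hq⟩ := mk hy
    exact ⟨p, hp, q, hq, by rw [← hord]; exact h4⟩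
  · intro x hx y hy
    obtain ⟨g, hg, hgx⟩ := hconj _ hx
    obtain ⟨k, hk, hky⟩ := hconj _ hy
    refine ⟨⟨k * g⁻¹, mul_mem hk (inv_mem hg)⟩, Subtype.ext ?_⟩
    push_cast
    rw [← hgx, ← hky]; group

/-- Reachability in the commuting graph. -/
abbrev CR (D : Set G) : G → G → Prop := Relation.ReflTransGen (Cfsg.CommAdj D)

theorem cr_symm {a b : G} (h : CR D a b) : CR D b a := by
  induction h with
  | refl => exact Relation.ReflTransGen.refl
  | tail _ h ih => exact ih.head ⟨h.2.1, h.1, h.2.2.1.symm, h.2.2.2.symm⟩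

theorem cr_conj (hD : Cfsg.IsRootInvolutionSet D) {a b : G} (h : CR D a b) (g : G) :
    CR D (g * a * g⁻¹) (g * b * g⁻¹) :=
  h.lift (fun t => g * t * g⁻¹) fun x y e =>
    ⟨hD.conj_mem x e.1 g, hD.conj_mem y e.2.1 g, fun e' => e.2.2.1 (by simpa using e'), by
      calc g * x * g⁻¹ * (g * y * g⁻¹) = g * (x * y) * g⁻¹ := by group
        _ = g * (y * x) * g⁻¹ := by rw [e.2.2.2]
        _ = g * y * g⁻¹ * (g * x * g⁻¹) := by group⟩

theorem cr_of_commute {a b : G} (ha : a ∈ D) (hb : b ∈ D) (h : Commute a b) : CR D a b := by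
  rcases eq_or_ne a b with rfl | hne
  · exact Relation.ReflTransGen.refl
  · exact Relation.ReflTransGen.single ⟨ha, hb, hne, h.eq⟩

theorem cr_of_four (hD : Cfsg.IsRootInvolutionSet D) {a b : G} (ha : a ∈ D) (hb : b ∈ D)
    (h4 : orderOf (a * b) = 4) : CR D a b := by
  obtain ⟨hz, hza, hzb, -, -, -⟩ := four_facts hD ha hb h4
  exact (cr_of_commute ha hz hza.symm).trans (cr_of_commute hz hb hzb)

theorem cr_of_not_odd (hD : Cfsg.IsRootInvolutionSet D) {a b : G} (ha : a ∈ D) (hb : b ∈ D)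
    (h : ¬ Odd (orderOf (a * b))) : CR D a b :=
  (four_split hD ha hb h).elim (fun e => cr_of_commute ha hb e) (cr_of_four hD ha hb)

theorem odd_of_not_cr (hD : Cfsg.IsRootInvolutionSet D) {a b : G} (ha : a ∈ D) (hb : b ∈ D)
    (h : ¬ CR D a b) : Odd (orderOf (a * b)) :=
  of_not_not fun e => h (cr_of_not_odd hD ha hb e)

end CfsgLib.RootConnect
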