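import Mathlib
import Cfsg.Agent.Lib.RootConnect.Reduce
import Cfsg.Agent.Lib.RootConnect.Final
import Cfsg.Agent.Lib.PF.OddOrder

/-!
A simple group with a non-degenerate class of root involutions whose commuting graph is disconnected,
all proper subgroups having connected ones: involutions centralising a pair of order four are members,
the class is closed, and each member fixes exactly one component.
-/

set_option autoImplicit false

namespace CfsgLib.RootConnect

open CfsgLib.Involutions CfsgLib.RootInvolutions CfsgLib.OddOrder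

universe u

/-- The situation of a smallest counterexample. -/
structure Minimal {G : Type u} [Group G] (D : Set G) : Prop where
  nondeg : Cfsg.IsNondegenerateRootInvolutionSet D
  cls : Cfsg.IsRootInvolutionClass D
  simple : IsSimpleGroup G
  induct : ∀ L : Subgroup G, L ≠ ⊤ → ∀ E : Set L, Cfsg.IsNondegenerateRootInvolutionSet E →
    Cfsg.IsRootInvolutionClass E → Cfsg.IsConnectedSet (Cfsg.CommAdj E) E
  disconnected : ∃ a ∈ D, ∃ b ∈ D, ¬ CR D a b

/-- A simple group with a class of root involutions whose commuting graph is disconnected. -/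
structure Split {G : Type u} [Group G] (D : Set G) : Prop where
  root : Cfsg.IsRootInvolutionSet D
  cls : Cfsg.IsRootInvolutionClass D
  simple : IsSimpleGroup G
  disconnected : ∃ a ∈ D, ∃ b ∈ D, ¬ CR D a b

namespace Split

variable {G : Type u} [Group G] [Finite G] {D : Set G} (h : Split D)
include h

/-- The members commuting with the product of two commuting members lie in their component. -/
theorem cr_of_commute_prod {a b x : G} (ha : a ∈ D) (hb : b ∈ D) (hc : Commute a b) (hne : a ≠ b)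
    (hx : x ∈ D) (hxu : Commute x (a * b)) : CR D a x := by
  have hR := h.root
  by_contra hax
  have haa := root_mul_self hR ha
  have ho := odd_of_not_cr hR ha hx hax
  have hbx : Odd (orderOf (b * x)) := odd_of_not_cr hR hb hx fun hc' =>
    hax ((cr_of_commute ha hb hc).trans hc')
  have hua : Commute (a * b) a := (Commute.refl a).mul_left hc.symm
  have hu2 : (a * b) * (a * b) = 1 := by
    calc a * b * (a * b) = a * (b * a) * b := by group
      _ = a * a * (b * b) := by rw [← hc.eq]; group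
      _ = 1 := by rw [haa, root_mul_self hR hb, one_mul]
  have e1 : b * x = (a * b) * (a * x) := by
    rw [← mul_assoc, hua.eq, ← mul_assoc a a b, haa, one_mul]
  obtain ⟨m, hm⟩ := hbx
  have hp := pow_orderOf_eq_one (b * x)
  rw [hm] at hp
  rw [e1, (hua.mul_right hxu.symm).mul_pow, pow_succ (a * b), pow_mul, pow_two, hu2, one_pow,
    one_mul] at hp
  have ho2 : Odd (orderOf (a * b)) := by
    rw [eq_inv_of_mul_eq_one_left hp, orderOf_inv]
    exact ho.of_dvd_nat (orderOf_pow_dvd _)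
  exact hne (eq_of_mul_eq_one hR ha (odd_four (by
    rw [show (4 : ℕ) = 2 * 2 from rfl, pow_mul, pow_two (a * b), hu2, one_pow]) ho2)).symm

/-- An involution outside the class commutes with members of two components in a twisted way. -/
theorem exists_straddle {z : G} (hz : z * z = 1) (hz1 : z ≠ 1) :
    ∃ e ∈ D, ∃ c ∈ D, Commute z e ∧ Commute (z * e) c ∧ ¬ CR D c e := by
  have hR := h.root
  obtain ⟨d, hd, hmove⟩ : ∃ d ∈ D, ¬ CR D d (z * d * z⁻¹) := by
    by_contra hcon
    push Not at hcon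
    let K : Subgroup G :=
      { carrier := {g | ∀ d ∈ D, CR D d (g * d * g⁻¹)}
        one_mem' := fun d _ => by simpa using Relation.ReflTransGen.refl
        mul_mem' := fun {a b} ha hb d hd => by
          rw [show a * b * d * (a * b)⁻¹ = a * (b * d * b⁻¹) * a⁻¹ by group]
          exact (hb d hd).trans (ha _ (hR.conj_mem d hd b))
        inv_mem' := fun {a} ha d hd => by
          refine cr_symm ?_
          have h1 := ha _ (hR.conj_mem d hd a⁻¹)
          rwa [show a * (a⁻¹ * d * a⁻¹⁻¹) * a⁻¹ = d by group] at h1 }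
    have hn : K.Normal := ⟨fun k hk g d hd => by
      have h1 := cr_conj hR (hk _ (hR.conj_mem d hd g⁻¹)) g
      rw [show g * (g⁻¹ * d * g⁻¹⁻¹) * g⁻¹ = d by group] at h1
      rwa [show g * k * g⁻¹ * d * (g * k * g⁻¹)⁻¹ = g * (k * (g⁻¹ * d * g⁻¹⁻¹) * k⁻¹) * g⁻¹ by group]⟩
    rcases h.simple.eq_bot_or_eq_top_of_normal K hn with e | e
    · exact hz1 ((Subgroup.mem_bot (G := G)).1 (e ▸ (show z ∈ K from hcon)))
    · obtain ⟨a, ha, b, hb, hab⟩ := h.disconnected
      obtain ⟨g, rfl⟩ := h.cls.2.2 a ha b hb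
      exact hab ((show g ∈ K from e ▸ Subgroup.mem_top g) a ha)
  have hzi : z⁻¹ = z := inv_eq_of_mul_eq_one_right hz
  rw [hzi] at hmove
  set d' := z * d * z with hd'
  have hd'D : d' ∈ D := by
    have := hR.conj_mem d hd z; rwa [hzi] at this
  have hdd := root_mul_self hR hd
  have hd2 := hR.orderOf_eq d hd
  have hd'2 := hR.orderOf_eq d' hd'D
  set w := d * d' with hw
  obtain ⟨k, hk⟩ := odd_of_not_cr hR hd hd'D hmove
  have hpow : ∀ n : ℤ, (d * d') ^ (n * (2 * (k : ℤ) + 1)) = 1 := fun n => by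
    rw [mul_comm, zpow_mul, show (2 * (k : ℤ) + 1) = ((orderOf (d * d') : ℕ) : ℤ) by
      rw [hk]; push_cast; ring, zpow_natCast, pow_orderOf_eq_one, one_zpow]
  set e := (d * d') ^ (k : ℤ) * d with he
  have heD : e ∈ D := by
    have h1 := conj_by_zpow hd2 hd'2 ((k : ℤ) * (k + 1)) 0
    rw [zpow_zero, one_mul, add_zero] at h1
    have h2 : (d * d') ^ (2 * ((k : ℤ) * (k + 1))) = (d * d') ^ (k : ℤ) := by
      rw [show 2 * ((k : ℤ) * (k + 1)) = (k : ℤ) + (k : ℤ) * (2 * k + 1) by ring, zpow_add, hpow,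
        mul_one]
    rw [h2] at h1
    rw [he, ← h1]
    exact hR.conj_mem d hd _
  have hzd : z * d * z⁻¹ = d' := by rw [hzi]
  have hzd' : z * d' * z⁻¹ = d := by
    rw [hd', hzi, ← mul_assoc, ← mul_assoc, hz, one_mul, mul_assoc, hz, mul_one]
  have hdd' : d' = d * (d * d') := by rw [← mul_assoc, hdd, one_mul]
  have hinv : d * (d * d') * d⁻¹ = (d * d')⁻¹ := by
    rw [root_inv hR hd, mul_inv_rev, root_inv hR hd, root_inv hR hd'D, ← mul_assoc, hdd, one_mul]
  have hze : Commute z e := by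
    have h1 : z * e * z⁻¹ = e := by
      rw [he, show z * ((d * d') ^ (k : ℤ) * d) * z⁻¹
        = (z * (d * d') * z⁻¹) ^ (k : ℤ) * (z * d * z⁻¹) by rw [conj_zpow]; group]
      rw [show z * (d * d') * z⁻¹ = (z * d * z⁻¹) * (z * d' * z⁻¹) by group, hzd, hzd']
      have e2 : d' * d = (d * d')⁻¹ := by rw [mul_inv_rev, root_inv hR hd, root_inv hR hd'D]
      rw [e2]
      have e3 : d' = (d * d')⁻¹ * d := by
        rw [mul_inv_rev, root_inv hR hd, root_inv hR hd'D, mul_assoc, hdd, mul_one]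
      conv_lhs => arg 2; rw [e3]
      rw [← mul_assoc, inv_zpow', ← zpow_neg_one, ← zpow_add]
      congr 1
      have h3 := hpow (-1)
      rw [show (-(k : ℤ)) + -1 = (k : ℤ) + (-1) * (2 * k + 1) by ring, zpow_add, h3, mul_one]
    show z * e = e * z
    calc z * e = z * e * z⁻¹ * z := by group
      _ = e * z := by rw [h1]
  have hed : e * d * e⁻¹ = d' := by
    rw [he, show (d * d') ^ (k : ℤ) * d * d * ((d * d') ^ (k : ℤ) * d)⁻¹
      = (d * d') ^ (k : ℤ) * d * ((d * d') ^ (k : ℤ))⁻¹ by rw [root_inv hR hd |> fun e => (mul_inv_rev _ _).trans (by rw [e]), mul_assoc _ d d, hdd, mul_one, ← mul_assoc]]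
    have h1 := conj_by_zpow hd2 hd'2 (k : ℤ) 0
    rw [zpow_zero, one_mul, add_zero] at h1
    rw [h1]
    have h2 : (d * d') ^ (2 * (k : ℤ)) = (d * d')⁻¹ := by
      rw [show 2 * (k : ℤ) = (-1) + 1 * (2 * k + 1) by ring, zpow_add, hpow, mul_one, zpow_neg_one]
    rw [h2, mul_inv_rev, root_inv hR hd, root_inv hR hd'D, mul_assoc, hdd, mul_one]
  refine ⟨e, heD, d, hd, hze, ?_, fun hc => hmove ?_⟩
  · show z * e * d = d * (z * e)
    calc z * e * d = z * (e * d * e⁻¹) * z⁻¹ * (z * e) := by group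
      _ = d * (z * e) := by rw [hed, hzd']
  · have h1 := cr_conj hR hc z
    rw [hzd, show z * e * z⁻¹ = e by rw [hze.eq]; group] at h1
    exact hc.trans (cr_symm h1)

end Split

namespace Minimal

variable {G : Type u} [Group G] [Finite G] {D : Set G} (h : Minimal D)
include h

theorem root : Cfsg.IsRootInvolutionSet D := h.nondeg.1

omit [Finite G] in
theorem center_eq_bot : Subgroup.center G = ⊥ := by
  rcases h.simple.eq_bot_or_eq_top_of_normal (Subgroup.center G) inferInstance with e | e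
  · exact e
  · exfalso
    obtain ⟨hR, -, ⟨a, ha, b, hb, hne, ho⟩, -⟩ := h.nondeg
    have h1 : b ∈ Subgroup.center G := e ▸ Subgroup.mem_top b
    exact odd_not_commute hR ha hb hne.symm ho (Subgroup.mem_center_iff.1 h1 a)

theorem centralizer_ne_top {z : G} (hz : z ≠ 1) : Subgroup.centralizer ({z} : Set G) ≠ ⊤ := by
  intro e
  refine hz ((Subgroup.mem_bot (G := G)).1 (h.center_eq_bot ▸ Subgroup.mem_center_iff.2 fun g => ?_))
  exact Subgroup.mem_centralizer_singleton_iff.1 (e ▸ Subgroup.mem_top g)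

/-- A non-trivial element does not centralise a pair of order `4` and a member of another component. -/
theorem cr_of_centralized {z u v e : G} (hz : z ≠ 1) (hu : u ∈ D) (hv : v ∈ D) (he : e ∈ D)
    (h4 : orderOf (u * v) = 4) (hzu : Commute z u) (hzv : Commute z v) (hze : Commute z e) :
    CR D u e := by
  by_contra hne
  set S : Set G := {x | x ∈ D ∧ Commute z x} with hS
  set L := Subgroup.closure S with hL
  have hR := h.root
  have hLC : L ≤ Subgroup.centralizer ({z} : Set G) :=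
    (Subgroup.closure_le _).2 fun x hx => Subgroup.mem_centralizer_singleton_iff.2 hx.2.symm.eq
  have hLne : L ≠ ⊤ := fun e' => h.centralizer_ne_top hz (top_le_iff.1 (e' ▸ hLC))
  have hconj : ∀ {x y : G}, x ∈ S → y ∈ S → ¬ CR D x y → ∃ g ∈ L, g * x * g⁻¹ = y := fun {x y} hx hy hn => by
    obtain ⟨g, hg, hgx⟩ := conj_of_odd_order (hR.orderOf_eq x hx.1) (hR.orderOf_eq y hy.1)
      (odd_of_not_cr hR hx.1 hy.1 hn)
    refine ⟨g, (Subgroup.closure_le _).2 ?_ hg, hgx⟩
    rintro _ (rfl | rfl)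
    exacts [Subgroup.subset_closure hx, Subgroup.subset_closure hy]
  have huS : u ∈ S := ⟨hu, hzu⟩
  have heS : e ∈ S := ⟨he, hze⟩
  obtain ⟨hE, hEc⟩ := restrict hR (S := S) (fun x hx => hx.1) huS
    (fun x hx g hg => ⟨hR.conj_mem x hx.1 g, by
      have hgz : Commute z g := (show g * z = z * g from
        Subgroup.mem_centralizer_singleton_iff.1 (hLC hg)).symm
      exact (hgz.mul_right hx.2).mul_right hgz.inv_right⟩)
    (fun x hx => by
      by_cases hux : CR D u x
      · obtain ⟨g, hg, hge⟩ := hconj huS heS hne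
        obtain ⟨k, hk, hkx⟩ := hconj heS hx fun hc => hne (hux.trans (cr_symm hc))
        exact ⟨k * g, mul_mem hk hg, by rw [← hkx, ← hge]; group⟩
      · exact hconj huS hx hux)
    (fun x hx y hy h4' => ⟨(four_facts hR hx.1 hy.1 h4').1, (hx.2.mul_right hy.2).pow_right 2⟩)
    ⟨u, huS, e, heS, fun e' => hne (e' ▸ Relation.ReflTransGen.refl), odd_of_not_cr hR hu he hne⟩
    ⟨u, huS, v, ⟨hv, hzv⟩, h4⟩
  have h1 := h.induct L hLne _ hE hEc ⟨u, Subgroup.subset_closure huS⟩ huS
    ⟨e, Subgroup.subset_closure heS⟩ heS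
  exact hne (h1.lift (Subtype.val : L → G) fun x y e' =>
    ⟨e'.1.1, e'.2.1.1, fun h' => e'.2.2.1 (Subtype.ext h'), congrArg Subtype.val e'.2.2.2⟩)

omit [Finite G] in
theorem split : Split D := ⟨h.nondeg.1, h.cls, h.simple, h.disconnected⟩

theorem cr_of_commute_prod {a b x : G} (ha : a ∈ D) (hb : b ∈ D) (hc : Commute a b) (hne : a ≠ b)
    (hx : x ∈ D) (hxu : Commute x (a * b)) : CR D a x :=
  h.split.cr_of_commute_prod ha hb hc hne hx hxu

theorem exists_straddle {z : G} (hz : z * z = 1) (hz1 : z ≠ 1) :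
    ∃ e ∈ D, ∃ c ∈ D, Commute z e ∧ Commute (z * e) c ∧ ¬ CR D c e :=
  h.split.exists_straddle hz hz1

theorem exists_conj_two {M : Subgroup G} {Q : Subgroup G} (hQ : Q ≤ M) (hQ2 : IsPGroup 2 Q)
    {e : G} (heM : e ∈ M) (he : e ∈ D) :
    ∃ P : Subgroup G, IsPGroup 2 P ∧ Q ≤ P ∧ ∃ g ∈ M, g * e * g⁻¹ ∈ P := by
  have : Fact (Nat.Prime 2) := ⟨Nat.prime_two⟩
  obtain ⟨P, hP, hQP⟩ := exists_sylowOf_ge hQ hQ2
  obtain ⟨T, hT, heT⟩ := exists_sylowOf_ge (p := 2) (Subgroup.zpowers_le.2 heM)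
    (IsPGroup.of_card (n := 1) (by rw [Nat.card_zpowers, h.root.orderOf_eq e he, pow_one]))
  obtain ⟨g, hg, rfl⟩ := BenderTrans.exists_conj_sylowOf hT hP
  exact ⟨_, hP.2.1, hQP, g, hg, e, heT (Subgroup.mem_zpowers e), rfl⟩

/-- An involution centralising a pair of order `4` is a member. -/
theorem mem_of_four {z x y : G} (hz : z * z = 1) (hz1 : z ≠ 1) (hx : x ∈ D) (hy : y ∈ D)
    (h4 : orderOf (x * y) = 4) (hzx : Commute z x) (hzy : Commute z y) : z ∈ D := by
  by_contra hzD
  have hR := h.root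
  obtain ⟨e0, he0, c0, hc0, hze0, hc0i, hn0⟩ := h.exists_straddle hz hz1
  obtain ⟨P, hP, hQP, g, hgC, hgP⟩ := h.exists_conj_two (M := Subgroup.centralizer ({z} : Set G))
    ((Subgroup.closure_le _).2 (by
      rintro _ (rfl | rfl)
      exacts [Subgroup.mem_centralizer_singleton_iff.2 hzx.symm.eq,
        Subgroup.mem_centralizer_singleton_iff.2 hzy.symm.eq]))
    (isPGroup_pair_of_four hR hx hy h4) (Subgroup.mem_centralizer_singleton_iff.2 hze0.symm.eq) he0
  have hgz : g * z * g⁻¹ = z := by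
    rw [Subgroup.mem_centralizer_singleton_iff.1 hgC, mul_inv_cancel_right]
  set e := g * e0 * g⁻¹ with he
  set c := g * c0 * g⁻¹ with hc
  have heD : e ∈ D := hR.conj_mem e0 he0 g
  have hcD : c ∈ D := hR.conj_mem c0 hc0 g
  have hn : ¬ CR D c e := fun h' => hn0 (by
    have := cr_conj hR h' g⁻¹
    rwa [show g⁻¹ * c * g⁻¹⁻¹ = c0 by rw [hc]; group, show g⁻¹ * e * g⁻¹⁻¹ = e0 by rw [he]; group]
      at this)
  have hze : Commute z e := by
    show z * e = e * z
    calc z * e = g * z * g⁻¹ * (g * e0 * g⁻¹) := by rw [hgz]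
      _ = g * (z * e0) * g⁻¹ := by group
      _ = g * (e0 * z) * g⁻¹ := by rw [hze0.eq]
      _ = g * e0 * g⁻¹ * (g * z * g⁻¹) := by group
      _ = e * z := by rw [hgz]
  have hci : Commute (z * e) c := by
    show z * e * c = c * (z * e)
    calc z * e * c = g * z * g⁻¹ * (g * e0 * g⁻¹) * (g * c0 * g⁻¹) := by rw [hgz]
      _ = g * (z * e0 * c0) * g⁻¹ := by group
      _ = g * (c0 * (z * e0)) * g⁻¹ := by rw [hc0i.eq]
      _ = g * c0 * g⁻¹ * (g * z * g⁻¹ * (g * e0 * g⁻¹)) := by group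
      _ = c * (z * e) := by rw [hgz]
  set i := z * e with hi
  have hi1 : i ≠ 1 := fun e' => hzD (by
    rw [eq_inv_of_mul_eq_one_left e', root_inv hR heD]; exact heD)
  have hie : Commute i e := hze.mul_left (Commute.refl e)
  by_cases hcom : Commute e x ∧ Commute e y
  · have hix : Commute i x := hzx.mul_left hcom.1
    have hiy : Commute i y := hzy.mul_left hcom.2
    exact hn ((cr_symm (h.cr_of_centralized hi1 hx hy hcD h4 hix hiy hci)).trans
      (h.cr_of_centralized hi1 hx hy heD h4 hix hiy hie))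
  obtain ⟨v, hv, hvP, hzv, hev⟩ : ∃ v ∈ D, v ∈ P ∧ Commute z v ∧ ¬ Commute e v := by
    rw [not_and_or] at hcom
    rcases hcom with e' | e'
    · exact ⟨x, hx, hQP (Subgroup.subset_closure (Set.mem_insert _ _)), hzx, e'⟩
    · exact ⟨y, hy, hQP (Subgroup.subset_closure (Set.mem_insert_of_mem _ rfl)), hzy, e'⟩
  have hev4 : orderOf (e * v) = 4 := by
    rcases hR.pair e heD v hv with h' | h' | h'
    · exact absurd h' hev
    · exact absurd (eq_of_odd_of_two hR hP heD hgP hvP h') (fun e' => hev (e' ▸ Commute.refl e))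
    · exact h'.1
  obtain ⟨hwD, hwe, hwv, hew, -, -⟩ := four_facts hR heD hv hev4
  set w := (e * v) ^ 2 with hw
  have hwi : Commute w i := ((hze.mul_right hzv).pow_right 2).symm.mul_right hwe
  have hnw : ¬ CR D w c := fun h' => hn ((cr_symm h').trans (cr_of_commute hwD heD hwe))
  -- `e` and `w` are conjugate in the centraliser of `i`
  obtain ⟨q, hq, hqe⟩ : ∃ q, Commute q i ∧ q * e * q⁻¹ = w := by
    have key : ∀ {p r : G}, p ∈ D → r ∈ D → Commute p i → Commute r i → ¬ CR D p r →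
        ∃ q, Commute q i ∧ q * p * q⁻¹ = r := by
      intro p r hp hr hpi hri hpr
      obtain ⟨q, hq, hqp⟩ := conj_of_odd_order (hR.orderOf_eq p hp) (hR.orderOf_eq r hr)
        (odd_of_not_cr hR hp hr hpr)
      refine ⟨q, ?_, hqp⟩
      have hle : Subgroup.closure ({p, r} : Set G) ≤ Subgroup.centralizer ({i} : Set G) :=
        (Subgroup.closure_le _).2 (by
          rintro _ (rfl | rfl)
          exacts [Subgroup.mem_centralizer_singleton_iff.2 hpi.eq,
            Subgroup.mem_centralizer_singleton_iff.2 hri.eq])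
      exact Subgroup.mem_centralizer_singleton_iff.1 (hle hq)
    obtain ⟨q₁, hq₁, hq₁e⟩ := key heD hcD hie.symm hci.symm fun h' => hn (cr_symm h')
    obtain ⟨q₂, hq₂, hq₂c⟩ := key hcD hwD hci.symm hwi fun h' => hnw (cr_symm h')
    exact ⟨q₂ * q₁, hq₂.mul_left hq₁, by rw [← hq₂c, ← hq₁e]; group⟩
  -- so `z` is conjugate to `i`
  set k := q⁻¹ * v with hk
  have hzk : k * i * k⁻¹ = z := by
    have hvi : v * i * v⁻¹ = i * w := by
      calc v * i * v⁻¹ = (v * z * v⁻¹) * (v * e * v⁻¹) := by rw [hi]; group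
        _ = z * (e * w) := by rw [← hew, hzv.symm.eq, mul_inv_cancel_right]
        _ = i * w := (mul_assoc z e w).symm
    have hqi : q⁻¹ * i * q = i := by rw [hq.inv_left.eq, inv_mul_cancel_right]
    calc k * i * k⁻¹ = q⁻¹ * (v * i * v⁻¹) * q := by rw [hk]; group
      _ = (q⁻¹ * i * q) * (q⁻¹ * w * q) := by rw [hvi]; group
      _ = z := by
        rw [hqi, ← hqe, show q⁻¹ * (q * e * q⁻¹) * q = e by group, hi, mul_assoc,
          root_mul_self hR heD, mul_one]
  have hkc : ∀ {t : G}, Commute i t → Commute z (k * t * k⁻¹) := fun {t} ht => by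
    show z * (k * t * k⁻¹) = k * t * k⁻¹ * z
    rw [← hzk]
    calc k * i * k⁻¹ * (k * t * k⁻¹) = k * (i * t) * k⁻¹ := by group
      _ = k * (t * i) * k⁻¹ := by rw [ht.eq]
      _ = k * t * k⁻¹ * (k * i * k⁻¹) := by group
  have h5 := (cr_symm (h.cr_of_centralized hz1 hx hy (hR.conj_mem c hcD k) h4 hzx hzy (hkc hci))).trans
    (h.cr_of_centralized hz1 hx hy (hR.conj_mem e heD k) h4 hzx hzy (hkc hie))
  have h6 := cr_conj hR h5 k⁻¹
  rw [show k⁻¹ * (k * c * k⁻¹) * k⁻¹⁻¹ = c by group,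
    show k⁻¹ * (k * e * k⁻¹) * k⁻¹⁻¹ = e by group] at h6
  exact hn h6

/-- The product of two different commuting members is a member. -/
theorem closed : Closed D := by
  intro d hd d' hd' hdd hne
  by_contra hpD
  have hR := h.root
  have : Fact (Nat.Prime 2) := ⟨Nat.prime_two⟩
  set p := d * d' with hp
  have hp2 : p * p = 1 := by
    calc d * d' * (d * d') = d * (d' * d) * d' := by group
      _ = d * d * (d' * d') := by rw [← hdd.eq]; group
      _ = 1 := by rw [root_mul_self hR hd, root_mul_self hR hd', one_mul]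
  have hp1 : p ≠ 1 := fun e => hne (eq_of_mul_eq_one hR hd e).symm
  have hpd : Commute p d := (Commute.refl d).mul_left hdd.symm
  have hpd' : Commute p d' := hdd.mul_left (Commute.refl d')
  have hmemC : ∀ {t : G}, Commute p t → t ∈ Subgroup.centralizer ({p} : Set G) := fun {t} ht =>
    Subgroup.mem_centralizer_singleton_iff.2 ht.symm.eq
  obtain ⟨e0, he0, c0, hc0, hpe0, hc0i, hn0⟩ := h.exists_straddle hp2 hp1
  have hpair : IsPGroup 2 (Subgroup.closure ({d, d'} : Set G)) := by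
    obtain ⟨k, -, hk⟩ := (Nat.dvd_prime_pow Nat.prime_two).1
      (orderOf_dvd_of_pow_eq_one (show (d * d') ^ (2 ^ 1) = 1 by rw [pow_one, pow_two]; exact hp2))
    exact isPGroup_two_closure_pair (hR.orderOf_eq d hd) (hR.orderOf_eq d' hd') hk
  obtain ⟨P, hP, hQP, g, hgC, hgP⟩ := h.exists_conj_two (M := Subgroup.centralizer ({p} : Set G))
    ((Subgroup.closure_le _).2 (by
      rintro _ (rfl | rfl)
      exacts [hmemC hpd, hmemC hpd'])) hpair (hmemC hpe0) he0
  have hgp : g * p * g⁻¹ = p := by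
    rw [Subgroup.mem_centralizer_singleton_iff.1 hgC, mul_inv_cancel_right]
  set e := g * e0 * g⁻¹ with he
  set c := g * c0 * g⁻¹ with hc
  have heD : e ∈ D := hR.conj_mem e0 he0 g
  have hcD : c ∈ D := hR.conj_mem c0 hc0 g
  have hn : ¬ CR D c e := fun h' => hn0 (by
    have := cr_conj hR h' g⁻¹
    rwa [show g⁻¹ * c * g⁻¹⁻¹ = c0 by rw [hc]; group, show g⁻¹ * e * g⁻¹⁻¹ = e0 by rw [he]; group]
      at this)
  have hpe : Commute p e := by
    show p * e = e * p
    calc p * e = g * p * g⁻¹ * (g * e0 * g⁻¹) := by rw [hgp]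
      _ = g * (p * e0) * g⁻¹ := by group
      _ = g * (e0 * p) * g⁻¹ := by rw [hpe0.eq]
      _ = g * e0 * g⁻¹ * (g * p * g⁻¹) := by group
      _ = e * p := by rw [hgp]
  have hci : Commute (p * e) c := by
    show p * e * c = c * (p * e)
    calc p * e * c = g * p * g⁻¹ * (g * e0 * g⁻¹) * (g * c0 * g⁻¹) := by rw [hgp]
      _ = g * (p * e0 * c0) * g⁻¹ := by group
      _ = g * (c0 * (p * e0)) * g⁻¹ := by rw [hc0i.eq]
      _ = g * c0 * g⁻¹ * (g * p * g⁻¹ * (g * e0 * g⁻¹)) := by group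
      _ = c * (p * e) := by rw [hgp]
  set i := p * e with hi
  have hi1 : i ≠ 1 := fun e' => hpD (by
    rw [eq_inv_of_mul_eq_one_left e', root_inv hR heD]; exact heD)
  have hie : Commute i e := hpe.mul_left (Commute.refl e)
  -- `e` commutes with `d` and `d'`
  have hcomm : ∀ {t : G}, t ∈ D → t ∈ P → Commute p t → Commute e t := by
    intro t ht htP hpt
    rcases hR.pair e heD t ht with h' | h' | h'
    · exact h'
    · exact (eq_of_odd_of_two hR hP heD hgP htP h') ▸ Commute.refl e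
    · exact absurd (h.mem_of_four hp2 hp1 heD ht h'.1 hpe hpt) hpD
  have hdP : d ∈ P := hQP (Subgroup.subset_closure (Set.mem_insert _ _))
  have hd'P : d' ∈ P := hQP (Subgroup.subset_closure (Set.mem_insert_of_mem _ rfl))
  have hid : Commute i d := hpd.mul_left (hcomm hd hdP hpd)
  have hid' : Commute i d' := hpd'.mul_left (hcomm hd' hd'P hpd')
  -- a Sylow subgroup through `d`, `d'` and `e`
  obtain ⟨S, hS, hPS⟩ := exists_sylowOf_ge (le_top : P ≤ ⊤) hP
  obtain ⟨-, -, -, ⟨u₀, hu₀, v₀, hv₀, h40⟩⟩ := h.nondeg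
  obtain ⟨u, hu, huS, v, hv, hvS, h4⟩ : ∃ u ∈ D, u ∈ S ∧ ∃ v ∈ D, v ∈ S ∧ orderOf (u * v) = 4 := by
    obtain ⟨T, hT, hTle⟩ := exists_sylowOf_ge (le_top : Subgroup.closure ({u₀, v₀} : Set G) ≤ ⊤)
      (isPGroup_pair_of_four hR hu₀ hv₀ h40)
    obtain ⟨k, -, rfl⟩ := BenderTrans.exists_conj_sylowOf hT hS
    refine ⟨k * u₀ * k⁻¹, hR.conj_mem _ hu₀ k,
      ⟨u₀, hTle (Subgroup.subset_closure (Set.mem_insert _ _)), rfl⟩, k * v₀ * k⁻¹,
      hR.conj_mem _ hv₀ k, ⟨v₀, hTle (Subgroup.subset_closure (Set.mem_insert_of_mem _ rfl)), rfl⟩, ?_⟩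
    rw [show k * u₀ * k⁻¹ * (k * v₀ * k⁻¹) = k * (u₀ * v₀) * k⁻¹ by group, orderOf_conj_eq, h40]
  set A : Set G := {a | a ∈ D ∧ a ∈ S ∧ Commute i a} with hA
  have hfourS : ∀ {a b : G}, a ∈ D → a ∈ S → b ∈ D → b ∈ S → ¬ Commute a b → orderOf (a * b) = 4 := by
    intro a b ha haS hb hbS hn'
    rcases hR.pair a ha b hb with h' | h' | h'
    · exact absurd h' hn'
    · exact absurd (eq_of_odd_of_two hR hS.2.1 ha haS hbS h') fun e' => hn' (e' ▸ Commute.refl a)
    · exact h'.1
  have hAcomm : ∀ a ∈ A, ∀ b ∈ A, Commute a b := by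
    intro a ha b hb
    by_contra hn'
    have h4' := hfourS ha.1 ha.2.1 hb.1 hb.2.1 hn'
    exact hn ((cr_symm (h.cr_of_centralized hi1 ha.1 hb.1 hcD h4' ha.2.2 hb.2.2 hci)).trans
      (h.cr_of_centralized hi1 ha.1 hb.1 heD h4' ha.2.2 hb.2.2 hie))
  set M := S ⊓ Subgroup.normalizer A with hM
  have hAM : ∀ a ∈ A, a ∈ M := by
    intro a ha
    refine ⟨ha.2.1, Subgroup.mem_set_normalizer_iff.2 fun n => ⟨fun hn' => ?_, fun hn' => ?_⟩⟩
    · rwa [(hAcomm a ha n hn').eq, mul_inv_cancel_right]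
    · have h1 : a * n * a⁻¹ = n := by
        have h2 := (hAcomm a ha _ hn').eq
        calc a * n * a⁻¹ = a⁻¹ * (a * (a * n * a⁻¹)) := by group
          _ = a⁻¹ * (a * n * a⁻¹ * a) := by rw [h2]
          _ = n := by group
      rwa [h1] at hn'
  obtain ⟨y, hy, hyS, hyA, hyM⟩ : ∃ y ∈ D, y ∈ S ∧ y ∉ A ∧ y ∈ M := by
    by_cases hall : ∀ s ∈ D, s ∈ S → s ∈ M
    · by_cases huA : u ∈ A
      · exact ⟨v, hv, hvS, fun hvA => not_commute_of_four hR hu hv h4 (hAcomm u huA v hvA),
          hall v hv hvS⟩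
      · exact ⟨u, hu, huS, huA, hall u hu huS⟩
    · push Not at hall
      obtain ⟨s, hs, hsS, hsM⟩ := hall
      have hlt : M < S := lt_of_le_of_ne inf_le_left fun e' => hsM (e' ▸ hsS)
      obtain ⟨k, hk, hkM⟩ := SetLike.exists_of_lt (BenderTrans.lt_normalizer_inf hS.2.1 hlt)
      obtain ⟨a, ha, hka⟩ : ∃ a ∈ A, k * a * k⁻¹ ∉ A := by
        by_contra hcon
        push Not at hcon
        refine hkM ⟨hk.2, ?_⟩
        refine Subgroup.mem_set_normalizer_iff.2 fun n => ⟨fun hn' => hcon n hn', fun hn' => ?_⟩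
        have himg : (fun t => k * t * k⁻¹) '' A = A :=
          Set.eq_of_subset_of_ncard_le (Set.image_subset_iff.2 hcon)
            (Set.ncard_image_of_injective A (MulAut.conj k).injective).ge (Set.toFinite _)
        rw [← himg] at hn'
        obtain ⟨m, hm, hme⟩ := hn'
        have : m = n := (MulAut.conj k).injective hme
        exact this ▸ hm
      have h1 := Coprime.mem_normalizer_conj hk.1 (hAM a ha)
      exact ⟨_, hR.conj_mem a ha.1 k, h1.1, hka, h1⟩
  have hyconj : ∀ a ∈ A, y * a * y⁻¹ ∈ A := fun a ha => (Subgroup.mem_set_normalizer_iff.1 hyM.2 a).1 ha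
  have hdA : d ∈ A := ⟨hd, hPS hdP, hid⟩
  have hd'A : d' ∈ A := ⟨hd', hPS hd'P, hid'⟩
  have heA : e ∈ A := ⟨heD, hPS hgP, hie⟩
  set j := y * i * y⁻¹ with hj
  have hyy := root_mul_self hR hy
  have hyinv := root_inv hR hy
  have hij : Commute i j := by
    have h1 : j = y * d * y⁻¹ * (y * d' * y⁻¹) * (y * e * y⁻¹) := by rw [hj, hi, hp]; group
    rw [h1]
    exact ((hyconj d hdA).2.2.mul_right (hyconj d' hd'A).2.2).mul_right (hyconj e heA).2.2
  have hja : ∀ a ∈ A, Commute j a := by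
    intro a ha
    have h1 : j = y * d * y⁻¹ * (y * d' * y⁻¹) * (y * e * y⁻¹) := by rw [hj, hi, hp]; group
    rw [h1]
    exact ((hAcomm _ (hyconj d hdA) a ha).mul_left (hAcomm _ (hyconj d' hd'A) a ha)).mul_left
      (hAcomm _ (hyconj e heA) a ha)
  have hii : i * i = 1 := by
    calc p * e * (p * e) = p * (e * p) * e := by group
      _ = p * p * (e * e) := by rw [← hpe.eq]; group
      _ = 1 := by rw [hp2, root_mul_self hR heD, one_mul]
  set t := i * j with ht
  have ht2 : t * t = 1 := by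
    calc i * j * (i * j) = i * (j * i) * j := by group
      _ = i * i * (j * j) := by rw [← hij.eq]; group
      _ = 1 := by
        rw [hii, one_mul, hj, show y * i * y⁻¹ * (y * i * y⁻¹) = y * (i * i) * y⁻¹ by group, hii,
          mul_one, mul_inv_cancel]
  have ht1 : t ≠ 1 := by
    intro e'
    have h1 : j = i := by
      rw [← mul_one i, ← e', ht, ← mul_assoc, hii, one_mul]
    refine hyA ⟨hy, hyS, ?_⟩
    show i * y = y * i
    calc i * y = j * y := by rw [h1]
      _ = y * i := by rw [hj, inv_mul_cancel_right]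
  have hty : Commute t y := by
    show i * j * y = y * (i * j)
    calc i * j * y = j * i * y := by rw [hij.eq]
      _ = y * i * y⁻¹ * i * y := by rw [hj]
      _ = y * (i * j) := by rw [hj, hyinv]; group
  obtain ⟨a, ha, hay⟩ : ∃ a ∈ A, ¬ Commute a y := by
    by_contra hcon
    push Not at hcon
    exact hyA ⟨hy, hyS, ((hcon d hdA).mul_left (hcon d' hd'A)).mul_left (hcon e heA)⟩
  have hta : Commute t a := ha.2.2.mul_left (hja a ha)
  have htD : t ∈ D :=
    h.mem_of_four ht2 ht1 ha.1 hy (hfourS ha.1 ha.2.1 hy hyS hay) hta hty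
  have hti : Commute t i := (Commute.refl i).mul_left hij.symm
  -- conjugate `e` to `t` inside the centraliser of `i`
  have key : ∀ {x r : G}, x ∈ D → r ∈ D → Commute x i → Commute r i → ¬ CR D x r →
      ∃ q, Commute q i ∧ q * x * q⁻¹ = r := by
    intro x r hx hr hxi hri hxr
    obtain ⟨q, hq, hqp⟩ := conj_of_odd_order (hR.orderOf_eq x hx) (hR.orderOf_eq r hr)
      (odd_of_not_cr hR hx hr hxr)
    refine ⟨q, ?_, hqp⟩
    have hle : Subgroup.closure ({x, r} : Set G) ≤ Subgroup.centralizer ({i} : Set G) :=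
      (Subgroup.closure_le _).2 (by
        rintro _ (rfl | rfl)
        exacts [Subgroup.mem_centralizer_singleton_iff.2 hxi.eq,
          Subgroup.mem_centralizer_singleton_iff.2 hri.eq])
    exact Subgroup.mem_centralizer_singleton_iff.1 (hle hq)
  obtain ⟨q, hq, hqe⟩ : ∃ q, Commute q i ∧ q * e * q⁻¹ = t := by
    by_cases het : CR D e t
    · obtain ⟨q₁, hq₁, hq₁e⟩ := key heD hcD hie.symm hci.symm fun h' => hn (cr_symm h')
      obtain ⟨q₂, hq₂, hq₂c⟩ := key hcD htD hci.symm hti fun h' => hn (h'.trans (cr_symm het))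
      exact ⟨q₂ * q₁, hq₂.mul_left hq₁, by rw [← hq₂c, ← hq₁e]; group⟩
    · exact key heD htD hie.symm hti het
  set k := q⁻¹ * y with hk
  have hpk : k * i * k⁻¹ = p := by
    have hqi : q⁻¹ * i * q = i := by rw [hq.inv_left.eq, inv_mul_cancel_right]
    have hjt : j = i * t := by rw [ht, ← mul_assoc, hii, one_mul]
    calc k * i * k⁻¹ = q⁻¹ * j * q := by rw [hk, hj]; group
      _ = (q⁻¹ * i * q) * (q⁻¹ * t * q) := by rw [hjt]; group
      _ = p := by
        rw [hqi, ← hqe, show q⁻¹ * (q * e * q⁻¹) * q = e by group, hi, mul_assoc,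
          root_mul_self hR heD, mul_one]
  have hkc : ∀ {r : G}, r ∈ D → Commute i r → CR D d (k * r * k⁻¹) := fun {r} hr hir => by
    refine h.cr_of_commute_prod hd hd' hdd hne (hR.conj_mem r hr k) ?_
    show k * r * k⁻¹ * p = p * (k * r * k⁻¹)
    rw [← hpk]
    calc k * r * k⁻¹ * (k * i * k⁻¹) = k * (r * i) * k⁻¹ := by group
      _ = k * (i * r) * k⁻¹ := by rw [hir.eq]
      _ = k * i * k⁻¹ * (k * r * k⁻¹) := by group
  have h6 := cr_conj hR ((cr_symm (hkc hcD hci)).trans (hkc heD hie)) k⁻¹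
  rw [show k⁻¹ * (k * c * k⁻¹) * k⁻¹⁻¹ = c by group,
    show k⁻¹ * (k * e * k⁻¹) * k⁻¹⁻¹ = e by group] at h6
  exact hn h6

/-- The minimal situation does not occur. -/
theorem false_of_minimal : False := by
  have hR := h.root
  obtain ⟨a₀, ha₀, b₀, hb₀, hab₀⟩ := h.disconnected
  let H : Subgroup G :=
    { carrier := {g | CR D a₀ (g * a₀ * g⁻¹)}
      one_mem' := by
        show CR D a₀ (1 * a₀ * 1⁻¹)
        simp [Relation.ReflTransGen.refl]
      mul_mem' := fun {a b} ha hb => by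
        show CR D a₀ (a * b * a₀ * (a * b)⁻¹)
        rw [show a * b * a₀ * (a * b)⁻¹ = a * (b * a₀ * b⁻¹) * a⁻¹ by group]
        exact Relation.ReflTransGen.trans ha (cr_conj hR hb a)
      inv_mem' := fun {a} ha => by
        show CR D a₀ (a⁻¹ * a₀ * a⁻¹⁻¹)
        have h1 := cr_symm (cr_conj hR ha a⁻¹)
        rwa [show a⁻¹ * (a * a₀ * a⁻¹) * a⁻¹⁻¹ = a₀ by group] at h1 }
  have hfix_iff : ∀ (d g : G), d • (g : G ⧸ H) = g ↔
      CR D (g * a₀ * g⁻¹) (d * (g * a₀ * g⁻¹) * d⁻¹) := by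
    intro d g
    rw [MulAction.Quotient.smul_coe, eq_comm, QuotientGroup.eq]
    show CR D a₀ (g⁻¹ * (d • g) * a₀ * (g⁻¹ * (d • g))⁻¹) ↔ _
    rw [smul_eq_mul]
    constructor
    · intro h1
      have h2 := cr_conj hR h1 g
      rwa [show g * (g⁻¹ * (d * g) * a₀ * (g⁻¹ * (d * g))⁻¹) * g⁻¹ = d * (g * a₀ * g⁻¹) * d⁻¹ by
        group] at h2
    · intro h1
      have h2 := cr_conj hR h1 g⁻¹
      rwa [show g⁻¹ * (g * a₀ * g⁻¹) * g⁻¹⁻¹ = a₀ by group,
        show g⁻¹ * (d * (g * a₀ * g⁻¹) * d⁻¹) * g⁻¹⁻¹ = g⁻¹ * (d * g) * a₀ * (g⁻¹ * (d * g))⁻¹ by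
        group] at h2
  have hpoint : ∀ {d : G}, d ∈ D → ∀ g : G, d • (g : G ⧸ H) = g ↔ CR D d (g * a₀ * g⁻¹) := by
    intro d hd g
    rw [hfix_iff]
    set c := g * a₀ * g⁻¹ with hc
    have hcD : c ∈ D := hR.conj_mem a₀ ha₀ g
    constructor
    · intro h1
      by_contra hdc
      obtain ⟨m, hm, hmc⟩ := conj_of_odd_order (hR.orderOf_eq c hcD) (hR.orderOf_eq d hd)
        (odd_of_not_cr hR hcD hd fun h' => hdc (cr_symm h'))
      let K : Subgroup G :=
        { carrier := {k | CR D c (k * c * k⁻¹)}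
          one_mem' := by
            show CR D c (1 * c * 1⁻¹)
            simp [Relation.ReflTransGen.refl]
          mul_mem' := fun {a b} ha hb => by
            show CR D c (a * b * c * (a * b)⁻¹)
            rw [show a * b * c * (a * b)⁻¹ = a * (b * c * b⁻¹) * a⁻¹ by group]
            exact Relation.ReflTransGen.trans ha (cr_conj hR hb a)
          inv_mem' := fun {a} ha => by
            show CR D c (a⁻¹ * c * a⁻¹⁻¹)
            have h2 := cr_symm (cr_conj hR ha a⁻¹)
            rwa [show a⁻¹ * (a * c * a⁻¹) * a⁻¹⁻¹ = c by group] at h2 }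
      have hmK : m ∈ K := by
        refine (Subgroup.closure_le K).2 ?_ hm
        rintro _ (rfl | rfl)
        · show CR D c (c * c * c⁻¹)
          rw [mul_inv_cancel_right]
        · exact h1
      exact hdc (cr_symm (hmc ▸ (show CR D c (m * c * m⁻¹) from hmK)))
    · intro h1
      have h2 := cr_conj hR h1 d
      rw [mul_inv_cancel_right] at h2
      exact (cr_symm h1).trans h2
  have hpf : PointFix (Ω := G ⧸ H) D := by
    refine ⟨hR, h.closed, fun x y => MulAction.exists_smul_eq G x y, ?_, ?_, ?_, ?_, ?_⟩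
    · obtain ⟨g, hg⟩ := h.cls.2.2 a₀ ha₀ b₀ hb₀
      refine ⟨((1 : G) : G ⧸ H), (g : G ⧸ H), fun e => hab₀ ?_⟩
      rw [QuotientGroup.eq, inv_one, one_mul] at e
      rw [hg]; exact e
    · intro d hd
      obtain ⟨g, hg⟩ := h.cls.2.2 a₀ ha₀ d hd
      exact ⟨g, (hpoint hd g).2 (hg ▸ Relation.ReflTransGen.refl)⟩
    · intro d hd x y hx hy
      obtain ⟨g, rfl⟩ := QuotientGroup.mk_surjective x
      obtain ⟨k, rfl⟩ := QuotientGroup.mk_surjective y
      have h1 := (cr_symm ((hpoint hd g).1 hx)).trans ((hpoint hd k).1 hy)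
      rw [QuotientGroup.eq]
      have h2 := cr_conj hR h1 g⁻¹
      show CR D a₀ (g⁻¹ * k * a₀ * (g⁻¹ * k)⁻¹)
      rwa [show g⁻¹ * (g * a₀ * g⁻¹) * g⁻¹⁻¹ = a₀ by group,
        show g⁻¹ * (k * a₀ * k⁻¹) * g⁻¹⁻¹ = g⁻¹ * k * a₀ * (g⁻¹ * k)⁻¹ by group] at h2
    · exact h.nondeg.2.2.2
    · intro z hz u hu v hv e he h4 hzu hzv hze x hx
      obtain ⟨g, rfl⟩ := QuotientGroup.mk_surjective x
      exact (hpoint he g).2
        ((cr_symm (h.cr_of_centralized hz hu hv he h4 hzu hzv hze)).trans ((hpoint hu g).1 hx))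
  exact hpf.contradiction fun X hX => PF.oddSolvable X hX

end Minimal

end CfsgLib.RootConnect
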