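import Mathlib
import Cfsg.Agent.Lib.RootConnect.Disconnected

/-!
For a non-degenerate class of root involutions the commuting graph and the graph of commuting members
with product in the class are connected, and a member with its product partners and an odd partner
generate the group.
-/

set_option autoImplicit false

namespace CfsgLib.RootConnect

open CfsgLib.Involutions CfsgLib.RootInvolutions

universe u

theorem commConnected_of_card_le : ∀ (n : ℕ) (G : Type u) [Group G] [Finite G] (D : Set G),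
    Nat.card G ≤ n → Cfsg.IsNondegenerateRootInvolutionSet D → Cfsg.IsRootInvolutionClass D →
      Cfsg.IsConnectedSet (Cfsg.CommAdj D) D := by
  intro n
  induction n with
  | zero =>
    intro G _ _ D hn
    exact absurd hn (by have := Nat.card_pos (α := G); omega)
  | succ n ih =>
    intro G _ _ D hn hnd hcl
    by_contra hdis
    have hdis' : ∃ a ∈ D, ∃ b ∈ D, ¬ CR D a b := by
      by_contra hcon
      push Not at hcon
      exact hdis hcon
    have hR := hnd.1
    have hc := oddConnected hnd hcl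
    have hDD := exists_product_mem hnd
    haveI := CfsgLib.Fitting.pCore_normal (G := G) 2
    by_cases hN : Cfsg.twoZCore G = ⊥
    · -- simple case
      obtain ⟨a0, ha0, b0, hb0, hne0, ho0⟩ := hnd.2.2.1
      have hntriv : Nontrivial G := ⟨a0, b0, hne0⟩
      refine Minimal.false_of_minimal (D := D) ⟨hnd, hcl, ⟨fun M hM => ?_⟩, fun L hL E hE hEc => ?_, hdis'⟩
      · by_cases hM1 : M = ⊤
        · exact Or.inr hM1
        · exact Or.inl (eq_bot_iff.2
            ((Cfsg.Agent.S5048.normal_le_twoZCore hR hc hDD hM hM1).trans hN.le))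
      · refine ih L E ?_ hE hEc
        have h1 : Nat.card L < Nat.card G := by
          refine lt_of_le_of_ne (Subgroup.card_le_card_group L) fun e => hL ?_
          exact Subgroup.eq_top_of_card_eq L e
        omega
    -- quotient case
    set N := Cfsg.twoZCore G with hNdef
    haveI hNn : N.Normal := by rw [hNdef, Cfsg.twoZCore]; infer_instance
    have hNtop : N ≠ ⊤ := by
      obtain ⟨a0, ha0, b0, hb0, hne0, ho0⟩ := hnd.2.2.1
      exact Cfsg.Agent.S5048.twoZCore_ne_top hR (a := a0) (b := b0) ⟨ha0, hb0, hne0, ho0⟩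
    set π := QuotientGroup.mk' N with hπ
    have hker : ∀ x, π x = 1 ↔ x ∈ N := fun x => QuotientGroup.eq_one_iff x
    have hDN : ∀ a ∈ D, π a ≠ 1 := by
      intro a ha h1
      refine hNtop (eq_top_iff.2 ?_)
      rw [← hR.generates, Subgroup.closure_le]
      intro b hb
      obtain ⟨g, rfl⟩ := hcl.2.2 a ha b hb
      exact hNn.conj_mem a ((hker a).1 h1) g
    have hodd : ∀ a ∈ D, ∀ b ∈ D, a ≠ b → Odd (orderOf (a * b)) → a * b ∉ N := fun a ha b hb hne ho h1 =>
      hNtop (Cfsg.Agent.S5048.normal_eq_top_of_odd hR hc hDD ha hb hne ho h1)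
    have hord : ∀ a ∈ D, orderOf (π a) = 2 := fun a ha => by
      rcases (Nat.dvd_prime Nat.prime_two).1 (hR.orderOf_eq a ha ▸ orderOf_map_dvd π a) with h1 | h1
      · exact absurd (orderOf_eq_one_iff.1 h1) (hDN a ha)
      · exact h1
    have hfour : ∀ a ∈ D, ∀ b ∈ D, orderOf (a * b) = 4 → orderOf (π a * π b) = 4 := by
      intro a ha b hb h4
      rw [← map_mul]
      obtain ⟨hz, -, -, -, -, -⟩ := four_facts hR ha hb h4
      have : Fact (Nat.Prime 2) := ⟨Nat.prime_two⟩
      refine orderOf_eq_prime_pow (p := 2) (n := 1) ?_ ?_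
      · rw [pow_one, ← map_pow]; exact hDN _ hz
      · rw [← map_pow, show (2 : ℕ) ^ (1 + 1) = 4 by norm_num, ← h4, pow_orderOf_eq_one, map_one]
    set E := π '' D with hE
    have hRE : Cfsg.IsRootInvolutionSet E := by
      refine ⟨?_, ?_, ?_, ?_⟩
      · rintro _ ⟨a, ha, rfl⟩; exact hord a ha
      · rw [hE, ← MonoidHom.map_closure, hR.generates,
          Subgroup.map_top_of_surjective π (QuotientGroup.mk'_surjective N)]
      · rintro _ ⟨a, ha, rfl⟩ g
        obtain ⟨g, rfl⟩ := QuotientGroup.mk'_surjective N g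
        exact ⟨_, hR.conj_mem a ha g, by simp [hπ]⟩
      · rintro _ ⟨a, ha, rfl⟩ _ ⟨b, hb, rfl⟩
        rcases hR.pair a ha b hb with h1 | h1 | h1
        · exact Or.inl (by rw [← map_mul, ← map_mul, h1])
        · exact Or.inr (Or.inl (by rw [← map_mul]; exact h1.of_dvd_nat (orderOf_map_dvd π _)))
        · exact Or.inr (Or.inr ⟨hfour a ha b hb h1.1, _, h1.2, by rw [map_pow, map_mul]⟩)
    have hclE : Cfsg.IsRootInvolutionClass E := by
      refine ⟨hRE, hcl.2.1.image _, ?_⟩
      rintro _ ⟨a, ha, rfl⟩ _ ⟨b, hb, rfl⟩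
      obtain ⟨g, rfl⟩ := hcl.2.2 a ha b hb
      exact ⟨π g, by simp⟩
    have hndE : Cfsg.IsNondegenerateRootInvolutionSet E := by
      obtain ⟨-, -, ⟨a, ha, b, hb, hne, ho⟩, ⟨u, hu, v, hv, h4⟩⟩ := hnd
      obtain ⟨hz, hzu, -, e1, -, -⟩ := four_facts hR hu hv h4
      refine ⟨hRE, ⟨_, ⟨u, hu, rfl⟩, _, ⟨_, hz, rfl⟩, fun e => ?_, ?_⟩,
        ⟨_, ⟨a, ha, rfl⟩, _, ⟨b, hb, rfl⟩, fun e => ?_, ?_⟩,
        ⟨_, ⟨u, hu, rfl⟩, _, ⟨v, hv, rfl⟩, hfour u hu v hv h4⟩⟩
      · refine hDN _ (hR.conj_mem u hu v) ?_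
        rw [← e1, map_mul, ← e, ← map_mul, root_mul_self hR hu, map_one]
      · rw [← map_mul, ← map_mul, hzu.eq]
      · refine hodd a ha b hb hne ho ((hker _).1 ?_)
        rw [map_mul, ← e, ← map_mul, root_mul_self hR ha, map_one]
      · rw [← map_mul]; exact ho.of_dvd_nat (orderOf_map_dvd π _)
    have hcard : Nat.card (G ⧸ N) ≤ n := by
      have h1 := Subgroup.card_eq_card_quotient_mul_card_subgroup N
      have h2 : 1 < Nat.card N := Subgroup.one_lt_card_iff_ne_bot N |>.2 hN
      have h3 := Nat.card_pos (α := G ⧸ N)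
      have h4 : 2 * Nat.card (G ⧸ N) ≤ Nat.card G := by
        rw [h1, mul_comm]; exact Nat.mul_le_mul_left _ h2
      omega
    have hconE := ih (G ⧸ N) E hcard hndE hclE
    -- lift the paths
    have hstep : ∀ a ∈ D, ∀ b ∈ D, π a * π b = π b * π a → CR D a b := by
      intro a ha b hb hab
      rcases eq_or_ne a b with rfl | hne
      · exact Relation.ReflTransGen.refl
      refine cr_of_not_odd hR ha hb fun ho => ?_
      refine hodd a ha b hb hne ho ?_
      have h2 : (a * b) ^ 2 ∈ N := by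
        rw [← hker, map_pow, map_mul, (show Commute (π a) (π b) from hab).mul_pow, pow_two, pow_two,
          ← map_mul, ← map_mul, root_mul_self hR ha, root_mul_self hR hb, map_one, one_mul]
      obtain ⟨k, hk⟩ := RankOneInvol.exists_pow_sq_eq ho
      rw [← hk, ← (Commute.refl (a * b)).mul_pow, ← pow_two]
      exact pow_mem h2 k
    obtain ⟨a, ha, b, hb, hab⟩ := hdis'
    refine hab ?_
    have key : ∀ q, Relation.ReflTransGen (Cfsg.CommAdj E) (π a) q →
        ∀ c ∈ D, π c = q → CR D a c := by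
      intro q hq
      induction hq with
      | refl =>
        intro c hcD hce
        exact hstep a ha c hcD (by rw [hce])
      | @tail p q _ hpq ih =>
        intro c hcD hce
        obtain ⟨⟨p', hp', rfl⟩, -, -, hcomm⟩ := hpq
        exact (ih p' hp' rfl).trans (hstep p' hp' c hcD (by rw [hce]; exact hcomm))
    exact key _ (hconE _ ⟨a, ha, rfl⟩ _ ⟨b, hb, rfl⟩) b hb rfl

end CfsgLib.RootConnect
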