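import Cfsg.Agent.Lib.RootConnect.OddTransp
import Cfsg.Agent.Lib.RootConnect.Main
import Cfsg.Agent.Lib.BenderQ.Classify
import Cfsg.Agent.S5048
import Cfsg.Agent.Lib.BenderQ.Bender
import Cfsg.Agent.S1136

/-!
A set of root involutions, some product of two commuting members again a member, either has connected
commuting graph or gives a group of Bender type modulo the preimage of the centre of `G / O₂(G)`;
this uses Aschbacher's criterion for strong embedding and Bender's classification, taken as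
propositions.
-/

set_option autoImplicit false

namespace CfsgLib.RootConnect

open CfsgLib.Involutions CfsgLib.RootInvolutions CfsgLib.BenderQ

universe u

/-- Aschbacher's criterion for strong embedding, as a proposition. -/
def StrongCriterion : Prop :=
  ∀ (G : Type u) [Group G] [Finite G] [IsSimpleGroup G] (M : Subgroup G), M ≠ ⊤ → ∀ z : G,
    orderOf z = 2 → z ∈ M → (∃ S : Sylow 2 G, z ∈ S ∧ ∀ s ∈ S, Commute s z) →
    (∀ g : G, g * z * g⁻¹ ∈ M → g ∈ M) →
    (∀ g : G, Commute z (g * z * g⁻¹) → g * z * g⁻¹ ≠ z →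
      Subgroup.centralizer ({z * (g * z * g⁻¹)} : Set G) ≤ M) →
    ∃ H : Subgroup G, Cfsg.IsStronglyEmbedded H

variable {G : Type u} [Group G] [Finite G] {D : Set G}

omit [Finite G] in
/-- If the commuting graph is disconnected the graph of odd products is connected. -/
theorem oddConnected_of_disconnected (hR : Cfsg.IsRootInvolutionSet D) {a b : G} (ha : a ∈ D)
    (hb : b ∈ D) (hab : ¬ CR D a b) : Cfsg.IsConnectedSet (Cfsg.OddAdj D) D := by
  intro x hx y hy
  by_contra hxy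
  have key : ∀ {p q : G}, p ∈ D → q ∈ D → ¬ Relation.ReflTransGen (Cfsg.OddAdj D) p q → CR D p q := by
    intro p q hp hq hn
    refine cr_of_not_odd hR hp hq fun ho => hn ?_
    rcases eq_or_ne p q with rfl | hne
    · exact Relation.ReflTransGen.refl
    · exact Relation.ReflTransGen.single ⟨hp, hq, hne, ho⟩
  have hsymm : ∀ {p q : G}, Relation.ReflTransGen (Cfsg.OddAdj D) p q →
      Relation.ReflTransGen (Cfsg.OddAdj D) q p := fun {p q} e => reach_symm hR e
  have all : ∀ {p : G}, p ∈ D → CR D x p := by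
    intro p hp
    by_cases hxp : Relation.ReflTransGen (Cfsg.OddAdj D) x p
    · exact (key hx hy hxy).trans (key hy hp fun e => hxy (hxp.trans (hsymm e)))
    · exact key hx hp hxp
  exact hab ((cr_symm (all ha)).trans (all hb))

/-- In the disconnected case the quotient modulo `twoZCore` is simple with a strongly embedded
subgroup, and commuting images come from commuting members. -/
theorem exists_embedded_of_disconnected (hA : StrongCriterion.{u}) (hR : Cfsg.IsRootInvolutionSet D)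
    (hDD : (D ∩ Cfsg.commutingProducts D).Nonempty) {a b : G} (ha : a ∈ D) (hb : b ∈ D)
    (hab : ¬ CR D a b) : IsSimpleGroup (G ⧸ Cfsg.twoZCore G) ∧
      (∃ H : Subgroup (G ⧸ Cfsg.twoZCore G), Cfsg.IsStronglyEmbedded H) ∧
      (∃ u v : G ⧸ Cfsg.twoZCore G, u * v ≠ v * u) ∧
      (∀ x ∈ D, ∀ y ∈ D, Commute (QuotientGroup.mk' (Cfsg.twoZCore G) x)
        (QuotientGroup.mk' (Cfsg.twoZCore G) y) → Commute x y) ∧
      ∀ x ∈ D, QuotientGroup.mk' (Cfsg.twoZCore G) x ≠ 1 := by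
  have hc := oddConnected_of_disconnected hR ha hb hab
  have hcl : Cfsg.IsRootInvolutionClass D :=
    ⟨hR, ⟨a, ha⟩, fun x hx y hy => by
      obtain ⟨g, hg⟩ := isConj_of_connected hR hc hx hy
      exact ⟨g, hg.symm⟩⟩
  obtain ⟨w, hwD, a0, ha0, b0, hb0, hcomm, hab1, hw⟩ := id hDD
  have hne0 : a0 ≠ b0 := fun e => hab1 (e ▸ root_mul_self hR ha0)
  have hedge : Cfsg.OddAdj D a b :=
    ⟨ha, hb, fun e => hab (e ▸ Relation.ReflTransGen.refl), odd_of_not_cr hR ha hb hab⟩
  have hno : ∀ x ∈ D, ∀ y ∈ D, orderOf (x * y) ≠ 4 := fun x hx y hy h4 =>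
    hab (commConnected_of_card_le (Nat.card G) G D le_rfl
      ⟨hR, ⟨a0, ha0, b0, hb0, hne0, hcomm⟩, ⟨a, ha, b, hb, hedge.2.2.1, hedge.2.2.2⟩, x, hx, y, hy, h4⟩
      hcl a ha b hb)
  set N := Cfsg.twoZCore G with hN
  have hNtop : N ≠ ⊤ := Cfsg.Agent.S5048.twoZCore_ne_top hR hedge
  have hsimple : IsSimpleGroup (G ⧸ N) := (Cfsg.Agent.S5048.result hR hc hDD).2
  set π := QuotientGroup.mk' N with hπ
  have hker : ∀ x, π x = 1 ↔ x ∈ N := fun x => QuotientGroup.eq_one_iff x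
  have hDN : ∀ x ∈ D, π x ≠ 1 := by
    intro x hx h1
    refine hNtop (eq_top_iff.2 ?_)
    rw [← hR.generates, Subgroup.closure_le]
    intro y hy
    obtain ⟨g, rfl⟩ := hcl.2.2 x hx y hy
    exact (Cfsg.twoZCore_normal G).conj_mem x ((hker x).1 h1) g
  have hord : ∀ x ∈ D, orderOf (π x) = 2 := fun x hx => by
    rcases (Nat.dvd_prime Nat.prime_two).1 (hR.orderOf_eq x hx ▸ orderOf_map_dvd π x) with h1 | h1
    · exact absurd (orderOf_eq_one_iff.1 h1) (hDN x hx)
    · exact h1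
  -- commuting images come from commuting members
  have hlift : ∀ x ∈ D, ∀ y ∈ D, Commute (π x) (π y) → Commute x y := by
    intro x hx y hy hxy
    rcases hR.pair x hx y hy with h1 | h1 | h1
    · exact h1
    · by_contra hne
      have hne' : x ≠ y := fun e => hne (e ▸ Commute.refl x)
      refine hNtop (Cfsg.Agent.S5048.normal_eq_top_of_odd hR hc hDD hx hy hne' h1 ((hker _).1 ?_))
      have h2 : π (x * y) ^ 2 = 1 := by
        rw [map_mul, hxy.mul_pow, pow_two, pow_two, ← map_mul, ← map_mul, root_mul_self hR hx,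
          root_mul_self hR hy, map_one, one_mul]
      have h3 : orderOf (π (x * y)) ∣ 1 := by
        have e1 : orderOf (π (x * y)) ∣ 2 := orderOf_dvd_of_pow_eq_one h2
        rcases (Nat.dvd_prime Nat.prime_two).1 e1 with e | e
        · rw [e]
        · have e2 := h1.of_dvd_nat (orderOf_map_dvd π (x * y))
          rw [e] at e2
          exact absurd e2 (by decide)
      exact orderOf_eq_one_iff.1 (Nat.dvd_one.1 h3)
    · exact absurd h1.1 (hno x hx y hy)
  set E := π '' D with hE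
  have hER : Cfsg.IsRootInvolutionSet E := by
    refine ⟨?_, ?_, ?_, ?_⟩
    · rintro _ ⟨x, hx, rfl⟩; exact hord x hx
    · rw [hE, ← MonoidHom.map_closure, hR.generates,
        Subgroup.map_top_of_surjective π (QuotientGroup.mk'_surjective N)]
    · rintro _ ⟨x, hx, rfl⟩ g
      obtain ⟨g, rfl⟩ := QuotientGroup.mk'_surjective N g
      exact ⟨_, hR.conj_mem x hx g, by simp [hπ]⟩
    · rintro _ ⟨x, hx, rfl⟩ _ ⟨y, hy, rfl⟩
      rcases hR.pair x hx y hy with h1 | h1 | h1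
      · exact Or.inl (by rw [← map_mul, h1, map_mul])
      · exact Or.inr (Or.inl (by rw [← map_mul]; exact h1.of_dvd_nat (orderOf_map_dvd π _)))
      · exact absurd h1.1 (hno x hx y hy)
  have hnoE : ∀ x ∈ E, ∀ y ∈ E, orderOf (x * y) ≠ 4 := by
    rintro _ ⟨x, hx, rfl⟩ _ ⟨y, hy, rfl⟩ h4
    have h5 : (4 : ℕ) ∣ orderOf (x * y) := by
      rw [← h4, ← map_mul]; exact orderOf_map_dvd π _
    rcases hR.pair x hx y hy with h1 | h1 | h1
    · have h6 : (x * y) ^ 2 = 1 := by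
        rw [(show Commute x y from h1).mul_pow, pow_two, pow_two, root_mul_self hR hx,
          root_mul_self hR hy, one_mul]
      exact absurd (Nat.le_of_dvd two_pos (h5.trans (orderOf_dvd_of_pow_eq_one h6))) (by norm_num)
    · exact absurd (h1.of_dvd_nat h5) (by decide)
    · exact hno x hx y hy h1.1
  have hlift' : ∀ {u v : G ⧸ N}, CR E u v → ∀ x ∈ D, π x = u → ∀ y ∈ D, π y = v → CR D x y := by
    intro u v huv
    induction huv with
    | refl =>
      intro x hx hxu y hy hyv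
      exact cr_of_commute hx hy (hlift x hx y hy (by rw [hxu, hyv]))
    | tail _ hst ih =>
      intro x hx hxu y hy hyv
      obtain ⟨z, hz, hzs⟩ := hst.1
      refine (ih x hx hxu z hz hzs).trans (cr_of_commute hz hy (hlift z hz y hy ?_))
      rw [hzs, hyv]
      exact hst.2.2.2
  have hsplit : Split E := by
    refine ⟨hER, ⟨hER, ⟨_, a, ha, rfl⟩, ?_⟩, hsimple, _, ⟨a, ha, rfl⟩, _, ⟨b, hb, rfl⟩,
      fun e => hab (hlift' e a ha rfl b hb rfl)⟩
    rintro _ ⟨x, hx, rfl⟩ _ ⟨y, hy, rfl⟩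
    obtain ⟨g, rfl⟩ := hcl.2.2 x hx y hy
    exact ⟨π g, by simp [hπ]⟩
  obtain ⟨M, d, hM, hd2, hdM, hS, h2, h3⟩ := hsplit.exists_criterion hnoE
  obtain ⟨H, hH⟩ := hA (G ⧸ N) M hM d hd2 hdM hS h2 h3
  refine ⟨hsimple, ⟨H, hH⟩, ⟨π a, π b, fun e => ?_⟩, hlift, hDN⟩
  exact odd_not_commute hR ha hb hedge.2.2.1.symm hedge.2.2.2 (hlift a ha b hb e).eq

/-- The disconnected case. -/
theorem isBenderType_of_disconnected (hB : BenderKernel.{u}) (hK : RankOneClass.{u})
    (hA : StrongCriterion.{u}) (hR : Cfsg.IsRootInvolutionSet D)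
    (hDD : (D ∩ Cfsg.commutingProducts D).Nonempty) {a b : G} (ha : a ∈ D) (hb : b ∈ D)
    (hab : ¬ CR D a b) : IsBenderType (G ⧸ Cfsg.twoZCore G) := by
  obtain ⟨hs, ⟨H, hH⟩, hna, -, -⟩ := exists_embedded_of_disconnected hA hR hDD ha hb hab
  exact simple_isBenderType hB hK hna hH

/-- The dichotomy in the form of the list. -/
theorem dichotomy (hB : BenderKernel.{u}) (hK : RankOneClass.{u}) (hA : StrongCriterion.{u})
    (hR : Cfsg.IsRootInvolutionSet D) (hDD : (D ∩ Cfsg.commutingProducts D).Nonempty) :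
    Cfsg.IsConnectedSet (Cfsg.CommAdj D) D ∨
    (∃ (F : Type) (_ : Field F) (_ : Fintype F), CharP F 2 ∧ 4 ≤ Fintype.card F ∧
      Nonempty (G ⧸ Cfsg.twoZCore G ≃* Matrix.ProjectiveSpecialLinearGroup (Fin 2) F)) ∨
    Cfsg.Lie.IsoSuzuki (G ⧸ Cfsg.twoZCore G) ∨
    (∃ (F : Type) (_ : Field F) (_ : Fintype F) (q : ℕ), CharP F 2 ∧ Fintype.card F = q ^ 2 ∧ 4 ≤ q ∧
      Nonempty (G ⧸ Cfsg.twoZCore G ≃* Cfsg.PSU 3 F q)) := by
  by_cases hcon : Cfsg.IsConnectedSet (Cfsg.CommAdj D) D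
  · exact Or.inl hcon
  simp only [Cfsg.IsConnectedSet, not_forall] at hcon
  obtain ⟨a, ha, b, hb, hab⟩ := hcon
  have : Fact (Nat.Prime 2) := ⟨Nat.prime_two⟩
  rcases isBenderType_of_disconnected hB hK hA hR hDD ha hb hab with
    ⟨F, i1, i2, ⟨n, hn, hF⟩, hf⟩ | h | ⟨F, i1, i2, n, hn, hF, hf⟩
  · have h4 : 2 ^ 2 ≤ 2 ^ n := Nat.pow_le_pow_right (by norm_num) hn
    exact Or.inr (Or.inl ⟨F, i1, i2, charP_of_card_eq_prime_pow hF, by omega, hf⟩)
  · exact Or.inr (Or.inr (Or.inl h))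
  · have h4 : 2 ^ 2 ≤ 2 ^ n := Nat.pow_le_pow_right (by norm_num) hn
    refine Or.inr (Or.inr (Or.inr ⟨F, i1, i2, 2 ^ n, ?_, hF, by omega, hf⟩))
    exact charP_of_card_eq_prime_pow (f := n * 2) (by rw [hF, ← pow_mul])

/-- The dichotomy from Aschbacher's criterion alone. -/
theorem dichotomy_of_criterion (hA : StrongCriterion.{u}) (hR : Cfsg.IsRootInvolutionSet D)
    (hDD : (D ∩ Cfsg.commutingProducts D).Nonempty) :
    Cfsg.IsConnectedSet (Cfsg.CommAdj D) D ∨
    (∃ (F : Type) (_ : Field F) (_ : Fintype F), CharP F 2 ∧ 4 ≤ Fintype.card F ∧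
      Nonempty (G ⧸ Cfsg.twoZCore G ≃* Matrix.ProjectiveSpecialLinearGroup (Fin 2) F)) ∨
    Cfsg.Lie.IsoSuzuki (G ⧸ Cfsg.twoZCore G) ∨
    (∃ (F : Type) (_ : Field F) (_ : Fintype F) (q : ℕ), CharP F 2 ∧ Fintype.card F = q ^ 2 ∧ 4 ≤ q ∧
      Nonempty (G ⧸ Cfsg.twoZCore G ≃* Cfsg.PSU 3 F q)) :=
  dichotomy benderKernel
    (fun _ _ _ _ _ _ _ _ _ hS h2 => Cfsg.Agent.S1136.result hS h2) hA hR hDD

end CfsgLib.RootConnect
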