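import Cfsg.Agent.Lib.RootConnect.Dichotomy
import Cfsg.Agent.Lib.Solvable.Fitting
import Cfsg.Agent.Lib.Involutions.Basic

/-!
A group without normal 2-subgroup generated by a set of commuting odd transpositions with the same
commuting members and one further member: it is dihedral, or the commuting graph is disconnected
and some product of two commuting members is again a member.
-/

set_option autoImplicit false

namespace CfsgLib.RootConnect

open CfsgLib.Involutions CfsgLib.RootInvolutions

universe u

variable {G : Type u} [Group G] {F : Set G}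

/-- A member commuting with the product of two commuting members commutes with each. -/
theorem commute_of_commute_mul [Finite G] (hR : Cfsg.IsRootInvolutionSet F)
    (hno : ∀ a ∈ F, ∀ b ∈ F, orderOf (a * b) ≠ 4) {a b f : G} (ha : a ∈ F) (hb : b ∈ F)
    (hab : Commute a b) (hne : a ≠ b) (hf : f ∈ F) (h : Commute f (a * b)) : Commute f a := by
  have haa := root_mul_self hR ha
  have hbb := root_mul_self hR hb
  rcases hR.pair f hf a ha with h1 | ho | h1
  · exact h1
  swap
  · exact absurd h1.1 (hno f hf a ha)
  have hfb : f * b = f * a * (a * b) := by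
    rw [mul_assoc, ← mul_assoc a a b, haa, one_mul]
  have hua : Commute a (a * b) := (Commute.refl a).mul_right hab
  have hfu : Commute (f * a) (a * b) := h.mul_left hua
  have hu2 : (a * b) ^ 2 = 1 := by rw [hab.mul_pow, pow_two, pow_two, haa, hbb, one_mul]
  rcases hR.pair f hf b hb with h1 | ho' | h1
  · have e : f * a = f * b * (a * b) := by
      rw [hfb, mul_assoc, ← pow_two, hu2, mul_one]
    have h2 : (f * a) ^ 2 = 1 := by
      have hc : Commute (f * b) (a * b) := h.mul_left (hab.symm.mul_right (Commute.refl b))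
      rw [e, hc.mul_pow, (show Commute f b from h1).mul_pow, hu2, pow_two, pow_two,
        root_mul_self hR hf, hbb, one_mul, one_mul]
    have h3 : f * a = 1 := by
      refine odd_four ?_ ho
      rw [show (4 : ℕ) = 2 * 2 from rfl, pow_mul, h2, one_pow]
    rw [eq_of_mul_eq_one hR hf h3]
  · exfalso
    obtain ⟨k, hk⟩ := ho'
    have hp := pow_orderOf_eq_one (f * b)
    rw [hk, hfb, hfu.mul_pow, pow_succ (a * b), pow_mul (a * b), hu2, one_pow, one_mul] at hp
    have h2 : Odd (orderOf (a * b)) := by
      rw [eq_inv_of_mul_eq_one_right hp, orderOf_inv]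
      exact ho.of_dvd_nat (orderOf_pow_dvd _)
    exact hne (eq_of_mul_eq_one hR ha (odd_four (by
      rw [show (4 : ℕ) = 2 * 2 from rfl, pow_mul, hu2, one_pow]) h2)).symm
  · exact absurd h1.1 (hno f hf b hb)

/-- Commuting members with product a member have the same commuting members. -/
theorem commute_of_line [Finite G] (hR : Cfsg.IsRootInvolutionSet F)
    (hno : ∀ a ∈ F, ∀ b ∈ F, orderOf (a * b) ≠ 4) {a b f : G} (ha : a ∈ F) (hb : b ∈ F)
    (hab : Commute a b) (habF : a * b ∈ F) (hf : f ∈ F) (h : Commute f a) : Commute f b := by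
  have haa := root_mul_self hR ha
  rcases hR.pair f hf b hb with h1 | ho | h1
  · exact h1
  swap
  · exact absurd h1.1 (hno f hf b hb)
  have e : f * (a * b) = f * b * a := by rw [hab.eq, mul_assoc]
  have hc : Commute (f * b) a := h.mul_left hab.symm
  rcases hR.pair f hf _ habF with h1 | ho' | h1
  · have h2 : Commute f (a * (a * b)) := h.mul_right h1
    rwa [← mul_assoc, haa, one_mul] at h2
  · exfalso
    obtain ⟨k, hk⟩ := ho'
    have hp := pow_orderOf_eq_one (f * (a * b))
    rw [hk, e, hc.mul_pow, pow_succ a, pow_mul a, pow_two, haa, one_pow, one_mul] at hp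
    have h2 : Odd (orderOf a) := by
      rw [eq_inv_of_mul_eq_one_right hp, orderOf_inv]
      exact ho.of_dvd_nat (orderOf_pow_dvd _)
    rw [hR.orderOf_eq a ha] at h2
    exact absurd h2 (by decide)
  · exact absurd h1.1 (hno f hf _ habF)

/-- Two members with product of odd order have a middle, fixed by whatever interchanges them. -/
theorem exists_middle (hR : Cfsg.IsRootInvolutionSet F) {a b : G} (ha : a ∈ F) (hb : b ∈ F)
    (ho : Odd (orderOf (a * b))) :
    ∃ m ∈ F, m * a * m = b ∧ ∀ g : G, g * a * g⁻¹ = b → g * b * g⁻¹ = a → g * m * g⁻¹ = m := by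
  obtain ⟨k, hk⟩ := ho
  have ha2 := hR.orderOf_eq a ha
  have hb2 := hR.orderOf_eq b hb
  have haa := root_mul_self hR ha
  have hbb := root_mul_self hR hb
  have hper : ∀ n : ℤ, (a * b) ^ (n * (2 * (k : ℤ) + 1)) = 1 := fun n => by
    rw [mul_comm, zpow_mul, show (2 * (k : ℤ) + 1) = ((orderOf (a * b) : ℕ) : ℤ) by
      rw [hk]; push_cast; ring, zpow_natCast, pow_orderOf_eq_one, one_zpow]
  refine ⟨(a * b) ^ (k : ℤ) * a, ?_, ?_, fun g h1 h2 => ?_⟩
  · have h1 := conj_by_zpow ha2 hb2 ((k : ℤ) * (k + 1)) 0
    rw [zpow_zero, one_mul, add_zero] at h1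
    have h2 : (a * b) ^ (2 * ((k : ℤ) * (k + 1))) = (a * b) ^ (k : ℤ) := by
      rw [show 2 * ((k : ℤ) * (k + 1)) = (k : ℤ) + (k : ℤ) * (2 * k + 1) by ring, zpow_add, hper,
        mul_one]
    rw [h2] at h1
    rw [← h1]
    exact hR.conj_mem a ha _
  · calc (a * b) ^ (k : ℤ) * a * a * ((a * b) ^ (k : ℤ) * a)
        = (a * b) ^ (k : ℤ) * ((a * b) ^ (k : ℤ)) * a := by
          rw [mul_assoc _ a a, haa, mul_one, ← mul_assoc]
      _ = (a * b) ^ (-1 : ℤ) * a := by
          rw [← zpow_add, show (k : ℤ) + k = -1 + 1 * (2 * k + 1) by ring, zpow_add, hper, mul_one]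
      _ = b := by
          rw [zpow_neg_one, mul_inv_rev, root_inv hR ha, root_inv hR hb, mul_assoc, haa, mul_one]
  · calc g * ((a * b) ^ (k : ℤ) * a) * g⁻¹
        = (g * (a * b) * g⁻¹) ^ (k : ℤ) * (g * a * g⁻¹) := by rw [conj_zpow]; group
      _ = (b * a) ^ (k : ℤ) * b := by
          rw [show g * (a * b) * g⁻¹ = g * a * g⁻¹ * (g * b * g⁻¹) by group, h1, h2]
      _ = (a * b) ^ (-(k : ℤ)) * ((a * b)⁻¹ * a) := by
          rw [zpow_neg, ← inv_zpow, mul_inv_rev, root_inv hR ha, root_inv hR hb, mul_assoc b a a,
            haa, mul_one]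
      _ = (a * b) ^ (k : ℤ) * a := by
          rw [← mul_assoc, ← zpow_neg_one, ← zpow_add]
          congr 1
          rw [show -(k : ℤ) + -1 = (k : ℤ) + (-1) * (2 * k + 1) by ring, zpow_add, hper, mul_one]

/-- Pairwise commuting involutions generate a 2-group. -/
theorem isPGroup_closure_of_commute {S : Set G} (h2 : ∀ s ∈ S, s * s = 1)
    (hc : ∀ s ∈ S, ∀ t ∈ S, Commute s t) : IsPGroup 2 (Subgroup.closure S) := by
  have hle : Subgroup.closure S ≤ Subgroup.centralizer (Subgroup.closure S : Set G) := by
    rw [Subgroup.centralizer_closure, Subgroup.closure_le]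
    exact fun s hs => Subgroup.mem_centralizer_iff.2 fun t ht => (hc t ht s hs).eq
  intro g
  refine ⟨1, Subtype.ext ?_⟩
  show (g : G) ^ (2 ^ 1) = 1
  rw [pow_one, pow_two]
  obtain ⟨g, hg⟩ := g
  show g * g = 1
  induction hg using Subgroup.closure_induction with
  | mem x hx => exact h2 x hx
  | one => exact one_mul 1
  | mul x y hx hy ihx ihy =>
    have hxy : y * x = x * y := Subgroup.mem_centralizer_iff.1 (hle hx) y hy
    rw [show x * y * (x * y) = x * (y * x) * y by group, hxy,
      show x * (x * y) * y = x * x * (y * y) by group, ihx, ihy, one_mul]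
  | inv x _ ih => rw [← mul_inv_rev, ih, inv_one]

/-- The setting: generation by commuting members with the same commuting members and one more. -/
structure OddPair (F T : Set G) (t₀ x : G) : Prop where
  root : Cfsg.IsRootInvolutionSet F
  noFour : ∀ a ∈ F, ∀ b ∈ F, orderOf (a * b) ≠ 4
  core : Cfsg.pCore 2 G = ⊥
  mem₀ : t₀ ∈ F
  mem : x ∈ F
  ncomm : ¬ Commute x t₀
  twins : T = {t | t ∈ F ∧ ∀ f ∈ F, (Commute f t ↔ Commute f t₀)}
  gen : Subgroup.closure (T ∪ {x}) = ⊤

namespace OddPair

variable {T : Set G} {t₀ x : G} (h : OddPair F T t₀ x)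
include h

theorem mem_iff {t : G} : t ∈ T ↔ t ∈ F ∧ ∀ f ∈ F, (Commute f t ↔ Commute f t₀) := by
  rw [h.twins, Set.mem_setOf_eq]

theorem mem_base : t₀ ∈ T := h.mem_iff.2 ⟨h.mem₀, fun _ _ => Iff.rfl⟩

theorem commute_T {s t : G} (hs : s ∈ T) (ht : t ∈ T) : Commute s t := by
  obtain ⟨hsF, hs'⟩ := h.mem_iff.1 hs
  obtain ⟨htF, ht'⟩ := h.mem_iff.1 ht
  exact (ht' s hsF).2 ((hs' s hsF).1 (Commute.refl s))

theorem commute_all {f s t : G} (hf : f ∈ F) (hs : s ∈ T) (ht : t ∈ T) (hc : Commute f s) :
    Commute f t :=
  ((h.mem_iff.1 ht).2 f hf).2 (((h.mem_iff.1 hs).2 f hf).1 hc)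

theorem ncomm_T {t : G} (ht : t ∈ T) : ¬ Commute x t := fun e =>
  h.ncomm (h.commute_all h.mem ht h.mem_base e)

variable [Finite G]

/-- An involution commuting with all generators is trivial. -/
theorem eq_one_of_central {z : G} (hz : z * z = 1) (hT : ∀ t ∈ T, Commute z t) (hx : Commute z x) :
    z = 1 := by
  have hc : z ∈ Subgroup.center G := by
    rw [Subgroup.mem_center_iff]
    intro g
    have hle : Subgroup.closure (T ∪ {x}) ≤ Subgroup.centralizer ({z} : Set G) := by
      rw [Subgroup.closure_le]
      rintro y (hy | hy)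
      · exact Subgroup.mem_centralizer_singleton_iff.2 (hT y hy).symm.eq
      · rw [Set.mem_singleton_iff.1 hy]
        exact Subgroup.mem_centralizer_singleton_iff.2 hx.symm.eq
    exact Subgroup.mem_centralizer_singleton_iff.1 (hle (h.gen ▸ Subgroup.mem_top g))
  have hn : (Subgroup.zpowers z).Normal := ⟨fun n hn g => by
    obtain ⟨i, rfl⟩ := Subgroup.mem_zpowers_iff.1 hn
    rw [Subgroup.mem_center_iff.1 ((Subgroup.center G).zpow_mem hc i) g, mul_inv_cancel_right]
    exact ⟨i, rfl⟩⟩
  have hp : IsPGroup 2 (Subgroup.zpowers z) := by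
    rw [Subgroup.zpowers_eq_closure]
    refine isPGroup_closure_of_commute ?_ ?_ <;> simp [hz]
  have h1 := CfsgLib.Fitting.le_pCore hn hp (Subgroup.mem_zpowers z)
  rwa [h.core, Subgroup.mem_bot] at h1

/-- Two members of `T` have product in `T`, or conjugation by it moves `x` to a commuting member. -/
theorem pair_cases {s t : G} (hs : s ∈ T) (ht : t ∈ T) (hne : s ≠ t) :
    s * t ∈ T ∨ Commute (s * t * x * (s * t)) x := by
  have hsF := (h.mem_iff.1 hs).1
  have htF := (h.mem_iff.1 ht).1
  have hst := h.commute_T hs ht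
  set u := s * t with hu
  have huu : u * u = 1 := by
    rw [hu, ← pow_two, hst.mul_pow, pow_two, pow_two, root_mul_self h.root hsF,
      root_mul_self h.root htF, one_mul]
  have hui : u⁻¹ = u := inv_eq_of_mul_eq_one_right huu
  have hx' : u * x * u ∈ F := by
    have := h.root.conj_mem x h.mem u; rwa [hui] at this
  rcases h.root.pair _ hx' x h.mem with h1 | ho | h1
  · exact Or.inr h1
  swap
  · exact absurd h1.1 (h.noFour _ hx' x h.mem)
  obtain ⟨c, hcF, hcx, hcu⟩ := exists_middle h.root h.mem hx'
    ((odd_comm h.root hx' h.mem).1 ho)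
  have hcu' : Commute c u := by
    have h2 := hcu u (by rw [hui]) (by
      rw [hui]; calc u * (u * x * u) * u = (u * u) * x * (u * u) := by group
        _ = x := by rw [huu, one_mul, mul_one])
    show c * u = u * c
    conv_lhs => rw [← h2]
    rw [inv_mul_cancel_right]
  have hcs : Commute c s := commute_of_commute_mul h.root h.noFour hsF htF hst hne hcF hcu'
  have hcc := root_mul_self h.root hcF
  have hz2 : u * c * (u * c) = 1 := by
    rw [← pow_two, hcu'.symm.mul_pow, pow_two, pow_two, huu, hcc, one_mul]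
  have hzT : ∀ r ∈ T, Commute (u * c) r := fun r hr =>
    ((h.commute_T hs hr).mul_left (h.commute_T ht hr)).mul_left (h.commute_all hcF hs hr hcs)
  have hzx : Commute (u * c) x := by
    show u * c * x = x * (u * c)
    calc u * c * x = u * (c * x * c) * c := by
          rw [mul_assoc u (c * x * c) c, mul_assoc (c * x) c c, hcc, mul_one, mul_assoc]
      _ = x * (u * c) := by
          rw [hcx, show u * (u * x * u) * c = u * u * (x * (u * c)) by group, huu, one_mul]
  have h1 := h.eq_one_of_central hz2 hzT hzx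
  have hcu2 : c = u := by
    calc c = u * u * c := by rw [huu, one_mul]
      _ = u * (u * c) := by group
      _ = u := by rw [h1, mul_one]
  have huF : u ∈ F := hcu2 ▸ hcF
  refine Or.inl (h.mem_iff.2 ⟨huF, fun f hf => ⟨fun hfu => ?_, fun hf0 => ?_⟩⟩)
  · exact ((h.mem_iff.1 hs).2 f hf).1 (commute_of_commute_mul h.root h.noFour hsF htF hst hne hf hfu)
  · exact (((h.mem_iff.1 hs).2 f hf).2 hf0).mul_right (((h.mem_iff.1 ht).2 f hf).2 hf0)

/-- With a product in `T` the members commuting with `t₀` are those of `T`. -/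
theorem commuting_eq {s t : G} (hs : s ∈ T) (ht : t ∈ T) (hne : s ≠ t) (hst : s * t ∈ T) {b : G}
    (hb : b ∈ F) (hb0 : Commute b t₀) : b ∈ T := by
  by_contra hbT
  have hbb := root_mul_self h.root hb
  have key : ∀ r ∈ T, Commute (b * x * b) (r * x * r) := by
    intro r hr
    have hrF := (h.mem_iff.1 hr).1
    have hrr := root_mul_self h.root hrF
    have hrb : Commute r b := (h.commute_all hb h.mem_base hr hb0).symm
    set u := r * b with hu
    have huu : u * u = 1 := by rw [hu, ← pow_two, hrb.mul_pow, pow_two, pow_two, hrr, hbb, one_mul]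
    have hui : u⁻¹ = u := inv_eq_of_mul_eq_one_right huu
    have hrne : r ≠ b := fun e => hbT (e ▸ hr)
    have hx' : u * x * u ∈ F := by
      have := h.root.conj_mem x h.mem u; rwa [hui] at this
    have hc : Commute (u * x * u) x := by
      rcases h.root.pair _ hx' x h.mem with h1 | ho | h1
      · exact h1
      swap
      · exact absurd h1.1 (h.noFour _ hx' x h.mem)
      exfalso
      obtain ⟨c, hcF, hcx, hcu⟩ := exists_middle h.root h.mem hx'
        ((odd_comm h.root hx' h.mem).1 ho)
      have hcu' : Commute c u := by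
        have h2 := hcu u (by rw [hui]) (by
          rw [hui]; calc u * (u * x * u) * u = (u * u) * x * (u * u) := by group
            _ = x := by rw [huu, one_mul, mul_one])
        show c * u = u * c
        conv_lhs => rw [← h2]
        rw [inv_mul_cancel_right]
      have hcr : Commute c r := commute_of_commute_mul h.root h.noFour hrF hb hrb hrne hcF hcu'
      have hcc := root_mul_self h.root hcF
      have hz2 : u * c * (u * c) = 1 := by
        rw [← pow_two, hcu'.symm.mul_pow, pow_two, pow_two, huu, hcc, one_mul]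
      have hzT : ∀ r' ∈ T, Commute (u * c) r' := fun r' hr' =>
        ((h.commute_T hr hr').mul_left (h.commute_all hb h.mem_base hr' hb0)).mul_left
          (h.commute_all hcF hr hr' hcr)
      have hzx : Commute (u * c) x := by
        show u * c * x = x * (u * c)
        calc u * c * x = u * (c * x * c) * c := by
              rw [mul_assoc u (c * x * c) c, mul_assoc (c * x) c c, hcc, mul_one, mul_assoc]
          _ = x * (u * c) := by
              rw [hcx, show u * (u * x * u) * c = u * u * (x * (u * c)) by group, huu, one_mul]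
      have h1 := h.eq_one_of_central hz2 hzT hzx
      have huF : r * b ∈ F := by
        have : c = u := by
          calc c = u * u * c := by rw [huu, one_mul]
            _ = u * (u * c) := by group
            _ = u := by rw [h1, mul_one]
        rw [this] at hcF
        exact hcF
      refine hbT (h.mem_iff.2 ⟨hb, fun f hf => ⟨fun hfb => ?_, fun hf0 => ?_⟩⟩)
      · exact ((h.mem_iff.1 hr).2 f hf).1 (commute_of_line h.root h.noFour hb hrF hrb.symm
          (hrb.eq ▸ huF) hf hfb)
      · exact commute_of_line h.root h.noFour hrF hb hrb huF hf (((h.mem_iff.1 hr).2 f hf).2 hf0)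
    -- conjugate by `r`
    show b * x * b * (r * x * r) = r * x * r * (b * x * b)
    have e1 : b * x * b = r * (u * x * u) * r := by
      rw [hu]
      calc b * x * b = (r * r) * b * x * b * (r * r) := by rw [hrr, one_mul, mul_one]
        _ = r * (r * b * x * (b * r)) * r := by group
        _ = r * (r * b * x * (r * b)) * r := by rw [hrb.eq]
    rw [e1]
    calc r * (u * x * u) * r * (r * x * r) = r * (u * x * u) * (r * r) * x * r := by group
      _ = r * (x * (u * x * u)) * r := by rw [hrr, mul_one, ← hc.eq]; group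
      _ = r * x * (r * r) * (u * x * u) * r := by rw [hrr, mul_one]; group
      _ = r * x * r * (r * (u * x * u) * r) := by group
  set y := b * x * b with hy
  have hyF : y ∈ F := by
    have := h.root.conj_mem x h.mem b; rwa [root_inv h.root hb] at this
  -- `y` commutes with the middle of `s x s` and `t x t`
  set m := s * t with hm
  have hmF := (h.mem_iff.1 hst).1
  have hsF := (h.mem_iff.1 hs).1
  have hss := root_mul_self h.root hsF
  have htt := root_mul_self h.root (h.mem_iff.1 ht).1
  have hmm := root_mul_self h.root hmF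
  set a := s * x * s with ha
  have haF : a ∈ F := by
    have := h.root.conj_mem x h.mem s; rwa [root_inv h.root hsF] at this
  have hsm : Commute s m := h.commute_T hs hst
  have hma : m * a * m = t * x * t := by
    calc m * a * m = (m * s) * x * (s * m) := by rw [ha]; group
      _ = t * x * t := by
          rw [← hsm.eq, hm, ← mul_assoc s s t, hss, one_mul]
  have hy1 : Commute y a := key s hs
  have hy2 : Commute y (m * a * m) := hma ▸ key t ht
  have hodd : Odd (orderOf (m * a)) := by
    rcases h.root.pair m hmF a haF with h1 | h1 | h1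
    · exfalso
      refine h.ncomm_T hst ?_
      show x * m = m * x
      calc x * m = s * a * s * m := by
            rw [ha, show s * (s * x * s) * s = (s * s) * x * (s * s) by group, hss, one_mul, mul_one]
        _ = s * (a * m) * s := by rw [mul_assoc _ s m, hsm.eq]; group
        _ = s * (m * a) * s := by rw [show a * m = m * a from h1.symm]
        _ = m * (s * a * s) := by rw [← mul_assoc s m a, hsm.eq]; group
        _ = m * x := by
            rw [ha, show s * (s * x * s) * s = (s * s) * x * (s * s) by group, hss, one_mul, mul_one]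
    · exact h1
    · exact absurd h1.1 (h.noFour m hmF a haF)
  obtain ⟨k, hk⟩ := hodd
  have hy3 : Commute y (m * a) := by
    have h1 : Commute y ((m * a) ^ 2) := by
      rw [pow_two, show m * a * (m * a) = m * a * m * a by group]
      exact hy2.mul_right hy1
    have h2 := h1.pow_right (k + 1)
    rwa [← pow_mul, show 2 * (k + 1) = orderOf (m * a) + 1 by omega, pow_succ, pow_orderOf_eq_one,
      one_mul] at h2
  have hym : Commute y m := by
    have h4 := hy3.mul_right hy1
    rwa [mul_assoc, root_mul_self h.root haF, mul_one] at h4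
  have hy0 : Commute y t₀ := h.commute_all hyF hst h.mem_base hym
  refine h.ncomm ?_
  show x * t₀ = t₀ * x
  calc x * t₀ = b * (b * x * b * t₀) * b := by
        rw [show b * (b * x * b * t₀) * b = (b * b) * x * (b * t₀ * b) by group, hbb, one_mul,
          hb0.eq, mul_assoc t₀, hbb, mul_one]
    _ = b * (t₀ * (b * x * b)) * b := by rw [hy0.eq]
    _ = t₀ * x := by
        rw [← mul_assoc b t₀, hb0.eq, show t₀ * b * (b * x * b) * b = t₀ * (b * b) * x * (b * b) by
          group, hbb, mul_one, mul_one]

/-- Without products in `T` the set `T` has one member. -/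
theorem subsingleton (hline : ∀ s ∈ T, ∀ t ∈ T, s ≠ t → s * t ∉ T) {t : G} (ht : t ∈ T) :
    t = t₀ := by
  have hF : ∀ {r}, r ∈ T → r ∈ F := fun hr => (h.mem_iff.1 hr).1
  have hsq : ∀ {r}, r ∈ T → r * r = 1 := fun hr => root_mul_self h.root (hF hr)
  have h0 := h.mem_base
  have hxx := root_mul_self h.root h.mem
  set R : Set G := {p | ∃ r ∈ T, p = t₀ * r} with hR
  set V : Set G := {v | ∃ p ∈ R, v = x * (p * x * p)} with hV
  have hR2 : ∀ p ∈ R, p * p = 1 := by
    rintro _ ⟨r, hr, rfl⟩
    rw [← pow_two, (h.commute_T h0 hr).mul_pow, pow_two, pow_two, hsq h0, hsq hr, one_mul]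
  have hRT : ∀ p ∈ R, ∀ a ∈ T, Commute p a := by
    rintro _ ⟨r, hr, rfl⟩ a ha
    exact (h.commute_T h0 ha).mul_left (h.commute_T hr ha)
  have hmove : ∀ s ∈ T, ∀ r ∈ T, Commute (s * r * x * (s * r)) x := by
    intro s hs r hr
    rcases eq_or_ne s r with rfl | hne
    · rw [hsq hs]; simp
    · exact (h.pair_cases hs hr hne).resolve_left (hline s hs r hr hne)
  have hmoveR : ∀ p ∈ R, Commute (p * x * p) x := by
    rintro _ ⟨r, hr, rfl⟩; exact hmove t₀ h0 r hr
  have hV2 : ∀ v ∈ V, v * v = 1 := by
    rintro _ ⟨p, hp, rfl⟩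
    rw [← pow_two, (hmoveR p hp).symm.mul_pow, pow_two, pow_two, hxx,
      show p * x * p * (p * x * p) = p * x * (p * p) * x * p by group, hR2 p hp, mul_one,
      mul_assoc p x x, hxx, mul_one, hR2 p hp, one_mul]
  have hVV : ∀ v ∈ V, ∀ w ∈ V, Commute v w := by
    rintro _ ⟨p, hp, rfl⟩ _ ⟨q, hq, rfl⟩
    have hpq : Commute (p * x * p) (q * x * q) := by
      obtain ⟨r, hr, rfl⟩ := id hp
      obtain ⟨r', hr', rfl⟩ := id hq
      set p := t₀ * r with hpdef
      set q := t₀ * r' with hqdef
      have e : r * r' = p * q := by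
        rw [hpdef, hqdef, show t₀ * r * (t₀ * r') = t₀ * (r * t₀) * r' by group,
          ← (h.commute_T h0 hr).eq, ← mul_assoc t₀ t₀ r, hsq h0, one_mul]
      have hc : Commute p q := (hRT p ⟨r, hr, rfl⟩ t₀ h0).mul_right (hRT p ⟨r, hr, rfl⟩ r' hr')
      have h1 := hmove r hr r' hr'
      rw [e] at h1
      show p * x * p * (q * x * q) = q * x * q * (p * x * p)
      have e2 : p * q * x * (p * q) = p * (q * x * q) * p := by
        conv_lhs => arg 2; rw [hc.eq]
        group
      rw [e2] at h1
      have hpp := hR2 p ⟨r, hr, rfl⟩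
      calc p * x * p * (q * x * q) = p * (x * (p * (q * x * q) * p)) * p := by
            rw [show p * (x * (p * (q * x * q) * p)) * p = p * x * p * (q * x * q) * (p * p) by group,
              hpp, mul_one]
        _ = p * (p * (q * x * q) * p * x) * p := by rw [h1.eq]
        _ = q * x * q * (p * x * p) := by
            rw [show p * (p * (q * x * q) * p * x) * p = p * p * (q * x * q * (p * x * p)) by group,
              hpp, one_mul]
    exact ((Commute.refl x).mul_right (hmoveR q hq).symm).mul_left
      ((hmoveR p hp).mul_right hpq)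
  set P := Subgroup.closure R with hP
  set Q := Subgroup.closure V with hQ
  set N := P ⊔ Q with hN
  have hRP : ∀ p ∈ R, p ∈ P := fun p hp => Subgroup.subset_closure hp
  have hTP : ∀ s ∈ T, ∀ r ∈ T, s * r ∈ P := by
    intro s hs r hr
    have h1 := mul_mem (hRP _ ⟨s, hs, rfl⟩) (hRP _ ⟨r, hr, rfl⟩)
    rwa [show t₀ * s * (t₀ * r) = t₀ * (s * t₀) * r by group, ← (h.commute_T h0 hs).eq,
      ← mul_assoc t₀ t₀ s, hsq h0, one_mul] at h1
  -- the elements of `V` permute `T`
  have hVT : ∀ v ∈ V, ∀ a ∈ T, v * a * v ∈ T := by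
    intro v hv a ha
    rcases eq_or_ne v 1 with rfl | hv1
    · simpa using ha
    obtain ⟨p, hp, hve⟩ := id hv
    obtain ⟨r, hr, hpe⟩ := id hp
    have hne : t₀ ≠ r := by
      intro e
      refine hv1 ?_
      rw [hve, hpe, ← e, hsq h0, one_mul, mul_one, hxx]
    have hvv := hV2 v hv
    have hvi : v⁻¹ = v := inv_eq_of_mul_eq_one_right hvv
    have hvu : Commute v p := by
      show v * p = p * v
      rw [hve]
      calc x * (p * x * p) * p = x * p * x * (p * p) := by group
        _ = (p * p) * x * p * x := by rw [hR2 p hp, mul_one, one_mul]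
        _ = p * (p * x * p * x) := by group
        _ = p * (x * (p * x * p)) := by rw [(hmoveR p hp).eq]
    -- commuting with the conjugate of a member of `T` is commuting with `p`
    have iff1 : ∀ f ∈ F, Commute f t₀ ↔ Commute f p := fun f hf => by
      rw [hpe]
      exact ⟨fun hc => hc.mul_right (h.commute_all hf h0 hr hc), fun hc =>
        commute_of_commute_mul h.root h.noFour (hF h0) (hF hr) (h.commute_T h0 hr) hne hf hc⟩
    have hconjF : ∀ f ∈ F, v * f * v ∈ F := fun f hf => by
      have := h.root.conj_mem f hf v; rwa [hvi] at this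
    have hcv : ∀ {f g : G}, Commute f g → Commute (v * f * v) (v * g * v) := fun {f g} hc => by
      show v * f * v * (v * g * v) = v * g * v * (v * f * v)
      calc v * f * v * (v * g * v) = v * f * (v * v) * g * v := by group
        _ = v * (g * f) * v := by rw [hvv, mul_one, mul_assoc v f g, hc.eq]
        _ = v * g * (v * v) * f * v := by rw [hvv, mul_one]; group
        _ = v * g * v * (v * f * v) := by group
    have hvpv : v * p * v = p := by rw [hvu.eq, mul_assoc, hvv, mul_one]
    refine h.mem_iff.2 ⟨hconjF a (hF ha), fun f hf => ?_⟩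
    have e : v * (v * f * v) * v = f := by
      rw [show v * (v * f * v) * v = v * v * f * (v * v) by group, hvv, one_mul, mul_one]
    rw [iff1 f hf]
    constructor
    · intro hc
      have e3 : v * (v * a * v) * v = a := by
        rw [show v * (v * a * v) * v = v * v * a * (v * v) by group, hvv, one_mul, mul_one]
      have h1 : Commute (v * f * v) a := by
        have := hcv hc; rwa [e3] at this
      have h2 := hcv ((iff1 _ (hconjF f hf)).1 (((h.mem_iff.1 ha).2 _ (hconjF f hf)).1 h1))
      rwa [e, hvpv] at h2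
    · intro hc
      have h1 := hcv hc
      rw [hvpv] at h1
      have h2 := hcv (((h.mem_iff.1 ha).2 _ (hconjF f hf)).2 ((iff1 _ (hconjF f hf)).2 h1))
      rwa [e] at h2
  -- conjugation by the generators
  have hconjT : ∀ a ∈ T, ∀ n ∈ R ∪ V, a * n * a ∈ N := by
    rintro a ha n (hn | hn)
    · rw [← (hRT n hn a ha).eq, mul_assoc, hsq ha, mul_one]
      exact Subgroup.mem_sup_left (hRP n hn)
    · have e : a * n * a = n * (n * a * n * a) := by
        rw [show n * (n * a * n * a) = n * n * (a * n * a) by group, hV2 n hn, one_mul]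
      rw [e]
      exact mul_mem (Subgroup.mem_sup_right (Subgroup.subset_closure hn))
        (Subgroup.mem_sup_left (hTP _ (hVT n hn a ha) a ha))
  have hconjx : ∀ n ∈ R ∪ V, x * n * x ∈ N := by
    rintro n (hn | hn)
    · have e : x * n * x = x * (n * x * n) * n := by
        rw [show x * (n * x * n) * n = x * n * x * (n * n) by group, hR2 n hn, mul_one]
      rw [e]
      exact mul_mem (Subgroup.mem_sup_right (Subgroup.subset_closure ⟨n, hn, rfl⟩))
        (Subgroup.mem_sup_left (hRP n hn))
    · obtain ⟨p, hp, rfl⟩ := id hn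
      have e : x * (x * (p * x * p)) * x = x * (p * x * p) := by
        rw [← mul_assoc x x, hxx, one_mul, (hmoveR p hp).eq]
      rw [e]
      exact Subgroup.mem_sup_right (Subgroup.subset_closure hn)
  have hNN : N = Subgroup.closure (R ∪ V) := by rw [hN, hP, hQ, Subgroup.closure_union]
  have hnorm : ∀ g : G, g * g = 1 → (∀ n ∈ R ∪ V, g * n * g ∈ N) →
      g ∈ Subgroup.normalizer (N : Set G) := by
    intro g hg hgn
    have hgi : g⁻¹ = g := inv_eq_of_mul_eq_one_right hg
    have hle : N ≤ N.comap (MulAut.conj g).toMonoidHom := by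
      conv_lhs => rw [hNN]
      rw [Subgroup.closure_le]
      intro n hn
      show g * n * g⁻¹ ∈ N
      rw [hgi]; exact hgn n hn
    refine Subgroup.mem_normalizer_iff.2 fun n => ⟨fun hn => hle hn, fun hn => ?_⟩
    have h1 : g * (g * n * g⁻¹) * g⁻¹ ∈ N := hle hn
    rw [hgi, show g * (g * n * g) * g = g * g * n * (g * g) by group, hg, one_mul, mul_one] at h1
    exact h1
  have hNn : N.Normal := by
    rw [← Subgroup.normalizer_eq_top_iff, eq_top_iff, ← h.gen, Subgroup.closure_le]
    rintro g (hg | hg)
    · exact hnorm g (hsq hg) (hconjT g hg)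
    · rw [Set.mem_singleton_iff.1 hg]; exact hnorm x hxx hconjx
  have hN2 : IsPGroup 2 N := by
    have hRR : ∀ p ∈ R, ∀ q ∈ R, Commute p q := by
      rintro p hp _ ⟨r, hr, rfl⟩
      exact (hRT p hp t₀ h0).mul_right (hRT p hp r hr)
    have hle : Q ≤ Subgroup.normalizer (P : Set G) := by
      rw [hQ, Subgroup.closure_le]
      intro v hv
      have hvv := hV2 v hv
      have hvi : v⁻¹ = v := inv_eq_of_mul_eq_one_right hvv
      have hle : P ≤ P.comap (MulAut.conj v).toMonoidHom := by
        conv_lhs => rw [hP]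
        rw [Subgroup.closure_le]
        rintro _ ⟨r, hr, rfl⟩
        show v * (t₀ * r) * v⁻¹ ∈ P
        rw [hvi, show v * (t₀ * r) * v = v * t₀ * (v * v) * r * v by rw [hvv]; group,
          show v * t₀ * (v * v) * r * v = (v * t₀ * v) * (v * r * v) by group]
        exact hTP _ (hVT v hv t₀ h0) _ (hVT v hv r hr)
      refine Subgroup.mem_normalizer_iff.2 fun n => ⟨fun hn => hle hn, fun hn => ?_⟩
      have h1 : v * (v * n * v⁻¹) * v⁻¹ ∈ P := hle hn
      rw [hvi, show v * (v * n * v) * v = v * v * n * (v * v) by group, hvv, one_mul, mul_one] at h1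
      exact h1
    rw [hN, sup_comm]
    exact IsPGroup.to_sup_of_normal_right' (isPGroup_closure_of_commute hV2 hVV)
      (isPGroup_closure_of_commute hR2 hRR) hle
  have h1 := CfsgLib.Fitting.le_pCore hNn hN2 (Subgroup.mem_sup_left (hRP _ ⟨t, ht, rfl⟩))
  rw [h.core, Subgroup.mem_bot] at h1
  exact eq_of_mul_eq_one h.root (hF h0) h1

/-- The group is dihedral, or disconnected with a product of commuting members in the class. -/
theorem cases :
    (∃ n : ℕ, Nonempty (G ≃* DihedralGroup n)) ∨
      ((F ∩ Cfsg.commutingProducts F).Nonempty ∧ ¬ CR F t₀ x) := by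
  by_cases hline : ∀ s ∈ T, ∀ t ∈ T, s ≠ t → s * t ∉ T
  · refine Or.inl ?_
    have hT : T = {t₀} := Set.eq_singleton_iff_unique_mem.2
      ⟨h.mem_base, fun t ht => h.subsingleton hline ht⟩
    have hgen := h.gen
    rw [hT, Set.singleton_union] at hgen
    obtain ⟨f⟩ := closure_pair_mulEquiv_dihedral (h.root.orderOf_eq t₀ h.mem₀) (h.root.orderOf_eq x h.mem)
    refine ⟨orderOf (t₀ * x), ⟨MulEquiv.trans ?_ f⟩⟩
    exact (Subgroup.topEquiv.symm).trans (MulEquiv.subgroupCongr hgen.symm)
  · push Not at hline
    obtain ⟨s, hs, t, ht, hne, hst⟩ := hline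
    refine Or.inr ⟨⟨s * t, (h.mem_iff.1 hst).1, s, (h.mem_iff.1 hs).1, t, (h.mem_iff.1 ht).1,
      (h.commute_T hs ht).eq, fun e => hne (eq_of_mul_eq_one h.root (h.mem_iff.1 hs).1 e).symm, rfl⟩,
      fun hcr => ?_⟩
    have key : ∀ y, CR F t₀ y → y ∈ T := fun y hy => by
      induction hy with
      | refl => exact h.mem_base
      | tail _ hyz ih =>
        exact h.commuting_eq hs ht hne hst hyz.2.1
          (h.commute_all hyz.2.1 ih h.mem_base (Commute.symm hyz.2.2.2))
    have : x ∈ T := key x hcr
    exact h.ncomm_T this (Commute.refl x)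

end OddPair

end CfsgLib.RootConnect
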