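import Cfsg.Agent.Lib.RootConnect.OddPairReduce
import Cfsg.Agent.Lib.RootConnect.UnitaryEnd
import Cfsg.Agent.Lib.AbelInv.Split
import Cfsg.Agent.Lib.SuzukiGroup.Multiplier

/-!
The end of the classification of the subgroup generated by a twin class and an odd partner of an odd
transposition, modulo its largest normal 2-subgroup: dihedral, `L₂(q)` or `Sz(q)`, given Aschbacher's
criterion for strong embedding.
-/

set_option autoImplicit false

namespace CfsgLib.RootConnect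

open CfsgLib.Involutions CfsgLib.RootInvolutions CfsgLib.BenderQ

universe u

variable {H : Type u} [Group H] [Finite H]

/-- The centre is trivial in the perfect case. -/
theorem center_eq_bot_of_perfect (hperf : commutator H = ⊤) (hO : Cfsg.pCore 2 H = ⊥)
    (h : (∃ (F : Type) (_ : Field F) (_ : Fintype F), CharP F 2 ∧ 4 ≤ Fintype.card F ∧
        Nonempty (H ⧸ Subgroup.center H ≃* Matrix.ProjectiveSpecialLinearGroup (Fin 2) F)) ∨
      Cfsg.Lie.IsoSuzuki (H ⧸ Subgroup.center H)) : Subgroup.center H = ⊥ := by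
  set Z := Subgroup.center H with hZ
  have hp2 : Fact (Nat.Prime 2) := ⟨Nat.prime_two⟩
  have h2 : ∀ z ∈ Z, z * z = 1 → z = 1 := by
    intro z hz hzz
    have hn : (Subgroup.zpowers z).Normal := ⟨fun n hn g => by
      obtain ⟨i, rfl⟩ := Subgroup.mem_zpowers_iff.1 hn
      rw [Subgroup.mem_center_iff.1 (Z.zpow_mem hz i) g, mul_inv_cancel_right]
      exact ⟨i, rfl⟩⟩
    have hp : IsPGroup 2 (Subgroup.zpowers z) := by
      rw [Subgroup.zpowers_eq_closure]
      refine isPGroup_closure_of_commute ?_ ?_ <;> simp [hzz]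
    have h1 := CfsgLib.Fitting.le_pCore hn hp (Subgroup.mem_zpowers z)
    rwa [hO, Subgroup.mem_bot] at h1
  have hodd : ∀ p : ℕ, p.Prime → p ≠ 2 → CfsgLib.Schur.NoMultiplierAt p (H ⧸ Z) := by
    intro p hp hne
    have : Fact p.Prime := ⟨hp⟩
    classical
    rcases h with ⟨F, i1, i2, hchar, -, ⟨e⟩⟩ | ⟨F, i1, i2, m, hm, hF, ⟨e⟩⟩
    · have hbij : Function.Bijective
          (QuotientGroup.mk' (Subgroup.center (Matrix.SpecialLinearGroup (Fin 2) F))) :=
        ⟨by rw [← MonoidHom.ker_eq_bot_iff, QuotientGroup.ker_mk',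
              CfsgLib.StrongEmbedding.PSLTwo.center_sl_two_eq_bot],
          QuotientGroup.mk'_surjective _⟩
      exact CfsgLib.AbelInv.noMultiplierAt_odd (e.trans (MulEquiv.ofBijective _ hbij).symm) hne
    · obtain ⟨hc, ⟨P⟩⟩ := CfsgLib.SuzukiGroup.exists_params hF
      obtain ⟨S⟩ : Nonempty (Sylow p (H ⧸ Z)) := inferInstance
      have hcyc := CfsgLib.SuzukiGroup.sylow_odd_cyclic P hF hm hne
        (S.mapSurjective (f := e.toMonoidHom) e.surjective)
      refine CfsgLib.Schur.noMultiplierAt_of_cyclic S ?_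
      replace hcyc : IsCyclic ((S : Subgroup (H ⧸ Z)).map e.toMonoidHom) := hcyc
      exact ((Subgroup.equivMapOfInjective (S : Subgroup (H ⧸ Z)) e.toMonoidHom e.injective).isCyclic).2 hcyc
  have hstem : Cfsg.IsStemExtension (QuotientGroup.mk' Z) :=
    ⟨QuotientGroup.mk'_surjective Z, (QuotientGroup.ker_mk' Z).le, by rw [hperf]; exact le_top⟩
  by_contra hne
  obtain ⟨p, hp, hdvd⟩ := Nat.exists_prime_and_dvd
    (n := Nat.card Z) (fun h1 => hne (Subgroup.eq_bot_of_card_eq _ h1))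
  have : Fact p.Prime := ⟨hp⟩
  obtain ⟨x, hx⟩ := exists_prime_orderOf_dvd_card' p hdvd
  have hxp : (x : H) ^ p = 1 := by
    rw [← SubmonoidClass.coe_pow, ← hx, pow_orderOf_eq_one]; rfl
  have hx1 : (x : H) = 1 := by
    rcases eq_or_ne p 2 with rfl | hne2
    · exact h2 _ x.2 (by rwa [← pow_two])
    · exact hodd p hp hne2 H (QuotientGroup.mk' Z) hstem x
        (by rw [QuotientGroup.ker_mk']; exact x.2) hxp
  rw [Subtype.ext (a1 := x) (a2 := 1) hx1, orderOf_one] at hx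
  exact hp.one_lt.ne' hx.symm

variable {F T : Set H} {t₀ x : H}

/-- Dihedral, `L₂(q)` or `Sz(q)`. -/
theorem OddPair.classify (h : OddPair F T t₀ x) (hA : StrongCriterion.{u}) :
    (∃ (K : Type) (_ : Field K) (_ : Fintype K), CharP K 2 ∧ 4 ≤ Fintype.card K ∧
      Nonempty (H ≃* Matrix.ProjectiveSpecialLinearGroup (Fin 2) K)) ∨
    Cfsg.Lie.IsoSuzuki H ∨ ∃ n : ℕ, Nonempty (H ≃* DihedralGroup n) := by
  by_cases hn : ∃ n : ℕ, Nonempty (H ≃* DihedralGroup n)
  · exact Or.inr (Or.inr hn)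
  obtain ⟨hperf, hb⟩ := h.bender hA hn
  have hp2 : Fact (Nat.Prime 2) := ⟨Nat.prime_two⟩
  set Z := Subgroup.center H with hZ
  have hlift : Z = ⊥ → ∀ {L : Type} [Group L], (H ⧸ Z ≃* L) → Nonempty (H ≃* L) := fun hb L _ e =>
    ⟨((QuotientGroup.quotientMulEquivOfEq hb).trans QuotientGroup.quotientBot).symm.trans e⟩
  rcases hb with ⟨K, i1, i2, ⟨n, hn2, hK⟩, ⟨e⟩⟩ | hs | ⟨K, i1, i2, n, hn2, hK, ⟨e⟩⟩
  · have hch : CharP K 2 := charP_of_card_eq_prime_pow hK
    have h4 : 4 ≤ Fintype.card K := by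
      have : 2 ^ 2 ≤ 2 ^ n := Nat.pow_le_pow_right (by norm_num) hn2
      omega
    have hc := center_eq_bot_of_perfect hperf h.core (Or.inl ⟨K, i1, i2, hch, h4, ⟨e⟩⟩)
    exact Or.inl ⟨K, i1, i2, hch, h4, hlift hc e⟩
  · have hc := center_eq_bot_of_perfect hperf h.core (Or.inr hs)
    obtain ⟨K, i1, i2, m, hm, hK, ⟨e⟩⟩ := hs
    exact Or.inr (Or.inl ⟨K, i1, i2, m, hm, hK, hlift hc e⟩)
  · exfalso
    have hch : CharP K 2 := charP_of_card_eq_prime_pow (f := n * 2) (by rw [hK, ← pow_mul])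
    set φ : H →* Cfsg.PSU 3 K (2 ^ n) := e.toMonoidHom.comp (QuotientGroup.mk' Z) with hφ
    have hφs : Function.Surjective φ := e.surjective.comp (QuotientGroup.mk'_surjective Z)
    have hx1 : φ x ≠ 1 := by
      intro h1
      have h2 : x ∈ Z := (QuotientGroup.eq_one_iff x).1 (e.injective (h1.trans (map_one e).symm))
      exact h.ncomm (Subgroup.mem_center_iff.1 h2 t₀).symm
    have hsq : ∀ y ∈ F, φ y * φ y = 1 := fun y hy => by
      rw [← map_mul, root_mul_self h.root hy, map_one]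
    refine UnitaryEnd.not_generated ⟨n, rfl⟩ hK (T := φ '' T) (x := φ x) ?_ ?_
      (orderOf_eq_prime (by rw [pow_two, hsq x h.mem]) hx1) ?_
    · rintro _ ⟨t, ht, rfl⟩; exact hsq t (h.mem_iff.1 ht).1
    · rintro _ ⟨s, hs, rfl⟩ _ ⟨t, ht, rfl⟩; exact (h.commute_T hs ht).map φ
    · rw [← Set.image_singleton, ← Set.image_union, ← MonoidHom.map_closure, h.gen,
        Subgroup.map_top_of_surjective φ hφs]



/-- The conclusion of the list, from the criterion. -/
theorem twin_partner_quotient {G : Type u} [Group G] [Finite G] (hA : StrongCriterion.{u}) {D : Set G}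
    (hD : Cfsg.IsOddTranspositionSet D) {d x : G} (hd : d ∈ D) (hx : x ∈ Cfsg.oddPartners D d) :
    (∃ (F : Type) (_ : Field F) (_ : Fintype F), CharP F 2 ∧ 4 ≤ Fintype.card F ∧
      Nonempty ((↥(Subgroup.closure (Cfsg.sameCommutingClass D d ∪ {x})) ⧸
        Cfsg.pCore 2 ↥(Subgroup.closure (Cfsg.sameCommutingClass D d ∪ {x}))) ≃* Matrix.ProjectiveSpecialLinearGroup (Fin 2) F)) ∨
    Cfsg.Lie.IsoSuzuki ((↥(Subgroup.closure (Cfsg.sameCommutingClass D d ∪ {x})) ⧸
        Cfsg.pCore 2 ↥(Subgroup.closure (Cfsg.sameCommutingClass D d ∪ {x})))) ∨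
    (∃ n : ℕ, Nonempty ((↥(Subgroup.closure (Cfsg.sameCommutingClass D d ∪ {x})) ⧸
        Cfsg.pCore 2 ↥(Subgroup.closure (Cfsg.sameCommutingClass D d ∪ {x}))) ≃* DihedralGroup n)) := by
  obtain ⟨F, T, t₀, x', h⟩ := exists_oddPair hD hd hx
  exact h.classify hA

end CfsgLib.RootConnect
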