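import Cfsg.Agent.Lib.RootConnect.OddPair
import Cfsg.Agent.Lib.PCore.Basic

/-!
The subgroup generated by the members with the same commuting members as a fixed odd transposition and
one odd partner, modulo its largest normal 2-subgroup, satisfies the hypotheses of `OddPair`; it is
dihedral or perfect and of Bender type modulo its centre.
-/

set_option autoImplicit false

namespace CfsgLib.RootConnect

open CfsgLib.Involutions CfsgLib.RootInvolutions CfsgLib.BenderQ

universe u

variable {G : Type u} [Group G] [Finite G]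

/-- The quotient by the 2-core of the subgroup generated by a twin class and an odd partner. -/
theorem exists_oddPair {D : Set G} (hD : Cfsg.IsOddTranspositionSet D) {d x : G} (hd : d ∈ D)
    (hx : x ∈ Cfsg.oddPartners D d) :
    ∃ (F T : Set (↥(Subgroup.closure (Cfsg.sameCommutingClass D d ∪ {x})) ⧸
        Cfsg.pCore 2 ↥(Subgroup.closure (Cfsg.sameCommutingClass D d ∪ {x}))))
      (t₀ x' : ↥(Subgroup.closure (Cfsg.sameCommutingClass D d ∪ {x})) ⧸
        Cfsg.pCore 2 ↥(Subgroup.closure (Cfsg.sameCommutingClass D d ∪ {x}))), OddPair F T t₀ x' := by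
  obtain ⟨hxD, hne, hodd⟩ := hx
  set X := Subgroup.closure (Cfsg.sameCommutingClass D d ∪ {x}) with hX
  set C := Cfsg.pCore 2 ↥X with hC
  set π := QuotientGroup.mk' C with hπ
  have hp : Fact (Nat.Prime 2) := ⟨Nat.prime_two⟩
  have hdE : d ∈ Cfsg.sameCommutingClass D d := ⟨hd, rfl⟩
  have hdX : d ∈ X := Subgroup.subset_closure (Or.inl hdE)
  have hxX : x ∈ X := Subgroup.subset_closure (Or.inr rfl)
  have hroot := hD.1
  -- commuting images come from commuting members
  have hlift : ∀ y z : ↥X, (y : G) ∈ D → (z : G) ∈ D → Commute (π y) (π z) → Commute (y : G) z := by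
    intro y z hy hz hc
    rcases hroot.pair _ hy _ hz with h1 | h1 | h1
    · exact h1
    swap
    · exact absurd h1.1 (hD.2 _ hy _ hz)
    have h2 : (y * z) ^ 2 ∈ C := by
      rw [← QuotientGroup.eq_one_iff]
      show π ((y * z) ^ 2) = 1
      rw [map_pow, map_mul, hc.mul_pow, pow_two, pow_two, ← map_mul, ← map_mul,
        show y * y = 1 from Subtype.ext (root_mul_self hroot hy),
        show z * z = 1 from Subtype.ext (root_mul_self hroot hz), map_one, one_mul]
    obtain ⟨n, hn⟩ := (CfsgLib.Fitting.pCore_isPGroup (G := ↥X) 2) ⟨_, h2⟩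
    have h3 : ((y : G) * z) ^ (2 ^ (n + 1)) = 1 := by
      have h4 : (y * z) ^ (2 ^ (n + 1)) = 1 := by
        rw [pow_succ', pow_mul]; simpa using congrArg Subtype.val hn
      simpa using congrArg Subtype.val h4
    have h5 : orderOf ((y : G) * z) = 1 := by
      obtain ⟨i, -, hi⟩ := (Nat.dvd_prime_pow Nat.prime_two).1 (orderOf_dvd_of_pow_eq_one h3)
      rcases Nat.eq_zero_or_pos i with rfl | hi0
      · simpa using hi
      · rw [hi, Nat.odd_pow_iff hi0.ne'] at h1
        exact absurd h1 (by decide)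
    rw [eq_of_mul_eq_one hroot hy (orderOf_eq_one_iff.1 h5)]
  have hone : ∀ y : ↥X, (y : G) ∈ D → ∀ z : ↥X, (z : G) ∈ D → ¬ Commute (y : G) z → π y ≠ 1 :=
    fun y hy z hz hn e => hn (hlift y z hy hz (e ▸ Commute.one_left _))
  have hxd : ¬ Commute x d := fun e =>
    odd_not_commute hroot hd hxD hne hodd e.symm.eq
  set d' := π ⟨d, hdX⟩ with hd'
  set x' := π ⟨x, hxX⟩ with hx'
  set F : Set (↥X ⧸ C) := {q | q ≠ 1 ∧ ∃ y : ↥X, (y : G) ∈ D ∧ π y = q} with hF
  have hdF : d' ∈ F := ⟨hone _ hd ⟨x, hxX⟩ hxD fun e => hxd e.symm, _, hd, rfl⟩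
  have hxF : x' ∈ F := ⟨hone _ hxD ⟨d, hdX⟩ hd hxd, _, hxD, rfl⟩
  set T : Set (↥X ⧸ C) := {t | t ∈ F ∧ ∀ f ∈ F, (Commute f t ↔ Commute f d')} with hT
  have hgen : Subgroup.closure (T ∪ {x'}) = ⊤ := by
    have htop : Subgroup.closure ((Subtype.val : ↥X → G) ⁻¹' (Cfsg.sameCommutingClass D d ∪ {x})) = ⊤ :=
      Subgroup.closure_closure_coe_preimage
    rw [eq_top_iff, ← Subgroup.map_top_of_surjective π (QuotientGroup.mk'_surjective C), ← htop,
      MonoidHom.map_closure]
    refine Subgroup.closure_mono ?_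
    rintro _ ⟨y, hy | hy, rfl⟩
    · refine Or.inl ?_
      obtain ⟨hyD, hye⟩ := hy
      have hiff : ∀ g, g ∈ D → (Commute g (y : G) ↔ Commute g d) := by
        intro g hg
        have e := Set.ext_iff.1 hye g
        simp only [Cfsg.commutingMembers, Set.mem_setOf_eq, hg, true_and] at e
        exact e.symm
      have hny : π y ≠ 1 := hone y hyD ⟨x, hxX⟩ hxD fun e => hxd ((hiff x hxD).1 e.symm)
      refine ⟨⟨hny, y, hyD, rfl⟩, ?_⟩
      rintro _ ⟨-, z, hzD, rfl⟩
      exact ⟨fun h1 => (Commute.map (show Commute z ⟨d, hdX⟩ from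
          Subtype.ext ((hiff z hzD).1 (hlift z y hzD hyD h1)).eq) π),
        fun h1 => (Commute.map (show Commute z y from
          Subtype.ext ((hiff z hzD).2 (hlift z ⟨d, hdX⟩ hzD hd h1)).eq) π)⟩
    · exact Or.inr (congrArg π (Subtype.ext (Set.mem_singleton_iff.1 hy)))
  have hroot' : Cfsg.IsRootInvolutionSet F := by
    refine ⟨?_, ?_, ?_, ?_⟩
    · rintro _ ⟨h1, y, hy, rfl⟩
      refine orderOf_eq_prime ?_ h1
      rw [pow_two, ← map_mul, show y * y = 1 from Subtype.ext (root_mul_self hroot hy), map_one]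
    · rw [eq_top_iff, ← hgen]
      refine Subgroup.closure_mono ?_
      rintro t (ht | ht)
      · exact ht.1
      · rw [Set.mem_singleton_iff.1 ht]; exact hxF
    · rintro _ ⟨h1, y, hy, rfl⟩ g
      obtain ⟨g, rfl⟩ := QuotientGroup.mk'_surjective C g
      refine ⟨fun e => h1 ?_, g * y * g⁻¹, hroot.conj_mem _ hy g, by simp [hπ]⟩
      rwa [mul_inv_eq_one, mul_eq_left] at e
    · rintro _ ⟨-, y, hy, rfl⟩ _ ⟨-, z, hz, rfl⟩
      rcases hroot.pair _ hy _ hz with h1 | h1 | h1
      · exact Or.inl (by rw [← map_mul, ← map_mul, show y * z = z * y from Subtype.ext h1])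
      · refine Or.inr (Or.inl ?_)
        rw [← Subgroup.coe_mul, Subgroup.orderOf_coe] at h1
        rw [← map_mul]; exact h1.of_dvd_nat (orderOf_map_dvd π _)
      · exact absurd h1.1 (hD.2 _ hy _ hz)
  refine ⟨F, T, d', x', hroot', ?_, CfsgLib.PCore.pCore_quotient_pCore, hdF, hxF,
    fun e => hxd (hlift _ _ hxD hd e), rfl, hgen⟩
  rintro _ ⟨-, y, hy, rfl⟩ _ ⟨-, z, hz, rfl⟩ h4
  have h5 : (4 : ℕ) ∣ orderOf ((y : G) * z) := by
    rw [← h4, ← map_mul, ← Subgroup.coe_mul, Subgroup.orderOf_coe]; exact orderOf_map_dvd π _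
  rcases hroot.pair _ hy _ hz with h1 | h1 | h1
  · have h6 : ((y : G) * z) ^ 2 = 1 := by
      rw [(show Commute (y : G) z from h1).mul_pow, pow_two, pow_two, root_mul_self hroot hy,
        root_mul_self hroot hz, one_mul]
    exact absurd (Nat.le_of_dvd two_pos (h5.trans (orderOf_dvd_of_pow_eq_one h6))) (by norm_num)
  · exact absurd (h1.of_dvd_nat h5) (by decide)
  · exact hD.2 _ hy _ hz h1.1

variable {F T : Set G} {t₀ x : G}

/-- In the non-dihedral case the group is perfect and of Bender type modulo its centre. -/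
theorem OddPair.bender (h : OddPair F T t₀ x) (hA : StrongCriterion.{u})
    (hn : ¬ ∃ n : ℕ, Nonempty (G ≃* DihedralGroup n)) :
    commutator G = ⊤ ∧ IsBenderType (G ⧸ Subgroup.center G) := by
  obtain hdih | ⟨hDD, hcr⟩ := h.cases
  · exact absurd hdih hn
  have hb := isBenderType_of_disconnected benderKernel
    (fun _ _ _ _ _ _ _ _ _ hS h2 => Cfsg.Agent.S1136.result hS h2) hA h.root hDD h.mem₀ h.mem hcr
  have e : Cfsg.twoZCore G = Subgroup.center G := by
    ext g
    rw [Cfsg.twoZCore, Subgroup.mem_comap, Subgroup.mem_center_iff, Subgroup.mem_center_iff]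
    have hinj : Function.Injective (QuotientGroup.mk' (Cfsg.pCore 2 G)) := by
      rw [← MonoidHom.ker_eq_bot_iff, QuotientGroup.ker_mk', h.core]
    constructor
    · exact fun h1 k => hinj (by rw [map_mul, map_mul, h1])
    · intro h1 k
      obtain ⟨k, rfl⟩ := QuotientGroup.mk'_surjective _ k
      rw [← map_mul, h1, map_mul]
  refine ⟨?_, ?_⟩
  swap
  · convert hb using 2 <;> rw [e]
  have hc := oddConnected_of_disconnected h.root h.mem₀ h.mem hcr
  have hne : t₀ ≠ x := fun e => h.ncomm (e ▸ Commute.refl t₀)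
  have ho := odd_of_not_cr h.root h.mem₀ h.mem hcr
  obtain ⟨g, -, hg, -⟩ := exists_swap h.root h.mem₀ h.mem ho
  refine Cfsg.Agent.S5048.normal_eq_top_of_odd h.root hc hDD h.mem₀ h.mem hne ho ?_
  rw [← hg]
  open scoped commutatorElement in
  have : ⁅t₀, g⁆ = t₀ * (g * t₀ * g⁻¹) := by
    rw [commutatorElement_def, root_inv h.root h.mem₀]; group
  rw [← this, commutator_def]
  exact Subgroup.commutator_mem_commutator (Subgroup.mem_top _) (Subgroup.mem_top _)

end CfsgLib.RootConnect
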