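import Cfsg.Agent.Lib.RootConnect.Disconnected
import Cfsg.Agent.Lib.OddOrder.PuigSeries

/-!
A simple group with a class of odd transpositions, some product of two commuting members again a
member, whose commuting graph is disconnected: products of commuting members are members, some
member is central in a Sylow 2-subgroup, and the stabiliser of its component satisfies the
hypotheses of Aschbacher's criterion for strong embedding.
-/

set_option autoImplicit false

namespace CfsgLib.RootConnect

open CfsgLib.Involutions CfsgLib.RootInvolutions CfsgLib.OddOrder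

universe u

namespace Split

variable {G : Type u} [Group G] [Finite G] {D : Set G} (h : Split D)
include h

/-- In a split set of odd transpositions the product of two different commuting members is a
member. -/
theorem closed : Closed D := by
  intro a ha b hb hab hne
  have hR := h.root
  by_contra hzD
  have haa := root_mul_self hR ha
  have hbb := root_mul_self hR hb
  set z := a * b with hz
  have hz2 : z * z = 1 := by
    calc a * b * (a * b) = a * (b * a) * b := by group
      _ = a * a * (b * b) := by rw [← hab.eq]; group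
      _ = 1 := by rw [haa, hbb, one_mul]
  have hz1 : z ≠ 1 := fun e => hne (eq_of_mul_eq_one hR ha e).symm
  obtain ⟨e, he, c, hc, hze, hzec, hn⟩ := h.exists_straddle hz2 hz1
  set i := z * e with hi
  have hee := root_mul_self hR he
  have hi2 : i * i = 1 := by
    calc z * e * (z * e) = z * (e * z) * e := by group
      _ = z * z * (e * e) := by rw [← hze.eq]; group
      _ = 1 := by rw [hz2, hee, one_mul]
  have hi1 : i ≠ 1 := fun h1 => hzD (by
    rw [eq_inv_of_mul_eq_one_left h1, root_inv hR he]; exact he)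
  have hie : Commute i e := hze.mul_left (Commute.refl e)
  obtain ⟨e', he', c', hc', hie', hie'c', hn'⟩ := h.exists_straddle hi2 hi1
  have key : ∀ {p r : G}, p ∈ D → r ∈ D → Commute p i → Commute r i → ¬ CR D p r →
      ∃ q, Commute q i ∧ q * p * q⁻¹ = r := by
    intro p r hp hr hpi hri hpr
    obtain ⟨q, hq, hqp⟩ := conj_of_odd_order (hR.orderOf_eq p hp) (hR.orderOf_eq r hr)
      (odd_of_not_cr hR hp hr hpr)
    refine ⟨q, ?_, hqp⟩
    have hle : Subgroup.closure ({p, r} : Set G) ≤ Subgroup.centralizer ({i} : Set G) :=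
      (Subgroup.closure_le _).2 (by
        rintro _ (rfl | rfl)
        exacts [Subgroup.mem_centralizer_singleton_iff.2 hpi.eq,
          Subgroup.mem_centralizer_singleton_iff.2 hri.eq])
    exact Subgroup.mem_centralizer_singleton_iff.1 (hle hq)
  obtain ⟨q, hq, hqe⟩ : ∃ q, Commute q i ∧ q * e' * q⁻¹ = e := by
    by_cases hcr : CR D e' e
    · obtain ⟨q₁, hq₁, hq₁e⟩ := key he' hc hie'.symm hzec.symm fun h' =>
        hn ((cr_symm h').trans hcr)
      obtain ⟨q₂, hq₂, hq₂c⟩ := key hc he hzec.symm hie.symm hn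
      exact ⟨q₂ * q₁, hq₂.mul_left hq₁, by rw [← hq₂c, ← hq₁e]; group⟩
    · exact key he' he hie'.symm hie.symm hcr
  have hqi : q * i * q⁻¹ = i := by rw [hq.eq, mul_inv_cancel_right]
  have hqz : q * (i * e') * q⁻¹ = z := by
    calc q * (i * e') * q⁻¹ = (q * i * q⁻¹) * (q * e' * q⁻¹) := by group
      _ = z := by rw [hqi, hqe, hi, mul_assoc, hee, mul_one]
  have hzc : Commute (q * c' * q⁻¹) (a * b) := by
    show q * c' * q⁻¹ * z = z * (q * c' * q⁻¹)
    rw [← hqz]
    calc q * c' * q⁻¹ * (q * (i * e') * q⁻¹) = q * (c' * (i * e')) * q⁻¹ := by group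
      _ = q * (i * e' * c') * q⁻¹ := by rw [hie'c'.eq]
      _ = q * (i * e') * q⁻¹ * (q * c' * q⁻¹) := by group
  have h1 := (cr_symm (h.cr_of_commute_prod ha hb hab hne (hR.conj_mem c' hc' q) hzc)).trans
    (h.cr_of_commute_prod ha hb hab hne he hze.symm)
  have h2 := cr_conj hR h1 q⁻¹
  rw [show q⁻¹ * (q * c' * q⁻¹) * q⁻¹⁻¹ = c' by group,
    show q⁻¹ * e * q⁻¹⁻¹ = e' by rw [← hqe]; group] at h2
  exact hn' h2

/-- If no product of two members has order `4`, some member is central in a Sylow 2-subgroup. -/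
theorem exists_central (hno : ∀ a ∈ D, ∀ b ∈ D, orderOf (a * b) ≠ 4) :
    ∃ d ∈ D, ∃ S : Sylow 2 G, d ∈ S ∧ ∀ s ∈ S, Commute s d := by
  have hR := h.root
  have : Fact (Nat.Prime 2) := ⟨Nat.prime_two⟩
  obtain ⟨d₀, hd₀⟩ := h.cls.2.1
  obtain ⟨S, hS⟩ := (IsPGroup.of_card (n := 1) (p := 2) (G := Subgroup.zpowers d₀)
    (by rw [Nat.card_zpowers, hR.orderOf_eq d₀ hd₀, pow_one])).exists_le_sylow
  have hd₀S : d₀ ∈ S := hS (Subgroup.mem_zpowers d₀)
  have hcl := h.closed
  have hcomm : ∀ a ∈ D, ∀ b ∈ D, a ∈ S → b ∈ S → Commute a b := by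
    intro a ha b hb haS hbS
    by_contra hc
    rcases hR.pair a ha b hb with h' | h' | h'
    · exact hc h'
    · exact hc (eq_of_odd_of_two hR S.2 ha haS hbS h' ▸ Commute.refl a)
    · exact hno a ha b hb h'.1
  -- the members in `S` together with `1` form a normal subgroup
  let A : Subgroup S :=
    { carrier := {x | x = 1 ∨ (x : G) ∈ D}
      one_mem' := Or.inl rfl
      mul_mem' := by
        rintro a b (rfl | ha) (rfl | hb)
        · exact Or.inl (one_mul 1)
        · exact Or.inr (by simpa using hb)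
        · exact Or.inr (by simpa using ha)
        · by_cases e : (a : G) = b
          · exact Or.inl (Subtype.ext (by push_cast; rw [e, root_mul_self hR hb]))
          · exact Or.inr (by push_cast; exact hcl _ ha _ hb (hcomm _ ha _ hb a.2 b.2) e)
      inv_mem' := by
        rintro a (rfl | ha)
        · exact Or.inl inv_one
        · exact Or.inr (by push_cast; rw [root_inv hR ha]; exact ha) }
  have hA : A.Normal := ⟨fun n hn g => by
    rcases hn with rfl | hn
    · exact Or.inl (by group)
    · exact Or.inr (by push_cast; exact hR.conj_mem _ hn (g : G))⟩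
  have hne : A ≠ ⊥ := fun e => by
    have h1 : (⟨d₀, hd₀S⟩ : S) ∈ A := Or.inr hd₀
    rw [e, Subgroup.mem_bot] at h1
    have := hR.orderOf_eq d₀ hd₀
    rw [show d₀ = 1 from congrArg Subtype.val h1, orderOf_one] at this
    omega
  have : Group.IsNilpotent S := S.2.isNilpotent
  obtain ⟨x, hxA, hx1⟩ := (Subgroup.bot_or_exists_ne_one (Subgroup.center S ⊓ A)).resolve_left
    (PuigSeries.inf_center_ne_bot A hne)
  have hxD : (x : G) ∈ D := hxA.2.resolve_left hx1
  exact ⟨x, hxD, S, x.2, fun s hs =>
    congrArg Subtype.val (Subgroup.mem_center_iff.1 hxA.1 ⟨s, hs⟩)⟩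

/-- The stabiliser of the component of a suitable member satisfies the hypotheses of Aschbacher's
criterion. -/
theorem exists_criterion (hno : ∀ a ∈ D, ∀ b ∈ D, orderOf (a * b) ≠ 4) :
    ∃ (M : Subgroup G) (d : G), M ≠ ⊤ ∧ orderOf d = 2 ∧ d ∈ M ∧
      (∃ S : Sylow 2 G, d ∈ S ∧ ∀ s ∈ S, Commute s d) ∧
      (∀ g : G, g * d * g⁻¹ ∈ M → g ∈ M) ∧
      ∀ g : G, Commute d (g * d * g⁻¹) → g * d * g⁻¹ ≠ d →
        Subgroup.centralizer ({d * (g * d * g⁻¹)} : Set G) ≤ M := by
  have hR := h.root
  obtain ⟨d, hd, hS⟩ := h.exists_central hno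
  let M : Subgroup G :=
    { carrier := {g | CR D d (g * d * g⁻¹)}
      one_mem' := by
        show CR D d (1 * d * 1⁻¹)
        simp [Relation.ReflTransGen.refl]
      mul_mem' := fun {a b} ha hb => by
        show CR D d (a * b * d * (a * b)⁻¹)
        rw [show a * b * d * (a * b)⁻¹ = a * (b * d * b⁻¹) * a⁻¹ by group]
        exact Relation.ReflTransGen.trans ha (cr_conj hR hb a)
      inv_mem' := fun {a} ha => by
        show CR D d (a⁻¹ * d * a⁻¹⁻¹)
        have h1 := cr_symm (cr_conj hR ha a⁻¹)
        rwa [show a⁻¹ * (a * d * a⁻¹) * a⁻¹⁻¹ = d by group] at h1 }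
  refine ⟨M, d, fun e => ?_, hR.orderOf_eq d hd, ?_, hS, fun g hg => ?_, fun g hc hne x hx => ?_⟩
  · obtain ⟨a, ha, b, hb, hab⟩ := h.disconnected
    obtain ⟨g, rfl⟩ := h.cls.2.2 d hd a ha
    obtain ⟨k, rfl⟩ := h.cls.2.2 d hd b hb
    exact hab ((cr_symm (e ▸ Subgroup.mem_top g : g ∈ M)).trans (e ▸ Subgroup.mem_top k : k ∈ M))
  · show CR D d (d * d * d⁻¹)
    rw [mul_inv_cancel_right]
  · -- a member stabilising a component lies in it
    show CR D d (g * d * g⁻¹)
    set c := g * d * g⁻¹ with hc
    have hcD : c ∈ D := hR.conj_mem d hd g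
    by_contra hdc
    obtain ⟨m, hm, hmc⟩ := conj_of_odd_order (hR.orderOf_eq d hd) (hR.orderOf_eq c hcD)
      (odd_of_not_cr hR hd hcD hdc)
    have hle : Subgroup.closure ({d, c} : Set G) ≤ M := by
      rw [Subgroup.closure_le]
      rintro y (hy | hy)
      · show CR D d (y * d * y⁻¹)
        rw [hy, mul_inv_cancel_right]
      · rw [Set.mem_singleton_iff.1 hy]; exact hg
    exact hdc (hmc ▸ (show CR D d (m * d * m⁻¹) from hle hm))
  · set c := g * d * g⁻¹ with hc'
    have hcD : c ∈ D := hR.conj_mem d hd g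
    have hf : d * c ∈ D := h.closed d hd c hcD hc (Ne.symm hne)
    have h1 : CR D d (d * c) :=
      cr_of_commute hd hf ((Commute.refl d).mul_right hc)
    show CR D d (x * d * x⁻¹)
    have h2 := cr_conj hR h1 x
    have hxf : x * (d * c) * x⁻¹ = d * c := by
      rw [Subgroup.mem_centralizer_singleton_iff.1 hx, mul_inv_cancel_right]
    rw [hxf] at h2
    exact h1.trans (cr_symm h2)

end Split

end CfsgLib.RootConnect
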