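import Mathlib
import Cfsg.Agent.Lib.RootConnect.Main

/-!
Connectedness of the graph of commuting members with product in the class and generation by a
member's product partners with an odd partner.
-/

set_option autoImplicit false

namespace CfsgLib.RootConnect

open CfsgLib.Involutions CfsgLib.RootInvolutions

universe u

variable {G : Type u} [Group G] {D : Set G}

/-- Reachability in the graph of commuting members with product in the set. -/
abbrev PR (D : Set G) : G → G → Prop := Relation.ReflTransGen (Cfsg.ProdAdj D)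

theorem pr_symm {a b : G} (h : PR D a b) : PR D b a := by
  induction h with
  | refl => exact Relation.ReflTransGen.refl
  | tail _ h ih =>
    exact ih.head ⟨h.2.1, h.1, h.2.2.1.symm, h.2.2.2.1.symm, h.2.2.2.1 ▸ h.2.2.2.2⟩

theorem pr_conj (hD : Cfsg.IsRootInvolutionSet D) {a b : G} (h : PR D a b) (g : G) :
    PR D (g * a * g⁻¹) (g * b * g⁻¹) :=
  h.lift (fun t => g * t * g⁻¹) fun x y e =>
    ⟨hD.conj_mem x e.1 g, hD.conj_mem y e.2.1 g, fun e' => e.2.2.1 (by simpa using e'), by
      calc g * x * g⁻¹ * (g * y * g⁻¹) = g * (x * y) * g⁻¹ := by group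
        _ = g * (y * x) * g⁻¹ := by rw [e.2.2.2.1]
        _ = g * y * g⁻¹ * (g * x * g⁻¹) := by group, by
      rw [show g * x * g⁻¹ * (g * y * g⁻¹) = g * (x * y) * g⁻¹ by group]
      exact hD.conj_mem _ e.2.2.2.2 g⟩

theorem pr_of_four (hD : Cfsg.IsRootInvolutionSet D) {a b : G} (ha : a ∈ D) (hb : b ∈ D)
    (h4 : orderOf (a * b) = 4) : PR D a b := by
  obtain ⟨hz, hza, hzb, e1, e2, -⟩ := four_facts hD ha hb h4
  obtain ⟨hn1, hn2⟩ := four_ne hD ha hb h4
  have h1 : Cfsg.ProdAdj D a ((a * b) ^ 2) :=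
    ⟨ha, hz, hn1.symm, hza.symm.eq, by rw [e1]; exact hD.conj_mem a ha b⟩
  have h2 : Cfsg.ProdAdj D ((a * b) ^ 2) b :=
    ⟨hz, hb, hn2, hzb.eq, by rw [hzb.eq, e2]; exact hD.conj_mem b hb a⟩
  exact (Relation.ReflTransGen.single h1).tail h2

theorem commute_or_odd_of_not_pr (hD : Cfsg.IsRootInvolutionSet D) {a b : G} (ha : a ∈ D)
    (hb : b ∈ D) (h : ¬ PR D a b) : Commute a b ∨ Odd (orderOf (a * b)) := by
  rcases hD.pair a ha b hb with e | e | e
  exacts [Or.inl e, Or.inr e, absurd (pr_of_four hD ha hb e.1) h]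

/-- Commuting of members in two components passes to their components. -/
theorem commute_of_pr (hD : Cfsg.IsRootInvolutionSet D) {a a' b : G} (ha : a ∈ D) (hb : b ∈ D)
    (hn : ¬ PR D a b) (hc : Commute a b) (h : PR D a a') : Commute a' b := by
  induction h with
  | refl => exact hc
  | @tail p q hp hpq ih =>
    have hqb : ¬ PR D q b := fun e => hn ((hp.tail hpq).trans e)
    rcases commute_or_odd_of_not_pr hD hpq.2.1 hb hqb with e | e
    · exact e
    · exact (common_commuting hD hpq.2.1 hpq.1 hb hpq.2.2.2.1.symm hpq.2.2.2.2 ih.eq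
        (fun e' => hqb (e' ▸ Relation.ReflTransGen.refl)) e).elim

theorem prodConnected_of_card_le : ∀ (n : ℕ) (G : Type u) [Group G] [Finite G] (D : Set G),
    Nat.card G ≤ n → Cfsg.IsNondegenerateRootInvolutionSet D → Cfsg.IsRootInvolutionClass D →
      Cfsg.IsConnectedSet (Cfsg.ProdAdj D) D := by
  intro n
  induction n with
  | zero =>
    intro G _ _ D hn
    exact absurd hn (by have := Nat.card_pos (α := G); omega)
  | succ n ih =>
    intro G _ _ D hn hnd hcl
    have hR := hnd.1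
    have hodd := oddConnected hnd hcl
    have hcomm := commConnected_of_card_le (n + 1) G D hn hnd hcl
    -- commuting between components is transitive
    have htrans : ∀ a ∈ D, ∀ b ∈ D, ∀ c ∈ D, Commute a b → Commute b c → ¬ PR D a b → ¬ PR D b c →
        ¬ PR D a c → Commute a c := by
      intro a ha b hb c hc hab hbc hnab hnbc hnac
      by_contra hncomm
      have hac : Odd (orderOf (a * c)) :=
        (commute_or_odd_of_not_pr hR ha hc hnac).resolve_left hncomm
      set P : Set G := {x | x ∈ D ∧ (PR D a x ∨ PR D c x)} with hP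
      set L := Subgroup.closure P with hL
      have hPL : ∀ {x}, x ∈ P → x ∈ L := fun hx => Subgroup.subset_closure hx
      have haP : a ∈ P := ⟨ha, Or.inl Relation.ReflTransGen.refl⟩
      have hcP : c ∈ P := ⟨hc, Or.inr Relation.ReflTransGen.refl⟩
      have hconj : ∀ {x y : G}, x ∈ P → y ∈ P → Odd (orderOf (x * y)) →
          ∃ g ∈ L, g * x * g⁻¹ = y := fun {x y} hx hy ho => by
        obtain ⟨g, hg, hge⟩ := conj_of_odd_order (hR.orderOf_eq x hx.1) (hR.orderOf_eq y hy.1) ho
        refine ⟨g, (Subgroup.closure_le L).2 ?_ hg, hge⟩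
        rintro _ (rfl | rfl)
        exacts [hPL hx, hPL hy]
      set S : Set G := {x | ∃ g ∈ L, g * a * g⁻¹ = x} with hS
      have hPS : ∀ x ∈ P, x ∈ S := by
        intro x hx
        obtain ⟨k, hk, hke⟩ := hconj haP hcP hac
        rcases hx.2 with e | e
        · have hnxc : ¬ PR D x c := fun e' => hnac (e.trans e')
          have ho : Odd (orderOf (c * x)) := by
            refine (odd_comm hR hc hx.1).2
              ((commute_or_odd_of_not_pr hR hx.1 hc hnxc).resolve_left fun e' => hncomm ?_)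
            exact commute_of_pr hR hx.1 hc hnxc e' (pr_symm e)
          obtain ⟨g, hg, hge⟩ := hconj hcP hx ho
          exact ⟨g * k, mul_mem hg hk, by rw [← hge, ← hke]; group⟩
        · have hnxa : ¬ PR D a x := fun e' => hnac (e'.trans (pr_symm e))
          have ho : Odd (orderOf (a * x)) := by
            refine (commute_or_odd_of_not_pr hR ha hx.1 hnxa).resolve_left fun e' => hncomm ?_
            exact (commute_of_pr hR hx.1 ha (fun h' => hnxa (pr_symm h')) e'.symm (pr_symm e)).symm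
          exact hconj haP hx ho
      have hSD : S ⊆ D := by
        rintro _ ⟨g, -, rfl⟩; exact hR.conj_mem a ha g
      have hLS : L = Subgroup.closure S := by
        refine le_antisymm (Subgroup.closure_mono hPS) ((Subgroup.closure_le _).2 ?_)
        rintro _ ⟨g, hg, rfl⟩
        exact mul_mem (mul_mem hg (hPL haP)) (inv_mem hg)
      have hcl' : ∀ x ∈ S, ∀ y ∈ D, PR D x y → y ∈ S := by
        rintro _ ⟨g, hg, rfl⟩ y hy hxy
        have h1 := pr_conj hR hxy g⁻¹
        rw [show g⁻¹ * (g * a * g⁻¹) * g⁻¹⁻¹ = a by group] at h1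
        obtain ⟨k, hk, hke⟩ := hPS _ ⟨hR.conj_mem y hy _, Or.inl h1⟩
        exact ⟨g * k, mul_mem hg hk, by
          calc g * k * a * (g * k)⁻¹ = g * (k * a * k⁻¹) * g⁻¹ := by group
            _ = y := by rw [hke]; group⟩
      have hLne : L ≠ ⊤ := by
        intro e
        have hle : L ≤ Subgroup.centralizer ({b} : Set G) := by
          refine (Subgroup.closure_le _).2 fun x hx => Subgroup.mem_centralizer_singleton_iff.2 ?_
          rcases hx.2 with e' | e'
          · exact (commute_of_pr hR ha hb hnab hab e').eq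
          · exact (commute_of_pr hR hc hb (fun h' => hnbc (pr_symm h')) hbc.symm e').eq
        obtain ⟨q, hq⟩ : ∃ q, Cfsg.OddAdj D b q := by
          rcases (hodd b hb a ha).cases_head with e' | ⟨q, hq, -⟩
          · exact absurd (e' ▸ Relation.ReflTransGen.refl) hnab
          · exact ⟨q, hq⟩
        exact odd_not_commute hR hb hq.2.1 hq.2.2.1.symm hq.2.2.2
          (Subgroup.mem_centralizer_singleton_iff.1 (hle (e ▸ Subgroup.mem_top q))).symm
      obtain ⟨v, hv, h4⟩ : ∃ v ∈ D, orderOf (a * v) = 4 := by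
        obtain ⟨-, -, -, u₀, hu₀, v₀, hv₀, h40⟩ := hnd
        obtain ⟨g, rfl⟩ := hcl.2.2 u₀ hu₀ a ha
        refine ⟨g * v₀ * g⁻¹, hR.conj_mem _ hv₀ g, ?_⟩
        rw [show g * u₀ * g⁻¹ * (g * v₀ * g⁻¹) = g * (u₀ * v₀) * g⁻¹ by group, orderOf_conj_eq, h40]
      obtain ⟨hE, hEc⟩ := restrict hR hSD (hPS a haP)
        (fun x hx g hg => by
          obtain ⟨k, hk, rfl⟩ := hx
          exact ⟨g * k, mul_mem (hLS.ge hg) hk, by group⟩)
        (fun x hx => by
          obtain ⟨k, hk, hkx⟩ := hx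
          exact ⟨k, hLS.le hk, hkx⟩)
        (fun x hx y hy h' => by
          obtain ⟨hz, hzx, -, e1, -, -⟩ := four_facts hR (hSD hx) (hSD hy) h'
          refine hcl' x hx _ hz (Relation.ReflTransGen.single
            ⟨hSD hx, hz, (four_ne hR (hSD hx) (hSD hy) h').1.symm, hzx.symm.eq, ?_⟩)
          rw [e1]; exact hR.conj_mem x (hSD hx) y)
        ⟨a, hPS a haP, c, hPS c hcP, fun e => hnac (e ▸ Relation.ReflTransGen.refl), hac⟩
        ⟨a, hPS a haP, v, hcl' a (hPS a haP) v hv (pr_of_four hR ha hv h4), h4⟩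
      have hcard : Nat.card (Subgroup.closure S) ≤ n := by
        have h1 : Nat.card (Subgroup.closure S) < Nat.card G := by
          refine lt_of_le_of_ne (Subgroup.card_le_card_group _) fun e => hLne ?_
          rw [hLS]
          exact Subgroup.eq_top_of_card_eq _ e
        omega
      have h1 := ih (Subgroup.closure S) _ hcard hE hEc
        ⟨a, Subgroup.subset_closure (hPS a haP)⟩ (hPS a haP)
        ⟨c, Subgroup.subset_closure (hPS c hcP)⟩ (hPS c hcP)
      exact hnac (h1.lift Subtype.val fun x y e =>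
        ⟨hSD e.1, hSD e.2.1, fun e' => e.2.2.1 (Subtype.ext e'),
          congrArg Subtype.val e.2.2.2.1, hSD e.2.2.2.2⟩)
    -- any two members are in one component or commute
    have hrel : ∀ a ∈ D, ∀ b ∈ D, PR D a b ∨ Commute a b := by
      intro a ha b hb
      have key : ∀ x, CR D a x → PR D a x ∨ Commute a x := by
        intro x hx
        induction hx with
        | refl => exact Or.inl Relation.ReflTransGen.refl
        | @tail x y _ hxy ih =>
          by_cases hay : PR D a y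
          · exact Or.inl hay
          refine Or.inr ?_
          by_cases hax : PR D a x
          · exact commute_of_pr hR hxy.1 hxy.2.1 (fun e => hay (hax.trans e)) hxy.2.2.2 (pr_symm hax)
          have hc := ih.resolve_left hax
          by_cases hxy' : PR D x y
          · exact (commute_of_pr hR hxy.1 ha (fun e => hax (pr_symm e)) hc.symm hxy').symm
          · exact htrans a ha x hxy.1 y hxy.2.1 hc hxy.2.2.2 hax hxy' hay
      exact key b (hcomm a ha b hb)
    intro a ha b hb
    have h1 := hodd a ha b hb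
    induction h1 with
    | refl => exact Relation.ReflTransGen.refl
    | @tail x y _ hxy ih =>
      refine (ih hxy.1).trans ((hrel x hxy.1 y hxy.2.1).resolve_right fun e => ?_)
      exact odd_not_commute hR hxy.1 hxy.2.1 hxy.2.2.1.symm hxy.2.2.2 e.eq

/-- A member, its product partners and an odd partner generate the group. -/
theorem generation [Finite G] (hnd : Cfsg.IsNondegenerateRootInvolutionSet D)
    (hcl : Cfsg.IsRootInvolutionClass D) {d x : G} (hd : d ∈ D)
    (hx : x ∈ Cfsg.oddPartners D d) :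
    Subgroup.closure (Cfsg.productPartners D d ∪ {x}) = ⊤ := by
  classical
  obtain ⟨hxD, hxd, hdx⟩ := hx
  have hR := hnd.1
  have hodd := oddConnected hnd hcl
  set K := Subgroup.closure (Cfsg.productPartners D d ∪ {x}) with hK
  have hXK : ∀ {e}, e ∈ Cfsg.productPartners D d → e ∈ K := fun he =>
    Subgroup.subset_closure (Or.inl he)
  have hxK : x ∈ K := Subgroup.subset_closure (Or.inr rfl)
  have hdK : d ∈ K := by
    obtain ⟨-, -, -, u₀, hu₀, v₀, hv₀, h40⟩ := hnd
    obtain ⟨g, rfl⟩ := hcl.2.2 u₀ hu₀ d hd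
    have hu := hR.conj_mem u₀ hu₀ g
    have hv := hR.conj_mem v₀ hv₀ g
    have h4 : orderOf (g * u₀ * g⁻¹ * (g * v₀ * g⁻¹)) = 4 := by
      rw [show g * u₀ * g⁻¹ * (g * v₀ * g⁻¹) = g * (u₀ * v₀) * g⁻¹ by group, orderOf_conj_eq, h40]
    obtain ⟨hz, hzu, -, e1, -, -⟩ := four_facts hR hu hv h4
    set d' := g * u₀ * g⁻¹
    set z := (d' * (g * v₀ * g⁻¹)) ^ 2
    have hzd : z * d' ∈ D := by rw [hzu.eq, e1]; exact hR.conj_mem _ hu _
    have h1 : z ∈ K := hXK ⟨⟨hz, hzu.eq, (four_ne hR hu hv h4).1⟩, hzd⟩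
    have h2 : z * d' ∈ K := hXK ⟨⟨hzd, by
        rw [hzu.eq, mul_assoc, hzu.eq], fun e => ne_one_of_involution (hR.orderOf_eq z hz)
          (mul_eq_right.1 e)⟩, by rw [mul_assoc, root_mul_self hR hu, mul_one]; exact hz⟩
    have h3 := mul_mem (inv_mem h1) h2
    rwa [inv_mul_cancel_left] at h3
  let Ψ : Set G := {e | ∃ k ∈ K, k * d * k⁻¹ = e}
  have hΨD : ∀ e ∈ Ψ, e ∈ D := by rintro _ ⟨k, -, rfl⟩; exact hR.conj_mem d hd k
  have hΨK : ∀ e ∈ Ψ, e ∈ K := by
    rintro _ ⟨k, hk, rfl⟩; exact mul_mem (mul_mem hk hdK) (inv_mem hk)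
  have hdΨ : d ∈ Ψ := ⟨1, one_mem K, by group⟩
  have hstep : ∀ {p r : G}, p ∈ Ψ → r ∈ D → r ∈ K → Odd (orderOf (p * r)) → r ∈ Ψ := by
    rintro _ r ⟨k, hk, rfl⟩ hr hrK ho
    obtain ⟨g, hg, rfl⟩ := conj_of_odd_order (hR.orderOf_eq _ (hR.conj_mem d hd k))
      (hR.orderOf_eq r hr) ho
    refine ⟨g * k, mul_mem ((Subgroup.closure_le K).2 ?_ hg) hk, by group⟩
    rintro _ (rfl | rfl)
    exacts [mul_mem (mul_mem hk hdK) (inv_mem hk), hrK]
  have hxΨ : x ∈ Ψ := hstep hdΨ hxD hxK hdx
  have hX : ∀ e ∈ Cfsg.productPartners D d, e ∈ Ψ := by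
    intro e he
    by_contra hne
    have heK := hXK he
    obtain ⟨⟨heD, hed, hne'⟩, hfD⟩ := he
    have hfK : e * d ∈ K := mul_mem heK hdK
    have hex : ¬ Odd (orderOf (x * e)) := fun ho => hne (hstep hxΨ heD heK ho)
    have hfΨ : e * d ∈ Ψ := by
      by_contra hf
      refine odd_partner_splits hR hd heD hxD hed.symm hfD hxd.symm hdx (fun ho => hex ?_)
        (fun ho => hf ?_)
      · exact (odd_comm hR heD hxD).1 ho
      · exact hstep hxΨ hfD hfK ((odd_comm hR hfD hxD).1 ho)
    have hiso : ∀ q ∈ D, q ∈ K → e ≠ q → ¬ Odd (orderOf (e * q)) := by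
      intro q hq hqK hneq ho
      refine hne (hstep (p := q) ?_ heD heK ((odd_comm hR heD hq).1 ho))
      by_contra hqn
      refine odd_partner_splits hR heD hd hq hed (by rw [← hed]; exact hfD) hneq ho
        (fun ho' => hqn (hstep hdΨ hq hqK ho')) (fun ho' => hqn (hstep hfΨ hq hqK ?_))
      rw [← hed] at ho'; exact ho'
    -- a member `t` with `(e t)² = d`
    obtain ⟨q, hq, hqd⟩ : ∃ q ∈ Cfsg.oddPartners D e, q ∉ Cfsg.oddPartners D d := by
      by_contra hcon
      push Not at hcon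
      have heq := oddPartners_eq_of_subset hR hodd heD hd hcon
      have h1 : x ∈ Cfsg.oddPartners D e := heq.symm ▸ ⟨hxD, hxd, hdx⟩
      exact hex ((odd_comm hR heD hxD).1 h1.2.2)
    have hdXe : d ∈ Cfsg.productPartners D e :=
      ⟨⟨hd, hed.symm, hne'.symm⟩, by rw [← hed]; exact hfD⟩
    have hdq : ¬ Odd (orderOf (d * q)) := fun ho => hqd ⟨hq.1, fun e' => by
      rw [e'] at hq
      exact odd_not_commute hR heD hd hq.2.1 hq.2.2 hed, ho⟩
    obtain ⟨t, ht, h4, hts⟩ := exists_reverse hR heD hdXe hq hdq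
    obtain ⟨-, -, hzt, e1, e2, -⟩ := four_facts hR heD ht h4
    rw [hts] at hzt e1 e2
    have htK : t ∈ K := hXK ⟨⟨ht, hzt.symm.eq, fun e' => by
      have := (four_ne hR heD ht h4).2
      rw [hts, e'] at this
      exact this rfl⟩, by rw [e2]; exact hR.conj_mem t ht e⟩
    set W : Set K := {w | (w : G) ∈ D ∧ ∀ q ∈ D, q ∈ K → (w : G) ≠ q → ¬ Odd (orderOf ((w : G) * q))}
      with hW
    have hWinv : ∀ g : K, ∀ w ∈ W, g * w * g⁻¹ ∈ W := by
      intro g w hw
      refine ⟨hR.conj_mem _ hw.1 g, fun q hq hqK hne ho => ?_⟩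
      refine hw.2 _ (hR.conj_mem q hq (g : G)⁻¹)
        (mul_mem (mul_mem (inv_mem g.2) hqK) (inv_mem (inv_mem g.2))) (fun e' => hne ?_) ?_
      · push_cast
        rw [e', inv_inv]; group
      · rw [← orderOf_conj_eq (g : G)]
        rw [show (g : G) * ((w : G) * ((g : G)⁻¹ * q * (g : G)⁻¹⁻¹)) * (g : G)⁻¹
          = (g : G) * w * (g : G)⁻¹ * q by group]
        exact ho
    have : Fact (Nat.Prime 2) := ⟨Nat.prime_two⟩
    have hco : ∀ w ∈ W, orderOf w = 2 := fun w hw => by
      rw [← Subgroup.orderOf_coe]; exact hR.orderOf_eq _ hw.1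
    have hp : IsPGroup 2 (Subgroup.closure W) := by
      refine isPGroup_closure_of_pairwise hWinv fun a ha b hb => ?_
      have h4' : ((a : G) * b) ^ (2 ^ 2) = 1 := by
        by_cases hab : (a : G) = b
        · rw [← hab, root_mul_self hR ha.1, one_pow]
        · exact not_odd_pow_four hR ha.1 hb.1 (ha.2 b hb.1 b.2 hab)
      obtain ⟨k, -, hk⟩ := (Nat.dvd_prime_pow Nat.prime_two).mp (orderOf_dvd_of_pow_eq_one h4')
      rw [← Subgroup.coe_mul, Subgroup.orderOf_coe] at hk
      exact isPGroup_two_closure_pair (hco a ha) (hco b hb) hk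
    have heW : (⟨e, heK⟩ : K) ∈ W := ⟨heD, fun q hq hqK hne => hiso q hq hqK hne⟩
    set P := (Subgroup.closure W).map K.subtype with hPdef
    have hdP : d ∈ P := by
      refine ⟨⟨e, heK⟩ * (⟨t, htK⟩ * ⟨e, heK⟩ * (⟨t, htK⟩ : K)⁻¹),
        mul_mem (Subgroup.subset_closure heW) (Subgroup.subset_closure (hWinv _ _ heW)), ?_⟩
      show e * (t * e * t⁻¹) = d
      rw [← e1, ← mul_assoc, root_mul_self hR heD, one_mul]
    have hxP : x ∈ P := by
      obtain ⟨k, hk, hkx⟩ := hxΨ
      obtain ⟨p, hp', hpd⟩ := hdP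
      refine ⟨⟨k, hk⟩ * p * (⟨k, hk⟩ : K)⁻¹, ?_, ?_⟩
      · have hle : Subgroup.closure W ≤
            (Subgroup.closure W).comap (MulAut.conj (⟨k, hk⟩ : K)).toMonoidHom :=
          (Subgroup.closure_le _).2 fun w hw => Subgroup.subset_closure (hWinv _ w hw)
        exact hle hp'
      · show k * (p : G) * k⁻¹ = x
        rw [show (p : G) = d from hpd, hkx]
    exact hxd (eq_of_odd_of_two hR (hp.map K.subtype) hd hdP hxP hdx).symm
  rw [eq_top_iff, ← hR.generates, Subgroup.closure_le]
  intro b hb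
  refine hΨK b ?_
  have h1 := prodConnected_of_card_le (Nat.card G) G D le_rfl hnd hcl d hd b hb
  induction h1 with
  | refl => exact hdΨ
  | @tail p q _ hpq ih =>
    obtain ⟨k, hk, hkp⟩ := ih hpq.1
    have h2 : k⁻¹ * q * k ∈ Cfsg.productPartners D d := by
      have hd' : k⁻¹ * p * k = d := by rw [← hkp]; group
      have hq' : k⁻¹ * q * k ∈ D := by
        have := hR.conj_mem q hpq.2.1 k⁻¹
        rwa [inv_inv] at this
      refine ⟨⟨hq', ?_, fun e => hpq.2.2.1 ?_⟩, ?_⟩
      · rw [← hd']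
        calc k⁻¹ * q * k * (k⁻¹ * p * k) = k⁻¹ * (q * p) * k := by group
          _ = k⁻¹ * (p * q) * k := by rw [hpq.2.2.2.1]
          _ = k⁻¹ * p * k * (k⁻¹ * q * k) := by group
      · rw [← hd'] at e
        simpa using e.symm
      · rw [← hd', show k⁻¹ * q * k * (k⁻¹ * p * k) = k⁻¹ * (q * p) * k by group, ← hpq.2.2.2.1]
        have := hR.conj_mem _ hpq.2.2.2.2 k⁻¹
        rwa [inv_inv] at this
    obtain ⟨j, hj, hje⟩ := hX _ h2
    exact ⟨k * j, mul_mem hk hj, by
      calc k * j * d * (k * j)⁻¹ = k * (j * d * j⁻¹) * k⁻¹ := by group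
        _ = q := by rw [hje]; group⟩

end CfsgLib.RootConnect
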