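import Mathlib
import Cfsg.Agent.Lib.RootConnect.Product

/-!
A weak TI-subset of a non-degenerate class of root involutions consists of commuting members.
-/

set_option autoImplicit false

namespace CfsgLib.RootConnect

open CfsgLib.Involutions CfsgLib.RootInvolutions

universe u

variable {G : Type u} [Group G] {D T : Set G}

/-- No configuration with `(s z)² = a`, `s = (a b)²` and `z` commuting with `a` and with `b z b`. -/
theorem false_of_config {a b s z : G} (ha : a * a = 1) (ha1 : a ≠ 1) (hb : b * b = 1) (hz : z * z = 1)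
    (hs : s * s = 1) (hab : b * a * b = a * s) (hbs : Commute b s) (has : Commute a s)
    (haz : Commute a z) (hsz : (s * z) ^ 2 = a) (hzz : Commute z (b * z * b)) : False := by
  set r := z * (b * z * b) with hr
  have hz' : b * z * b = z * r := by rw [hr, ← mul_assoc z z, hz, one_mul]
  have hzr : Commute z r := (Commute.refl z).mul_right hzz
  have hrr : r * r = 1 := by
    have h2 : b * z * b * (b * z * b) = 1 := by
      calc b * z * b * (b * z * b) = b * z * (b * b) * z * b := by group
        _ = b * (z * z) * b := by rw [hb, mul_one]; group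
        _ = 1 := by rw [hz, mul_one, hb]
    calc r * r = z * (b * z * b * z) * (b * z * b) := by rw [hr]; group
      _ = z * z * (b * z * b * (b * z * b)) := by rw [← hzz.eq]; group
      _ = 1 := by rw [hz, h2, one_mul]
  have hszsz : s * z * (s * z) = a := by rw [← pow_two, hsz]
  have hzsz : z * s * z = s * a := by
    calc z * s * z = s * s * (z * s * z) := by rw [hs, one_mul]
      _ = s * (s * z * (s * z)) := by group
      _ = s * a := by rw [hszsz]
  have hszs : s * z * s = a * z := by
    calc s * z * s = s * z * (s * z) * z := by rw [mul_assoc _ (s * z) z, mul_assoc s z z, hz, mul_one]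
      _ = a * z := by rw [hszsz]
  have hconj : s * z * r * (s * z * r) = a * s := by
    have h1 : b * s * b = s := by rw [hbs.eq, mul_assoc, hb, mul_one]
    calc s * z * r * (s * z * r) = s * (z * r) * (s * (z * r)) := by group
      _ = b * s * b * (b * z * b) * (b * s * b * (b * z * b)) := by rw [h1, hz']
      _ = b * s * (b * b) * z * (b * b) * s * (b * b) * z * b := by group
      _ = b * (s * z * (s * z)) * b := by simp only [hb, mul_one]; group
      _ = a * s := by rw [hszsz, hab]
  -- second form
  have h2 : s * r * s * (a * r) = a * s := by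
    calc s * r * s * (a * r) = s * r * (s * a) * r := by group
      _ = s * r * (z * s * z) * r := by rw [hzsz]
      _ = s * (r * z) * s * z * r := by group
      _ = a * s := by rw [← hzr.eq, ← hconj]; group
  have hsrs : s * r * s = a * s * (r * a) := by
    calc s * r * s = s * r * s * (a * r) * (r * a) := by
          rw [mul_assoc _ (a * r), show a * r * (r * a) = a * (r * r) * a by group, hrr, mul_one, ha,
            mul_one]
      _ = a * s * (r * a) := by rw [h2]
  -- first form
  have h3 : a * z * (s * r * s) * (z * r) = a * s := by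
    calc a * z * (s * r * s) * (z * r) = s * z * s * (s * r * s) * (z * r) := by rw [hszs]
      _ = s * z * (s * s) * r * s * (z * r) := by group
      _ = a * s := by rw [hs, mul_one, ← hconj]; group
  rw [hsrs] at h3
  have h4 : s * a * (r * a * r) = a * s := by
    calc s * a * (r * a * r) = z * s * z * (r * a * r) := by rw [hzsz]
      _ = z * s * (z * r) * a * r := by group
      _ = z * s * r * (z * a) * r := by rw [hzr.eq]; group
      _ = z * s * r * a * (z * r) := by rw [← haz.eq]; group
      _ = (a * a) * z * s * r * a * (z * r) := by rw [ha, one_mul]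
      _ = a * (a * z) * s * r * a * (z * r) := by group
      _ = a * (z * a) * s * r * a * (z * r) := by rw [haz.eq]
      _ = a * s := by rw [← h3]; group
  rw [← has.eq] at h4
  have h5 : r * a * r = 1 := by
    have := mul_eq_left.1 h4
    exact this
  refine ha1 ?_
  calc a = r * r * a * (r * r) := by rw [hrr, one_mul, mul_one]
    _ = r * (r * a * r) * r := by group
    _ = 1 := by rw [h5, mul_one, hrr]

theorem exists_odd_product_partner [Finite G] (hnd : Cfsg.IsNondegenerateRootInvolutionSet D)
    (hcl : Cfsg.IsRootInvolutionClass D) {a b : G} (ha : a ∈ D) (hb : b ∈ D)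
    (h4 : orderOf (a * b) = 4)
    (hne : Cfsg.oddPartners D ((a * b) ^ 2) ≠ Cfsg.oddPartners D a) :
    ∃ z ∈ Cfsg.productPartners D a, z ∈ Cfsg.oddPartners D b := by
  have hR := hnd.1
  have hodd := oddConnected hnd hcl
  obtain ⟨hsD, hsa, hsb, e1, e2, -⟩ := four_facts hR ha hb h4
  set s := (a * b) ^ 2 with hs
  obtain ⟨q, hq, hqa⟩ := Set.not_subset.1 fun hsub =>
    hne (oddPartners_eq_of_subset hR hodd hsD ha hsub)
  have haXs : a ∈ Cfsg.productPartners D s :=
    ⟨⟨ha, hsa.symm.eq, (four_ne hR ha hb h4).1.symm⟩, by rw [e1]; exact hR.conj_mem a ha b⟩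
  have haq : ¬ Odd (orderOf (a * q)) := fun ho => hqa ⟨hq.1, fun e => by
    rw [e] at hq
    exact odd_not_commute hR hsD ha hq.2.1 hq.2.2 hsa.eq, ho⟩
  obtain ⟨z, hz, hz4, hza⟩ := exists_reverse hR hsD haXs hq haq
  obtain ⟨-, -, haz, -, e2', -⟩ := four_facts hR hsD hz hz4
  rw [hza] at haz e2'
  have hzne : z ≠ a := fun e => by
    have := (four_ne hR hsD hz hz4).2
    rw [hza, e] at this
    exact this rfl
  refine ⟨z, ⟨⟨hz, haz.symm.eq, hzne⟩, by rw [e2']; exact hR.conj_mem z hz s⟩, hz, fun e => ?_, ?_⟩
  · rw [e] at haz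
    exact not_commute_of_four hR ha hb h4 haz
  by_contra ho
  have h44 := not_odd_pow_four hR hb hz ho
  have hbb := root_mul_self hR hb
  have hzz := root_mul_self hR hz
  refine false_of_config (root_mul_self hR ha) (ne_one_of_involution (hR.orderOf_eq a ha)) hbb hzz
    (root_mul_self hR hsD) ?_ hsb.symm hsa.symm haz hza ?_
  · rw [e1, root_inv hR hb]
  · show z * (b * z * b) = b * z * b * z
    calc z * (b * z * b) = ((b * z) ^ 2)⁻¹ := by
          rw [pow_two, mul_inv_rev, mul_inv_rev, root_inv hR hb, root_inv hR hz]; group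
      _ = (b * z) ^ 2 := by
          refine inv_eq_of_mul_eq_one_right ?_
          rw [← pow_add]; exact h44
      _ = b * z * b * z := by rw [pow_two]; group

/-- Members of a weak TI-subset commute. -/
theorem weakTI_commute [Finite G] (hnd : Cfsg.IsNondegenerateRootInvolutionSet D)
    (hcl : Cfsg.IsRootInvolutionClass D) (hT : Cfsg.IsWeakTISubsetOfElements D T) {a b : G}
    (ha : a ∈ T) (hb : b ∈ T) : Commute a b := by
  have hR := hnd.1
  obtain ⟨hTD, -, hTne, hTI⟩ := hT
  set NT := Subgroup.normalizer T with hNT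
  have hstab : ∀ d ∈ D, ∀ t ∈ T, d * t * d⁻¹ ∈ T → d ∈ NT := fun d hd t ht hdt => by
    rw [hNT, Subgroup.mem_normalizer_iff_conj_image_eq]
    rcases hTI d hd with e | e
    · exact e
    · exact absurd hdt (Set.disjoint_left.1 e ⟨t, ht, rfl⟩)
  have hcomm : ∀ d ∈ D, ∀ t ∈ T, Commute d t → d ∈ NT := fun d hd t ht hc =>
    hstab d hd t ht (by rw [hc.eq, mul_inv_cancel_right]; exact ht)
  have hgen : ∀ t ∈ T, ∀ x ∈ NT, x ∈ Cfsg.oddPartners D t → False := by
    intro t ht x hx hxo
    have h1 : NT = ⊤ := by
      rw [eq_top_iff, ← generation hnd hcl (hTD ht) hxo, Subgroup.closure_le]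
      rintro e (he | he)
      · exact hcomm e he.1.1 t ht he.1.2.1
      · rw [Set.mem_singleton_iff.1 he]; exact hx
    refine hTne (Set.Subset.antisymm hTD fun d hd => ?_)
    obtain ⟨g, rfl⟩ := hcl.2.2 t (hTD ht) d hd
    exact (Subgroup.mem_set_normalizer_iff.1 (h1 ▸ Subgroup.mem_top g : g ∈ NT) t).1 ht
  have haD := hTD ha
  have hbD := hTD hb
  rcases hR.pair a haD b hbD with h | h | ⟨h4, -⟩
  · exact h
  · rcases eq_or_ne b a with e | hne
    · rw [e]
    · exact (hgen a ha b (hcomm b hbD b hb (Commute.refl b)) ⟨hbD, hne, h⟩).elim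
  · exfalso
    obtain ⟨hsD, hsa, hsb, e1, e2, hsym⟩ := four_facts hR haD hbD h4
    have h4' : orderOf (b * a) = 4 := by
      rw [← orderOf_inv, mul_inv_rev, root_inv hR haD, root_inv hR hbD]; exact h4
    by_cases hsA : Cfsg.oddPartners D ((a * b) ^ 2) = Cfsg.oddPartners D a
    · by_cases hsB : Cfsg.oddPartners D ((b * a) ^ 2) = Cfsg.oddPartners D b
      · refine same_oddPartners_not_four hR (oddConnected hnd hcl) haD hbD ?_ h4
        rw [← hsB, hsym, hsA]
      · obtain ⟨z, hz, hzo⟩ := exists_odd_product_partner hnd hcl hbD haD h4' hsB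
        exact hgen a ha z (hcomm z hz.1.1 b hb hz.1.2.1) hzo
    · obtain ⟨z, hz, hzo⟩ := exists_odd_product_partner hnd hcl haD hbD h4 hsA
      exact hgen b hb z (hcomm z hz.1.1 a ha hz.1.2.1) hzo

end CfsgLib.RootConnect
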